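import Cfsg.Agent.H98.Ore.Defs

/-!
# S2446, task T9: two field computations
-/

set_option autoImplicit false

namespace Cfsg.Agent.H588.Ore

open Module Polynomial Cfsg.Agent.H951 Matrix Cfsg.Agent.H98.Ore Cfsg.Agent.LieClassical.HermBasic

section

variable {F : Type*} [Field F] {σ : F →+* F} {γ₁ γ₂ κ : F}

theorem blk_mul (s₁ s₂ β : F) : !![s₁, β; -σ β, s₂] * !![γ₁, κ; 0, γ₂] =
    !![s₁ * γ₁, s₁ * κ + β * γ₂; -σ β * γ₁, -σ β * κ + s₂ * γ₂] := by
  rw [Matrix.mul_fin_two]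
  congr 1
  simp

theorem blk_det (s₁ s₂ β : F) : (!![s₁, β; -σ β, s₂] * !![γ₁, κ; 0, γ₂]).det =
    (s₁ * s₂ + β * σ β) * (γ₁ * γ₂) := by
  rw [blk_mul, Matrix.det_fin_two_of]
  ring

theorem blk_trace (s₁ s₂ β : F) : (!![s₁, β; -σ β, s₂] * !![γ₁, κ; 0, γ₂]).trace =
    s₁ * γ₁ + s₂ * γ₂ - σ β * κ := by
  rw [blk_mul, Matrix.trace_fin_two_of]
  ring

theorem blk_charpoly (s₁ s₂ β : F) : (!![s₁, β; -σ β, s₂] * !![γ₁, κ; 0, γ₂]).charpoly =
    X ^ 2 - C (s₁ * γ₁ + s₂ * γ₂ - σ β * κ) * X + C ((s₁ * s₂ + β * σ β) * (γ₁ * γ₂)) := by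
  rw [Matrix.charpoly_fin_two, blk_det, blk_trace]

/-- The polynomial with roots `x`, `y`. -/
theorem blk_charpoly_of {s₁ s₂ β x y : F} (ht : s₁ * γ₁ + s₂ * γ₂ - σ β * κ = x + y)
    (hd : (s₁ * s₂ + β * σ β) * (γ₁ * γ₂) = x * y) :
    (!![s₁, β; -σ β, s₂] * !![γ₁, κ; 0, γ₂]).charpoly = (X - C x) * (X - C y) := by
  rw [blk_charpoly, ht, hd, C_add, C_mul]
  ring

end

theorem exists_i0 {F : Type*} [Field F] [Fintype F] {q : ℕ} (hF : Fintype.card F = q ^ 2)
    {σ : F →+* F} (hσ : ∀ a, σ a = a ^ q) : ∃ i : F, i ≠ 0 ∧ σ i = -i := by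
  obtain ⟨i, hi, h⟩ := exists_trace_zero_ne hF
  exact ⟨i, hi, by rw [hσ]; exact eq_neg_of_add_eq_zero_right h⟩

theorem exists_nrm {F : Type*} [Field F] [Fintype F] {q : ℕ} (hF : Fintype.card F = q ^ 2)
    {σ : F →+* F} (hσ : ∀ a, σ a = a ^ q) {D : F} (hD : σ D = D) : ∃ β : F, β * σ β = D := by
  rw [hσ] at hD
  obtain ⟨β, h⟩ := exists_norm_eq hF hD
  exact ⟨β, by rw [hσ]; exact h⟩

theorem sig_sig {F : Type*} [Field F] [Fintype F] {q : ℕ} (hF : Fintype.card F = q ^ 2)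
    {σ : F →+* F} (hσ : ∀ a, σ a = a ^ q) (a : F) : σ (σ a) = a := by
  rw [hσ, hσ]
  exact pow_q_pow_q hF a

theorem pl1 {F : Type*} [Field F] [Fintype F] {q : ℕ} (hF : Fintype.card F = q ^ 2) {σ : F →+* F}
    (hσ : ∀ a, σ a = a ^ q) {γ₁ γ₂ κ D : F} (h₁ : γ₁ ≠ 0) (h₂ : γ₂ ≠ 0) (hD : D ≠ 0)
    (hD' : σ D = D) (x : F) :
    ∃ s₁ s₂ β : F, σ s₁ = -s₁ ∧ σ s₂ = -s₂ ∧
      (!![s₁, β; -σ β, s₂] * !![γ₁, κ; 0, γ₂]).det = γ₁ * γ₂ * D ∧
      (!![s₁, β; -σ β, s₂] * !![γ₁, κ; 0, γ₂]).charpoly.eval x ≠ 0 := by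
  obtain ⟨i, hi, hi'⟩ := exists_i0 hF hσ
  obtain ⟨β, hβ⟩ := exists_nrm hF hσ hD'
  have key : ∀ s₂ : F, (!![(0 : F), β; -σ β, s₂] * !![γ₁, κ; 0, γ₂]).charpoly.eval x =
      x ^ 2 - (s₂ * γ₂ - σ β * κ) * x + D * (γ₁ * γ₂) := by
    intro s₂
    rw [blk_charpoly, zero_mul, zero_add, zero_mul, zero_add, hβ]
    simp
  by_cases h : (!![(0 : F), β; -σ β, 0] * !![γ₁, κ; 0, γ₂]).charpoly.eval x = 0
  · refine ⟨0, i, β, by rw [map_zero, neg_zero], hi', ?_, ?_⟩
    · rw [blk_det, hβ]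
      ring
    · intro h'
      rw [key] at h h'
      have h3 : i * γ₂ * x = 0 := by linear_combination h - h'
      have h4 : x = 0 := by
        rcases mul_eq_zero.1 h3 with h5 | h5
        · exact absurd h5 (mul_ne_zero hi h₂)
        · exact h5
      rw [h4] at h
      apply mul_ne_zero hD (mul_ne_zero h₁ h₂)
      linear_combination h
  · refine ⟨0, 0, β, by rw [map_zero, neg_zero], by rw [map_zero, neg_zero], ?_, h⟩
    rw [blk_det, hβ]
    ring

/-- `q ≥ 4` : diagonal block. -/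
theorem pl2_big {F : Type*} [Field F] [Fintype F] {q : ℕ} (hF : Fintype.card F = q ^ 2)
    {σ : F →+* F} (hσ : ∀ a, σ a = a ^ q) (hq : 4 ≤ q) {γ₁ γ₂ κ D : F} (h₁ : γ₁ ≠ 0)
    (hD : D ≠ 0) (hD' : σ D = D) :
    ∃ s₁ s₂ β x y : F, σ s₁ = -s₁ ∧ σ s₂ = -s₂ ∧ x ≠ y ∧
      (!![s₁, β; -σ β, s₂] * !![γ₁, κ; 0, γ₂]).det = γ₁ * γ₂ * D ∧
      (!![s₁, β; -σ β, s₂] * !![γ₁, κ; 0, γ₂]).charpoly = (X - C x) * (X - C y) := by
  classical
  obtain ⟨i, hi, hi'⟩ := exists_i0 hF hσ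
  -- a fixed element `a ≠ 0` with `(i a)² γ₁ ≠ D γ₂`
  obtain ⟨a, ha, ha0, hne⟩ : ∃ a : F, σ a = a ∧ a ≠ 0 ∧ (i * a) ^ 2 * γ₁ ≠ D * γ₂ := by
    by_contra hcon
    push Not at hcon
    -- at most three fixed elements
    have h3 : ∃ c : F, ∀ a : F, σ a = a → a = 0 ∨ a = c ∨ a = -c := by
      by_cases hex : ∃ c : F, σ c = c ∧ c ≠ 0
      · obtain ⟨c, hc, hc0⟩ := hex
        refine ⟨c, fun a ha => ?_⟩
        by_cases ha0 : a = 0
        · exact Or.inl ha0
        · right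
          have h4 := (hcon a ha ha0).trans (hcon c hc hc0).symm
          have h5 : a ^ 2 = c ^ 2 := by
            have h6 : (i ^ 2 * γ₁) * a ^ 2 = (i ^ 2 * γ₁) * c ^ 2 := by linear_combination h4
            exact mul_left_cancel₀ (mul_ne_zero (pow_ne_zero 2 hi) h₁) h6
          exact sq_eq_sq_iff_eq_or_eq_neg.1 h5
      · push Not at hex
        exact ⟨0, fun a ha => Or.inl (hex a ha)⟩
    obtain ⟨c, hc⟩ := h3
    have h4 := card_fixed hF
    have h5 : Nat.card {x : F // x ^ q = x} ≤ Nat.card (({0, c, -c} : Finset F) : Set F) := by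
      refine Nat.card_le_card_of_injective (fun x => ⟨x.1, ?_⟩) ?_
      · rw [Finset.mem_coe, Finset.mem_insert, Finset.mem_insert, Finset.mem_singleton]
        exact hc x.1 ((hσ _).trans x.2)
      · intro x y h
        exact Subtype.ext (congrArg (fun z : (({0, c, -c} : Finset F) : Set F) => (z : F)) h)
    rw [h4] at h5
    have h6 : Nat.card (({0, c, -c} : Finset F) : Set F) ≤ 3 := by
      rw [Nat.card_coe_set_eq, Set.ncard_coe_finset]
      exact Finset.card_le_three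
    omega
  have hs : i * a ≠ 0 := mul_ne_zero hi ha0
  refine ⟨i * a, D / (i * a), 0, i * a * γ₁, D / (i * a) * γ₂, ?_, ?_, ?_, ?_, ?_⟩
  · rw [map_mul, hi', ha, neg_mul]
  · rw [map_div₀, map_mul, hi', ha, hD', neg_mul, div_neg]
  · intro h
    apply hne
    field_simp at h
    linear_combination h
  · rw [blk_det, map_zero]
    field_simp
    ring
  · apply blk_charpoly_of
    · rw [map_zero]
      ring
    · rw [map_zero]
      field_simp
      ring

/-- `q = 3` -/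
theorem pl2_three {F : Type*} [Field F] [Fintype F] (hF : Fintype.card F = 3 ^ 2)
    {σ : F →+* F} (hσ : ∀ a, σ a = a ^ 3) {γ₁ γ₂ κ D : F} (h₁ : γ₁ ≠ 0) (h₂ : γ₂ ≠ 0)
    (hD : D ≠ 0) (hD' : σ D = D) :
    ∃ s₁ s₂ β x y : F, σ s₁ = -s₁ ∧ σ s₂ = -s₂ ∧ x ≠ y ∧
      (!![s₁, β; -σ β, s₂] * !![γ₁, κ; 0, γ₂]).det = γ₁ * γ₂ * D ∧
      (!![s₁, β; -σ β, s₂] * !![γ₁, κ; 0, γ₂]).charpoly = (X - C x) * (X - C y) := by
  classical
  have h3 : (3 : F) = 0 := by
    obtain ⟨p, k, hp, hchar, hk, -⟩ := exists_prime_pow hF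
    have h4 : p = 3 := by
      have h5 : p ∣ 3 := hk ▸ dvd_pow_self p (by rintro rfl; simp at hk)
      exact (Nat.prime_dvd_prime_iff_eq hp Nat.prime_three).1 h5
    subst h4
    have h6 := CharP.cast_eq_zero F 3
    exact_mod_cast h6
  have hone : (1 : F) ≠ 0 := one_ne_zero
  have hfix : ∀ a : F, σ a = a → a ≠ 0 → a = 1 ∨ a = -1 := by
    intro a ha ha0
    rw [hσ] at ha
    have h4 : a * (a - 1) * (a + 1) = 0 := by linear_combination ha
    rcases mul_eq_zero.1 h4 with h5 | h5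
    · rcases mul_eq_zero.1 h5 with h6 | h6
      · exact absurd h6 ha0
      · exact Or.inl (sub_eq_zero.1 h6)
    · exact Or.inr (eq_neg_of_add_eq_zero_left h5)
  obtain ⟨i, hi, hi'⟩ := exists_i0 hF hσ
  have hii : i ^ 2 = -1 := by
    have h4 : σ (i ^ 2) = i ^ 2 := by rw [map_pow, hi']; ring
    rcases hfix _ h4 (pow_ne_zero 2 hi) with h5 | h5
    · exfalso
      have h6 : (i - 1) * (i + 1) = 0 := by linear_combination h5
      have h7 : σ i = i := by
        rcases mul_eq_zero.1 h6 with h8 | h8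
        · rw [sub_eq_zero.1 h8, map_one]
        · rw [eq_neg_of_add_eq_zero_left h8, map_neg, map_one]
      rw [hi'] at h7
      apply hi
      linear_combination h7 + i * h3
    · exact h5
  have hDD : D ^ 2 = 1 := by
    rcases hfix D hD' hD with h | h <;> rw [h] <;> ring
  have hDi : σ (D * i) = -(D * i) := by rw [map_mul, hD', hi']; ring
  by_cases hγ : γ₁ = -D * γ₂
  · by_cases hκ : κ = 0
    · obtain ⟨β, hβ⟩ := exists_nrm hF hσ hD'
      refine ⟨0, 0, β, γ₂, -γ₂, by rw [map_zero, neg_zero], by rw [map_zero, neg_zero], ?_, ?_, ?_⟩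
      · intro h
        apply h₂
        linear_combination (-1) * h + γ₂ * h3
      · rw [blk_det, hβ]
        ring
      · apply blk_charpoly_of
        · rw [hκ]
          ring
        · rw [hβ, hγ]
          linear_combination (-γ₂ ^ 2) * hDD
    · set β : F := σ (-(γ₂ / κ)) with hβdef
      have hβ : σ β = -(γ₂ / κ) := sig_sig hF hσ _
      have hβκ : σ β * κ = -γ₂ := by
        rw [hβ]
        field_simp
      have hβ0 : β ≠ 0 := by
        intro h
        rw [h, map_zero, zero_mul] at hβκ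
        apply h₂
        linear_combination hβκ
      have hν : σ (β * σ β) = β * σ β := by
        rw [map_mul, sig_sig hF hσ]
        ring
      have hν0 : β * σ β ≠ 0 := mul_ne_zero hβ0 (by
        intro h
        rw [h, zero_mul] at hβκ
        apply h₂
        linear_combination hβκ)
      -- the roots `-γ₂ (1 ± i)`
      have hxy : -γ₂ * (1 + i) ≠ -γ₂ * (1 - i) := by
        intro h
        have h4 : γ₂ * i = 0 := by linear_combination h + γ₂ * i * h3
        exact mul_ne_zero h₂ hi h4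
      have hν2 : β * σ β = D ∨ β * σ β = -D := by
        rcases hfix D hD' hD with h | h <;> rcases hfix _ hν hν0 with h' | h' <;>
          rw [h, h'] <;> simp
      rcases hν2 with hν2 | hν2
      · refine ⟨0, 0, β, -γ₂ * (1 + i), -γ₂ * (1 - i), by rw [map_zero, neg_zero],
          by rw [map_zero, neg_zero], hxy, ?_, ?_⟩
        · rw [blk_det, hν2]
          ring
        · apply blk_charpoly_of
          · rw [hβκ]
            linear_combination γ₂ * h3
          · rw [hν2, hγ]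
            linear_combination (-γ₂ ^ 2) * hDD + γ₂ ^ 2 * hii - γ₂ ^ 2 * h3
      · refine ⟨i, D * i, β, -γ₂ * (1 + i), -γ₂ * (1 - i), hi', hDi, hxy, ?_, ?_⟩
        · rw [blk_det, hν2]
          linear_combination D * (γ₁ * γ₂) * hii - D * (γ₁ * γ₂) * h3
        · apply blk_charpoly_of
          · rw [hβκ, hγ]
            linear_combination γ₂ * h3
          · rw [hν2, hγ]
            linear_combination (-D ^ 2 * γ₂ ^ 2 + γ₂ ^ 2) * hii + 2 * γ₂ ^ 2 * hDD
  · refine ⟨i, -(D * i), 0, i * γ₁, -(D * i) * γ₂, hi', ?_, ?_, ?_, ?_⟩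
    · rw [map_neg, hDi]
    · intro h
      apply hγ
      have h4 : i * (γ₁ - -D * γ₂) = 0 := by linear_combination h
      rcases mul_eq_zero.1 h4 with h5 | h5
      · exact absurd h5 hi
      · exact sub_eq_zero.1 h5
    · rw [blk_det, map_zero]
      linear_combination (-D) * (γ₁ * γ₂) * hii
    · apply blk_charpoly_of
      · rw [map_zero]
        ring
      · rw [map_zero]
        ring

/-- `q = 2` -/
theorem pl2_two {F : Type*} [Field F] [Fintype F] (hF : Fintype.card F = 2 ^ 2)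
    {σ : F →+* F} (hσ : ∀ a, σ a = a ^ 2) {γ₁ γ₂ κ D : F} (h₁ : γ₁ ≠ 0) (h₂ : γ₂ ≠ 0)
    (hD : D ≠ 0) (hD' : σ D = D) :
    ∃ s₁ s₂ β x y : F, σ s₁ = -s₁ ∧ σ s₂ = -s₂ ∧ x ≠ y ∧
      (!![s₁, β; -σ β, s₂] * !![γ₁, κ; 0, γ₂]).det = γ₁ * γ₂ * D ∧
      (!![s₁, β; -σ β, s₂] * !![γ₁, κ; 0, γ₂]).charpoly = (X - C x) * (X - C y) := by
  classical
  have h2 : (2 : F) = 0 := by
    have h3 : σ (1 + 1) = σ 1 + σ 1 := map_add σ 1 1
    rw [map_one, hσ] at h3
    linear_combination h3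
  have hD1 : D = 1 := by
    rw [hσ] at hD'
    have h3 : D * (D - 1) = 0 := by linear_combination hD'
    rcases mul_eq_zero.1 h3 with h4 | h4
    · exact absurd h4 hD
    · exact sub_eq_zero.1 h4
  have hcube : ∀ a : F, a ≠ 0 → a ^ 3 = 1 := by
    intro a ha
    have h3 := FiniteField.pow_card_sub_one_eq_one a ha
    rwa [hF] at h3
  have hs1 : σ (1 : F) = -1 := by
    rw [map_one]
    linear_combination h2
  have hs0 : σ (0 : F) = -0 := by rw [map_zero, neg_zero]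
  subst hD1
  by_cases hγ : γ₁ = γ₂
  · -- a root `w` of `X² + X + 1`
    obtain ⟨w, hw0, hw1⟩ : ∃ w : F, w ≠ 0 ∧ w ≠ 1 := by
      by_contra hcon
      push Not at hcon
      have h3 : Fintype.card F ≤ 2 := by
        rw [← Finset.card_univ]
        refine (Finset.card_le_card (t := {0, 1}) fun x _ => ?_).trans Finset.card_le_two
        rw [Finset.mem_insert, Finset.mem_singleton]
        by_cases hx : x = 0
        · exact Or.inl hx
        · exact Or.inr (hcon x hx)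
      omega
    have hw : w ^ 2 + w + 1 = 0 := by
      have h3 := hcube w hw0
      have h4 : (w - 1) * (w ^ 2 + w + 1) = 0 := by linear_combination h3
      rcases mul_eq_zero.1 h4 with h5 | h5
      · exact absurd (sub_eq_zero.1 h5) hw1
      · exact h5
    have hxy : γ₂ * w ≠ γ₂ * w ^ 2 := by
      intro h
      have h3 : w * (w - 1) = 0 := by
        have h4 : γ₂ * (w * (w - 1)) = 0 := by linear_combination (-1) * h
        rcases mul_eq_zero.1 h4 with h5 | h5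
        · exact absurd h5 h₂
        · exact h5
      rcases mul_eq_zero.1 h3 with h5 | h5
      · exact hw0 h5
      · exact hw1 (sub_eq_zero.1 h5)
    subst hγ
    by_cases hκ : κ = 0
    · refine ⟨1, 0, 1, γ₁ * w, γ₁ * w ^ 2, hs1, hs0, hxy, ?_, ?_⟩
      · rw [blk_det, map_one]
        ring
      · apply blk_charpoly_of
        · rw [map_one, hκ]
          linear_combination (-γ₁) * hw + γ₁ * h2
        · rw [map_one]
          linear_combination (-γ₁ ^ 2) * (hcube w hw0)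
    · set β : F := σ (γ₁ / κ) with hβdef
      have hβ : σ β = γ₁ / κ := sig_sig hF hσ _
      have hβκ : σ β * κ = γ₁ := by
        rw [hβ]
        field_simp
      have hβ0 : β ≠ 0 := by
        intro h
        rw [h, map_zero, zero_mul] at hβκ
        exact h₁ hβκ.symm
      have hν : β * σ β = 1 := by
        rw [hσ]
        linear_combination hcube β hβ0
      refine ⟨0, 0, β, γ₁ * w, γ₁ * w ^ 2, hs0, hs0, hxy, ?_, ?_⟩
      · rw [blk_det, hν]
        ring
      · apply blk_charpoly_of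
        · rw [hβκ]
          linear_combination (-γ₁) * hw
        · rw [hν]
          linear_combination (-γ₁ ^ 2) * (hcube w hw0)
  · refine ⟨1, 1, 0, γ₁, γ₂, hs1, hs1, hγ, ?_, ?_⟩
    · rw [blk_det, map_zero]
      ring
    · apply blk_charpoly_of
      · rw [map_zero]
        ring
      · rw [map_zero]
        ring

theorem pl2 {F : Type*} [Field F] [Fintype F] {q : ℕ} (hF : Fintype.card F = q ^ 2) {σ : F →+* F}
    (hσ : ∀ a, σ a = a ^ q) {γ₁ γ₂ κ D : F} (h₁ : γ₁ ≠ 0) (h₂ : γ₂ ≠ 0) (hD : D ≠ 0)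
    (hD' : σ D = D) :
    ∃ s₁ s₂ β x y : F, σ s₁ = -s₁ ∧ σ s₂ = -s₂ ∧ x ≠ y ∧
      (!![s₁, β; -σ β, s₂] * !![γ₁, κ; 0, γ₂]).det = γ₁ * γ₂ * D ∧
      (!![s₁, β; -σ β, s₂] * !![γ₁, κ; 0, γ₂]).charpoly = (X - C x) * (X - C y) := by
  have hq := two_le hF
  by_cases h4 : 4 ≤ q
  · exact pl2_big hF hσ h4 h₁ hD hD'
  · have h5 : q = 2 ∨ q = 3 := by omega
    rcases h5 with rfl | rfl
    · exact pl2_two hF hσ h₁ h₂ hD hD'
    · exact pl2_three hF hσ h₁ h₂ hD hD'

end Cfsg.Agent.H588.Ore
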