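import Mathlib
import Cfsg.Agent.H425.PartP
import Cfsg.Agent.H183.OutPSL
import Cfsg.Agent.S0813
import Cfsg.Agent.S0814
import Cfsg.Agent.S0815
import Cfsg.Agent.S0816
import Cfsg.Agent.S0817
import Cfsg.Agent.S0818

/-!
# A prime divisor of the order not dividing the order of the outer automorphism group: classical groups

`NZ p S` : some prime `r ≠ p` divides `|S|` but not `|Out S|`.
-/

set_option autoImplicit false

namespace Cfsg.Agent.H588.OutPrime

open Cfsg Subgroup Cfsg.Agent.OrdDiv Cfsg.Agent.H436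

/-- Some prime `r ≠ p` divides `|S|` but not `|Out S|`. -/
def NZ (p : ℕ) (S : Type*) [Group S] : Prop :=
  ∃ r : ℕ, r.Prime ∧ r ≠ p ∧ r ∣ Nat.card S ∧ ¬ r ∣ (MulAut.conj : S →* MulAut S).range.index

theorem index_congr {X Y : Type*} [Group X] [Group Y] (e : X ≃* Y) :
    (MulAut.conj : X →* MulAut X).range.index = (MulAut.conj : Y →* MulAut Y).range.index := by
  have h1 : (MulAut.conj : Y →* MulAut Y).range =
      (MulAut.conj : X →* MulAut X).range.map (MulAut.congr e).toMonoidHom := by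
    ext f
    constructor
    · rintro ⟨y, rfl⟩
      refine ⟨MulAut.conj (e.symm y), ⟨_, rfl⟩, ?_⟩
      ext z
      show e (e.symm y * e.symm z * (e.symm y)⁻¹) = y * z * y⁻¹
      simp
    · rintro ⟨_, ⟨x, rfl⟩, rfl⟩
      refine ⟨e x, ?_⟩
      ext z
      show e x * z * (e x)⁻¹ = e (x * e.symm z * x⁻¹)
      simp
  rw [h1]
  exact (Subgroup.index_map_of_bijective (f := (MulAut.congr e).toMonoidHom) (MulAut.congr e).bijective _).symm

theorem NZ.congr {p : ℕ} {S K : Type*} [Group S] [Group K] (e : S ≃* K) (h : NZ p K) : NZ p S := by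
  obtain ⟨r, h1, h2, h3, h4⟩ := h
  exact ⟨r, h1, h2, by rwa [Nat.card_congr e.toEquiv], by rwa [index_congr e]⟩

/-- The index of the inner automorphisms. -/
theorem index_eq {K : Type*} [Group K] [Finite K] (hc : center K = ⊥) {N : ℕ}
    (h : Nat.card (MulAut K) = N * Nat.card K) : (MulAut.conj : K →* MulAut K).range.index = N := by
  have hinj : Function.Injective (MulAut.conj : K →* MulAut K) := by
    rw [← MonoidHom.ker_eq_bot_iff, eq_bot_iff, ← hc]
    intro k hk
    rw [mem_center_iff]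
    intro g
    have h1 : (MulAut.conj k : MulAut K) g = g := by rw [MonoidHom.mem_ker.1 hk]; rfl
    rw [MulAut.conj_apply] at h1
    exact (mul_inv_eq_iff_eq_mul.1 h1).symm
  have h1 : Nat.card (MulAut.conj : K →* MulAut K).range = Nat.card K :=
    Nat.card_congr (MonoidHom.ofInjective hinj).symm.toEquiv
  have h2 := Subgroup.card_mul_index (MulAut.conj : K →* MulAut K).range
  rw [h1, h, mul_comm] at h2
  exact Nat.eq_of_mul_eq_mul_right Nat.card_pos h2

theorem center_eq_bot {S K : Type*} [Group S] [IsSimpleGroup S] (hna : ¬ IsMulCommutative S) [Group K] (e : S ≃* K) :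
    center K = ⊥ := by
  have : IsSimpleGroup K := e.symm.isSimpleGroup
  rcases (inferInstance : (center K).Normal).eq_bot_or_eq_top with h | h
  · exact h
  · exfalso
    apply hna
    refine ⟨⟨fun a b => e.injective ?_⟩⟩
    rw [map_mul, map_mul]
    exact mem_center_iff.1 (show e b ∈ center K by rw [h]; trivial) (e a)

theorem mul_dvd_pred {p n r : ℕ} (h : Prim p n r) : n ∣ r - 1 := by
  rw [← h.dvd_iff]
  have h1 : Nat.Coprime p r := ((Nat.Prime.coprime_iff_not_dvd h.prime).2 h.not_dvd).symm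
  have h2 := Nat.ModEq.pow_totient h1
  rw [Nat.totient_prime h.prime] at h2
  have hp : 1 ≤ p ^ (r - 1) := Nat.one_le_pow _ _ (Nat.pos_of_ne_zero fun h0 => h.not_dvd (by rw [h0]; exact dvd_zero _))
  exact (Nat.modEq_iff_dvd' hp).1 h2.symm

theorem prim_facts {p f e r : ℕ} (he : 2 ≤ e) (h4 : 4 ≤ f * e) (h : Prim p (f * e) r) :
    5 ≤ r ∧ f < r := by
  have h1 := Nat.le_of_dvd (by have := h.prime.two_le; omega) (mul_dvd_pred h)
  have h2 : f * 2 ≤ f * e := Nat.mul_le_mul_left f he
  omega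

theorem not_dvd_small {r k : ℕ} (hr : 5 ≤ r) (hk : 0 < k) (hk' : k ≤ 4) : ¬ r ∣ k := fun h => by
  have := Nat.le_of_dvd hk h
  omega

theorem not_dvd_lt {r f : ℕ} (hf : 1 ≤ f) (h : f < r) : ¬ r ∣ f := fun h' => by
  have := Nat.le_of_dvd hf h'
  omega

theorem not_dvd_eight {r : ℕ} (hr : r.Prime) (h5 : 5 ≤ r) : ¬ r ∣ 8 := by
  intro h
  have h1 : r ∣ 2 ^ 3 := h
  exact not_dvd_small h5 (by norm_num) (by norm_num) (hr.dvd_of_dvd_pow h1)

theorem not_dvd_gcd {r a b : ℕ} (hr : 5 ≤ r) (ha : 0 < a) (ha' : a ≤ 4) : ¬ r ∣ Nat.gcd a b := fun h =>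
  not_dvd_small hr ha ha' (h.trans (Nat.gcd_dvd_left _ _))

theorem ne_of_prim {p n r : ℕ} (h : Prim p n r) : r ≠ p := by
  rintro rfl
  exact h.not_dvd dvd_rfl

/-- The parameters of a finite field. -/
theorem exists_card {F : Type*} [Field F] [Fintype F] (p : ℕ) [CharP F p] :
    p.Prime ∧ ∃ f : ℕ, 1 ≤ f ∧ Fintype.card F = p ^ f := by
  obtain ⟨n, hp, hn⟩ := FiniteField.card F p
  exact ⟨hp, n, n.2, hn⟩

section classical

variable {S : Type*} [Group S] [Finite S] [IsSimpleGroup S] {p : ℕ}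

theorem nz_psl (hna : ¬ IsMulCommutative S) (h : IsPSLChar p S) : NZ p S := by
  obtain ⟨F, _, _, _, n, hn, hn2, ⟨e⟩⟩ := h
  obtain ⟨hp, f, hf, hF⟩ := exists_card (F := F) p
  have hpf : Fact p.Prime := ⟨hp⟩
  have hfin : Finite (Matrix.ProjectiveSpecialLinearGroup (Fin n) F) := Finite.of_equiv S e.toEquiv
  refine NZ.congr e ?_
  have hc := center_eq_bot hna e
  have hord := psl_eq (F := F) hn
  have hidx := index_eq hc (N := (if n = 2 then 1 else 2) * f * Nat.gcd n (Fintype.card F - 1)) (by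
    rw [S0813.result p f hf hF n hn (fun h => by rw [← hF]; exact hn2 h), H183.OutPSL.card_pgl_eq hn]
    ring)
  rw [hF] at hord hidx
  rw [hF] at hn2
  by_cases h2 : n = 2
  · subst h2
    rw [if_pos rfl, one_mul] at hidx
    by_cases hf1 : f = 1
    · subst hf1
      rw [pow_one] at hord hn2 hidx
      have hp5 : 5 ≤ p := by
        have := hn2 rfl
        rcases Nat.lt_or_ge p 5 with h | h
        · have : p = 4 := by omega
          subst this
          exact absurd hp (by norm_num)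
        · exact h
      refine ⟨3, Nat.prime_three, by omega, ?_, ?_⟩
      · have h1 : Nat.gcd 2 (p - 1) * (p - 1) * Nat.card (Matrix.ProjectiveSpecialLinearGroup (Fin 2) F) = glN 2 p :=
          hord
        have h3 : glN 2 p = (p - 1) * (p * (p ^ 2 - 1)) := by
          have : glN 2 p = (p ^ 2 - p ^ 0) * (p ^ 2 - p ^ 1) := by
            unfold glN
            simp [List.range_succ]
          rw [this, pow_zero, pow_one, show p ^ 2 - p = p * (p - 1) by rw [Nat.mul_sub, mul_one, pow_two]]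
          ring
        have h4 : Nat.gcd 2 (p - 1) * Nat.card (Matrix.ProjectiveSpecialLinearGroup (Fin 2) F) = p * (p ^ 2 - 1) := by
          apply Nat.eq_of_mul_eq_mul_left (show 0 < p - 1 by omega)
          rw [← h3, ← h1]
          ring
        have h5 : 3 ∣ p * (p ^ 2 - 1) := three_dvd_mq
        rw [← h4] at h5
        refine (Nat.prime_three.dvd_mul.1 h5).resolve_left fun h6 => ?_
        have := Nat.le_of_dvd (by norm_num) (h6.trans (Nat.gcd_dvd_left _ _))
        omega
      · rw [hidx, one_mul]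
        intro h6
        have := Nat.le_of_dvd (by norm_num) (h6.trans (Nat.gcd_dvd_left _ _))
        omega
    · by_cases h6 : p = 2 ∧ f * 2 = 6
      · obtain ⟨rfl, h6⟩ := h6
        obtain rfl : f = 3 := by omega
        have h1 : Nat.gcd 2 (2 ^ 3 - 1) * (2 ^ 3 - 1) * Nat.card (Matrix.ProjectiveSpecialLinearGroup (Fin 2) F) =
          glN 2 (2 ^ 3) := hord
        have h3 : glN 2 (2 ^ 3) = 3528 := by decide
        rw [h3] at h1
        norm_num at h1
        refine ⟨7, by norm_num, by norm_num, ?_, ?_⟩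
        · omega
        · rw [hidx]
          norm_num
      · obtain ⟨r, hr⟩ := exists_prim hp.two_le (show 3 ≤ f * 2 by omega) h6
        obtain ⟨h5, hfr⟩ := prim_facts le_rfl (by omega) hr
        refine ⟨r, hr.prime, ne_of_prim hr, ?_, ?_⟩
        · exact H425.PartP.prim_psl_two hord (H425.PartP.prim_of_pow (by omega) hr) (by omega)
        · rw [hidx]
          exact hr.prime.not_dvd_mul (not_dvd_lt hf hfr) (not_dvd_gcd h5 (by norm_num) (by norm_num))
  · rw [if_neg h2] at hidx
    have hn3 : 3 ≤ n := by omega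
    -- the general step
    have key : ∀ k : ℕ, 3 ≤ k → k ≤ n → ¬ (p = 2 ∧ f * k = 6) → NZ p (Matrix.ProjectiveSpecialLinearGroup (Fin n) F) := by
      intro k hk hkn h6
      obtain ⟨r, hr⟩ := exists_prim hp.two_le (show 3 ≤ f * k by nlinarith) h6
      by_cases h4 : 4 ≤ f * k
      · obtain ⟨h5, hfr⟩ := prim_facts (by omega) h4 hr
        have hq := H425.PartP.prim_of_pow (by omega) hr
        refine ⟨r, hr.prime, ne_of_prim hr, psl_prim hkn hk hord hq, ?_⟩
        rw [hidx]
        exact hr.prime.not_dvd_mul (hr.prime.not_dvd_mul (not_dvd_small h5 (by norm_num) (by norm_num))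
          (not_dvd_lt hf hfr)) (hq.not_dvd_gcd_sub hk)
      · obtain ⟨rfl, rfl⟩ : f = 1 ∧ k = 3 := by
          constructor <;> nlinarith
        have hq := H425.PartP.prim_of_pow (by omega) hr
        have h7 := Nat.le_of_dvd (by have := hr.prime.two_le; omega) (mul_dvd_pred hr)
        have h8 : r ≠ 4 := fun h => by rw [h] at hr; exact absurd hr.prime (by norm_num)
        refine ⟨r, hr.prime, ne_of_prim hr, psl_prim hkn hk hord hq, ?_⟩
        rw [hidx]
        exact hr.prime.not_dvd_mul (hr.prime.not_dvd_mul (not_dvd_small (by omega) (by norm_num) (by norm_num))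
          (not_dvd_lt hf (by omega))) (hq.not_dvd_gcd_sub hk)
    by_cases h6 : p = 2 ∧ f * n = 6
    · obtain ⟨rfl, h6⟩ := h6
      rcases Nat.lt_or_ge n 4 with h4 | h4
      · obtain rfl : n = 3 := by omega
        obtain rfl : f = 2 := by omega
        have h1 : Nat.gcd 3 (2 ^ 2 - 1) * (2 ^ 2 - 1) * Nat.card (Matrix.ProjectiveSpecialLinearGroup (Fin 3) F) =
          glN 3 (2 ^ 2) := hord
        have h3 : glN 3 (2 ^ 2) = 181440 := by decide
        rw [h3] at h1
        norm_num at h1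
        refine ⟨5, by norm_num, by norm_num, ?_, ?_⟩
        · omega
        · rw [hidx]
          norm_num
      · refine key (n - 1) (by omega) (by omega) ?_
        rintro ⟨-, h7⟩
        have h8 : f * (n - 1) + f = f * n := by
          rw [← Nat.mul_succ]
          congr 1
          omega
        omega
    · exact key n hn3 le_rfl h6

theorem nz_psp (hna : ¬ IsMulCommutative S) (h : IsPSpChar p S) : NZ p S := by
  obtain ⟨F, _, _, _, m, hm, hm2, ⟨e⟩⟩ := h
  obtain ⟨hp, f, hf, hF⟩ := exists_card (F := F) p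
  have hpf : Fact p.Prime := ⟨hp⟩
  have hfin : Finite (PSp m F) := Finite.of_equiv S e.toEquiv
  refine NZ.congr e ?_
  have hc := center_eq_bot hna e
  have hord := psp_eq (F := F) hm
  have hidx := index_eq hc (S0814.result p f hf hF m hm (fun h => by rw [← hF]; exact hm2 h))
  rw [hF] at hord
  -- the general step
  have key : ∀ k : ℕ, 2 ≤ k → k ≤ m → ¬ (p = 2 ∧ f * (2 * k) = 6) → NZ p (PSp m F) := by
    intro k hk hkm h6
    have h4 : 4 ≤ f * (2 * k) := by nlinarith
    obtain ⟨r, hr⟩ := exists_prim hp.two_le (show 3 ≤ f * (2 * k) by omega) h6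
    obtain ⟨h5, hfr⟩ := prim_facts (by omega) h4 hr
    have hq := H425.PartP.prim_of_pow (by omega) hr
    refine ⟨r, hr.prime, ne_of_prim hr, psp_prim k (by omega) hkm dvd_rfl (by omega) hord hq, ?_⟩
    rw [hidx]
    refine hr.prime.not_dvd_mul (hr.prime.not_dvd_mul ?_ (not_dvd_gcd h5 (by norm_num) (by norm_num)))
      (not_dvd_lt hf hfr)
    split_ifs
    · exact not_dvd_small h5 (by norm_num) (by norm_num)
    · exact not_dvd_small h5 (by norm_num) (by norm_num)
  by_cases h6 : p = 2 ∧ f * (2 * m) = 6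
  · refine key 2 le_rfl hm ?_
    rintro ⟨-, h7⟩
    obtain ⟨-, h6⟩ := h6
    omega
  · exact key m hm le_rfl h6

theorem nz_psu (hna : ¬ IsMulCommutative S) (h : IsPSUChar p S) : NZ p S := by
  obtain ⟨F, _, _, _, n, q, hF, hn, hn2, ⟨e⟩⟩ := h
  obtain ⟨hp, f', hf', hF'⟩ := exists_card (F := F) p
  have hpf : Fact p.Prime := ⟨hp⟩
  have hfin : Finite (PSU n F q) := Finite.of_equiv S e.toEquiv
  obtain ⟨f, -, hq⟩ : ∃ f ≤ f', q = p ^ f := by
    refine (Nat.dvd_prime_pow hp).1 ?_
    rw [← hF', hF]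
    exact dvd_pow_self q (by norm_num)
  have hf : 1 ≤ f := by
    rcases Nat.eq_zero_or_pos f with h0 | h0
    · exfalso
      have h1 := Fintype.one_lt_card (α := F)
      rw [hF, hq, h0] at h1
      norm_num at h1
    · exact h0
  refine NZ.congr e ?_
  have hc := center_eq_bot hna e
  have hord := psu_eq (F := F) hF hn
  have hidx := index_eq hc (S0815.result p f hf hq hF n hn hn2)
  subst hq
  have key : ∀ k : ℕ, 3 ≤ k → Odd k → k ≤ n → ¬ (p = 2 ∧ f * (2 * k) = 6) → NZ p (PSU n F (p ^ f)) := by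
    intro k hk hodd hkn h6
    have h4 : 4 ≤ f * (2 * k) := by nlinarith
    obtain ⟨r, hr⟩ := exists_prim hp.two_le (show 3 ≤ f * (2 * k) by omega) h6
    obtain ⟨h5, hfr⟩ := prim_facts (by omega) h4 hr
    have hq := H425.PartP.prim_of_pow (by omega) hr
    refine ⟨r, hr.prime, ne_of_prim hr, H425.PartP.prim_psu hkn (by omega) hodd hord hq, ?_⟩
    rw [hidx]
    exact hr.prime.not_dvd_mul (hq.not_dvd_gcd_add (by omega))
      (hr.prime.not_dvd_mul (not_dvd_small h5 (by norm_num) (by norm_num)) (not_dvd_lt hf hfr))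
  obtain ⟨k, hk, hodd, hkn, hkn'⟩ : ∃ k : ℕ, 3 ≤ k ∧ Odd k ∧ k ≤ n ∧ n ≤ k + 1 := by
    rcases Nat.even_or_odd n with ⟨j, rfl⟩ | h
    · exact ⟨j + j - 1, by omega, ⟨j - 1, by omega⟩, by omega, by omega⟩
    · exact ⟨n, hn, h, le_rfl, by omega⟩
  by_cases h6 : p = 2 ∧ f * (2 * k) = 6
  · obtain ⟨rfl, h6⟩ := h6
    obtain rfl : f = 1 := by nlinarith
    obtain rfl : k = 3 := by omega
    have h3 : n ≠ 3 := fun h => hn2 ⟨h, by norm_num⟩
    obtain rfl : n = 4 := by omega
    have h1 : Nat.gcd 4 (2 ^ 1 + 1) * (2 ^ 1 + 1) * Nat.card (PSU 4 F (2 ^ 1)) =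
      (2 ^ 1) ^ (4 * (4 - 1) / 2) * prU (2 ^ 1) 4 := hord
    have h3 : (2 ^ 1) ^ (4 * (4 - 1) / 2) * prU (2 ^ 1) 4 = 77760 := by decide
    rw [h3] at h1
    have h4 : Nat.gcd 4 (2 ^ 1 + 1) = 1 := by decide
    rw [h4] at h1 hidx
    refine ⟨5, by norm_num, by norm_num, ?_, ?_⟩
    · omega
    · rw [hidx]
      norm_num
  · exact key k hk hodd hkn h6

theorem nz_oodd (hna : ¬ IsMulCommutative S) (h : IsPOmegaOddChar p S) : NZ p S := by
  obtain ⟨F, _, _, _, m, hm, ho, ⟨e⟩⟩ := h
  obtain ⟨hp, f, hf, hF⟩ := exists_card (F := F) p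
  have hpf : Fact p.Prime := ⟨hp⟩
  have hfin : Finite (POmega F (quadFormOdd m F)) := Finite.of_equiv S e.toEquiv
  have hodd : Odd p := by
    rw [hF] at ho
    exact Nat.Odd.of_mul_left (by rwa [← Nat.succ_pred_eq_of_pos hf, pow_succ'] at ho)
  refine NZ.congr e ?_
  have hc := center_eq_bot hna e
  have hord := oodd_eq (F := F) hm ho
  have hidx := index_eq hc (S0816.result p f hf hF hodd m hm)
  rw [hF] at hord
  have h4 : 4 ≤ f * (2 * m) := by nlinarith
  obtain ⟨r, hr⟩ := exists_prim hp.two_le (show 3 ≤ f * (2 * m) by omega) (by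
    rintro ⟨rfl, -⟩
    exact absurd hodd (by decide))
  obtain ⟨h5, hfr⟩ := prim_facts (by omega) h4 hr
  have hq := H425.PartP.prim_of_pow (by omega) hr
  refine ⟨r, hr.prime, ne_of_prim hr, oodd_prim m (by omega) le_rfl dvd_rfl (by omega) hord hq, ?_⟩
  rw [hidx]
  exact hr.prime.not_dvd_mul (not_dvd_small h5 (by norm_num) (by norm_num)) (not_dvd_lt hf hfr)

theorem nz_oplus (hna : ¬ IsMulCommutative S) (h : IsPOmegaPlusChar p S) : NZ p S := by
  obtain ⟨F, _, _, _, m, hm, ⟨e⟩⟩ := h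
  obtain ⟨hp, f, hf, hF⟩ := exists_card (F := F) p
  have hpf : Fact p.Prime := ⟨hp⟩
  have hfin : Finite (POmega F (quadFormPlus m F)) := Finite.of_equiv S e.toEquiv
  refine NZ.congr e ?_
  have hc := center_eq_bot hna e
  have hord := oplus_eq (F := F) hm
  have hidx := index_eq hc (S0817.result p f hf hF m hm)
  rw [hF] at hord
  have key : ∀ k : ℕ, 2 ≤ k → k ≤ m - 1 → ¬ (p = 2 ∧ f * (2 * k) = 6) → NZ p (POmega F (quadFormPlus m F)) := by
    intro k hk hkm h6
    have h4 : 4 ≤ f * (2 * k) := by nlinarith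
    obtain ⟨r, hr⟩ := exists_prim hp.two_le (show 3 ≤ f * (2 * k) by omega) h6
    obtain ⟨h5, hfr⟩ := prim_facts (by omega) h4 hr
    have hq := H425.PartP.prim_of_pow (by omega) hr
    refine ⟨r, hr.prime, ne_of_prim hr, oplus_prim k (by omega) hkm dvd_rfl (by omega) hord hq, ?_⟩
    rw [hidx]
    refine hr.prime.not_dvd_mul (hr.prime.not_dvd_mul ?_ ?_) (not_dvd_lt hf hfr)
    · split_ifs
      · exact not_dvd_small h5 (by norm_num) (by norm_num)
      · exact not_dvd_small h5 (by norm_num) (by norm_num)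
    · split_ifs
      · exact not_dvd_small h5 (by norm_num) (by norm_num)
      · exact not_dvd_eight hr.prime h5
      · exact not_dvd_small h5 (by norm_num) (by norm_num)
  by_cases h6 : p = 2 ∧ f * (2 * (m - 1)) = 6
  · refine key 2 le_rfl (by omega) ?_
    rintro ⟨-, h7⟩
    obtain ⟨-, h6⟩ := h6
    omega
  · exact key (m - 1) (by omega) le_rfl h6

theorem nz_ominus (hna : ¬ IsMulCommutative S) (h : IsPOmegaMinusChar p S) : NZ p S := by
  obtain ⟨F, _, _, _, m, a, b, hm, hab, ⟨e⟩⟩ := h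
  obtain ⟨hp, f, hf, hF⟩ := exists_card (F := F) p
  have hpf : Fact p.Prime := ⟨hp⟩
  have hfin : Finite (POmega F (quadFormMinus (m - 1) F a b)) := Finite.of_equiv S e.toEquiv
  refine NZ.congr e ?_
  have hc := center_eq_bot hna e
  have hord := ominus_eq (F := F) hm hab
  have hidx := index_eq hc (S0818.result p f hf hF m hm a b hab)
  rw [hF] at hord
  have h8 : 8 ≤ f * (2 * m) := by nlinarith
  obtain ⟨r, hr⟩ := exists_prim hp.two_le (show 3 ≤ f * (2 * m) by omega) (by omega)
  obtain ⟨h5, hfr⟩ := prim_facts (by omega) (by omega) hr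
  have hq := H425.PartP.prim_of_pow (by omega) hr
  refine ⟨r, hr.prime, ne_of_prim hr, ominus_prim' hm hord hq, ?_⟩
  rw [hidx]
  refine hr.prime.not_dvd_mul ?_ (not_dvd_lt hf hfr)
  split_ifs
  · exact not_dvd_small h5 (by norm_num) (by norm_num)
  · exact not_dvd_small h5 (by norm_num) (by norm_num)
  · exact not_dvd_eight hr.prime h5

end classical

end Cfsg.Agent.H588.OutPrime
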