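import Cfsg.Agent.H671.Tensor
import Cfsg.Agent.H671.Frame
import Cfsg.Agent.H429.RegPerm
import Cfsg.Agent.H954.OutLin

/-!
# A character of `G` irreducible on a minimal normal subgroup and of degree at least `p`
(task 1675, for S4831)
-/

set_option autoImplicit false

namespace Cfsg.Agent.H588.Acd

open Cfsg
open Cfsg.Agent.Characters.Core
open Cfsg.Agent.H429.Reg (cja cja_apply cja_mem gp gp_mem gp_spec inv_mul_mem_centralizer)

universe u

theorem two_le_charDegree' {T : Type*} [Group T] [Finite T] {α : T → ℂ} (hα : IsIrrCharacter T α)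
    (h : charDegree α ≠ 1) : 2 ≤ charDegree α := by
  have h1 := Cfsg.Agent.Blocks.Basic.irr_one_eq_charDegree hα
  have h2 := isIrr_apply_one_ne_zero hα
  have h3 : charDegree α ≠ 0 := by
    intro h0
    rw [h0, Nat.cast_zero] at h1
    exact h2 h1
  omega

/-- A prime dividing `|Aut S|` but not `|S|` divides `|Out S|`. -/
theorem dvd_card_out {S : Type*} [Group S] [Finite S] {p : ℕ} (hp : p.Prime)
    (h : ¬ p ∣ Nat.card S) {φ : MulAut S} (hφ : φ ≠ 1) (hφp : φ ^ p = 1) :
    p ∣ Nat.card (Cfsg.Out S) := by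
  have : Fact p.Prime := ⟨hp⟩
  have h1 : orderOf φ = p := orderOf_eq_prime hφp hφ
  have h2 : p ∣ Nat.card (MulAut S) := h1 ▸ orderOf_dvd_natCard φ
  have h3 : Nat.card (MulAut S) = Nat.card (Cfsg.Out S) * Nat.card (Inn S) :=
    Subgroup.card_eq_card_quotient_mul_card_subgroup (Inn S)
  rw [h3] at h2
  rcases hp.dvd_mul.1 h2 with h4 | h4
  · exact h4
  · exfalso
    apply h
    refine h4.trans ?_
    have h5 : Inn S = (MulAut.conj : S →* MulAut S).range := rfl
    rw [h5]
    exact Subgroup.card_range_dvd _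

theorem ext_all (hE : Cfsg.Agent.H671.H5.FactExt.{0})
    (hOL : ∀ (S : Type) [Group S] [Finite S] [IsSimpleGroup S],
      ¬ IsMulCommutative S → Cfsg.Agent.H954.OutDeg.OL S)
    {G : Type u} [Group G] [Finite G] (M : Subgroup G) [hM : M.Normal] (hM0 : M ≠ ⊥)
    (hmin : ∀ K : Subgroup G, K.Normal → K ≤ M → K = ⊥ ∨ K = M) (hna : ¬ IsMulCommutative M)
    (hC : Subgroup.centralizer (M : Set G) = ⊥) {p : ℕ} (hp : p.Prime) (hpM : ¬ p ∣ Nat.card M)
    (hpG : p ∣ Nat.card G) :
    ∃ χ : Cfsg.IrrCharacter G, IsIrrCharacter M (fun m : M => (χ : G → ℂ) m) ∧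
      p ≤ Cfsg.charDegree (χ : G → ℂ) := by
  classical
  obtain ⟨S, iS, iS', k, hk, hSna, ⟨e⟩⟩ :=
    Cfsg.Agent.H671.Frame.minNormal_pi hM hM0 hmin hna
  have i₁ : Fin k := ⟨0, hk⟩
  have hSf : Finite S := by
    have h1 : Finite (Fin k → S) := Finite.of_equiv M e.toEquiv
    exact Finite.of_injective (fun s : S => (Function.const _ s : Fin k → S)) fun a b h =>
      congrFun h i₁
  obtain ⟨α, hα, hαe⟩ := hE S hSna
  obtain ⟨χ, hχ⟩ := Cfsg.Agent.H671.Tensor.exists_extension M hSna e hαe
  have h2 : 2 ≤ charDegree (α : S → ℂ) := two_le_charDegree' α.2 hα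
  have hD : charDegree (χ : G → ℂ) = charDegree (α : S → ℂ) ^ k := by
    apply Cfsg.Agent.Blocks.Basic.charDegree_of_eq
    have h1 := hχ 1
    rw [Subgroup.coe_one] at h1
    rw [h1]
    have h3 : ∀ i : Fin k, (α : S → ℂ) (e 1 i) = (charDegree (α : S → ℂ) : ℂ) := by
      intro i
      rw [map_one]
      exact Cfsg.Agent.Blocks.Basic.irr_one_eq_charDegree α.2
    rw [Finset.prod_congr rfl fun i _ => h3 i, Finset.prod_const, Finset.card_univ,
      Fintype.card_fin]
    push_cast
    rfl
  refine ⟨χ, ?_, ?_⟩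
  · have h1 : (fun m : M => (χ : G → ℂ) m) =
        (fun x : Fin k → S => ∏ i, (α : S → ℂ) (x i)) ∘ (e : M →* (Fin k → S)) := by
      funext m
      exact hχ m
    rw [h1]
    exact isIrr_comp (e : M →* (Fin k → S)) e.surjective (Cfsg.Agent.H713.isIrr_pi α.2)
  rw [hD]
  have : Fact p.Prime := ⟨hp⟩
  obtain ⟨y, hy⟩ := exists_prime_orderOf_dvd_card' p hpG
  have hyp : y ^ p = 1 := by
    rw [← hy]
    exact pow_orderOf_eq_one y
  have hy1 : y ≠ 1 := by
    rintro rfl
    rw [orderOf_one] at hy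
    exact hp.one_lt.ne hy
  have hpow : k < charDegree (α : S → ℂ) ^ k := (Nat.lt_two_pow_self).trans_le
    (Nat.pow_le_pow_left h2 k)
  by_cases hgp : gp hSna e y = 1
  · obtain ⟨φ, hφ⟩ := gp_spec hSna e y
    rw [hgp] at hφ
    have hφ' : ∀ x i, cja e y x i = φ i (x i) := fun x i => hφ x i
    have hφn : ∀ n : ℕ, ∀ x i, (cja e y ^ n) x i = (φ i ^ n) (x i) := by
      intro n
      induction n with
      | zero => intro x i; rfl
      | succ n ih =>
        intro x i
        rw [pow_succ, pow_succ, MulAut.mul_apply, MulAut.mul_apply, ih, hφ']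
    obtain ⟨i, hi⟩ : ∃ i, φ i ≠ 1 := by
      by_contra hcon
      push Not at hcon
      apply hy1
      have h3 : cja e y = MulAut.conj (e 1) := by
        rw [map_one, map_one]
        ext x i
        rw [hφ', hcon]
        rfl
      have h4 := inv_mul_mem_centralizer e h3
      rw [Subgroup.coe_one, inv_one, one_mul, hC, Subgroup.mem_bot] at h4
      exact h4
    have hip : φ i ^ p = 1 := by
      ext s
      have h3 := hφn p (Pi.mulSingle i s) i
      rw [← map_pow, hyp, map_one, Pi.mulSingle_eq_same] at h3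
      rw [← h3]
      exact Pi.mulSingle_eq_same (M := fun _ : Fin k => S) i s
    have hpS : ¬ p ∣ Nat.card S := by
      intro h
      apply hpM
      rw [Nat.card_congr e.toEquiv, Nat.card_fun, Nat.card_fin]
      exact h.trans (dvd_pow_self _ (by omega))
    have h3 := dvd_card_out hp hpS hi hip
    have h4 : p ≤ Nat.card (Cfsg.Out S) := Nat.le_of_dvd Nat.card_pos h3
    have h5 := hOL S hSna α hα
    exact (h4.trans h5.le).trans (Nat.le_self_pow (by omega) _)
  · have h3 : orderOf (gp hSna e y) = p := orderOf_eq_prime (by rw [← map_pow, hyp, map_one]) hgp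
    have h4 : p ∣ k.factorial := by
      have h5 : Nat.card (Equiv.Perm (Fin k)) = k.factorial := by
        rw [Nat.card_eq_fintype_card, Fintype.card_perm, Fintype.card_fin]
      rw [← h5, ← h3]
      exact orderOf_dvd_natCard _
    rw [hp.dvd_factorial] at h4
    exact h4.trans hpow.le

end Cfsg.Agent.H588.Acd
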