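import Cfsg.Agent.H671.Tensor
import Cfsg.Agent.H429.RegPerm
import Cfsg.Agent.H685.AcdMain

/-!
# Characters of `G` from `k - 1` factors of a minimal normal subgroup `T ^ k` (task 1674, for S4831)

`case_move`: `M ≅ T ^ k` minimal normal in `G`, `α ∈ Irr T` nonlinear, extendible to `Aut T`. The
product of `α` over all factors except one extends to the stabilizer `N` of that factor, its inertia
group; induction gives many characters of degree `k * D`, `D ≥ 2 ^ (k - 1)`.
-/

set_option autoImplicit false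
set_option linter.unusedSectionVars false

namespace Cfsg.Agent.H588.Acd

open Cfsg
open scoped ComplexConjugate commutatorElement
open Cfsg.Agent.Characters.Core
open Cfsg.Agent.OddOrderCharacters.NormalInduced (conjFn)
open Cfsg.Agent.OddOrderCharacters.IndRes (res)
open Cfsg.Agent.OddOrderCharacters.PF9.CliffGen (resTo)
open Cfsg.Agent.H429.Reg (cja cja_apply cja_mem gp gp_mem gp_spec gp_one_iff exists_gp)

universe u

/-- The character degree is positive, so a nonlinear one has degree at least two. -/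
theorem two_le_charDegree {T : Type*} [Group T] [Finite T] {α : T → ℂ} (hα : IsIrrCharacter T α)
    (h : charDegree α ≠ 1) : 2 ≤ charDegree α := by
  have h1 := Cfsg.Agent.Blocks.Basic.irr_one_eq_charDegree hα
  have h2 := isIrr_apply_one_ne_zero hα
  have h3 : charDegree α ≠ 0 := by
    intro h0
    rw [h0, Nat.cast_zero] at h1
    exact h2 h1
  omega

/-- The projection to the factors different from `i₀`. -/
def prj {k : ℕ} (i₀ : Fin k) (T : Type*) [Group T] : (Fin k → T) →* ({i : Fin k // i ≠ i₀} → T) where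
  toFun x := fun i => x i
  map_one' := rfl
  map_mul' _ _ := rfl

theorem prj_apply {k : ℕ} (i₀ : Fin k) {T : Type*} [Group T] (x : Fin k → T)
    (i : {i : Fin k // i ≠ i₀}) : prj i₀ T x i = x i := rfl

theorem prj_surjective {k : ℕ} (i₀ : Fin k) (T : Type*) [Group T] :
    Function.Surjective (prj i₀ T) := by
  classical
  intro y
  refine ⟨fun i => if h : i ≠ i₀ then y ⟨i, h⟩ else 1, ?_⟩
  funext i
  rw [prj_apply, dif_pos i.2]

theorem case_move {G : Type u} [Group G] [Finite G] {M : Subgroup G} [M.Normal]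
    (hmin : ∀ K : Subgroup G, K.Normal → K ≤ M → K = ⊥ ∨ K = M) (hMG : M ≤ commutator G)
    {T : Type} [Group T] [Finite T] [IsSimpleGroup T] (hT : ¬ IsMulCommutative T) {k : ℕ}
    (hk : 2 ≤ k) (e : M ≃* (Fin k → T)) {α : Cfsg.IrrCharacter T}
    (hα : Cfsg.charDegree (α : T → ℂ) ≠ 1) (hext : Cfsg.Agent.H671.H5.ExtAut α) :
    ∃ (D : ℕ) (Q : Cfsg.IrrCharacter G → Prop), 2 ^ (k - 1) ≤ D ∧
      Nat.card (G →* ℂˣ) ≤ k * Nat.card {χ : Cfsg.IrrCharacter G //
        Cfsg.charDegree (χ : G → ℂ) = k * D ∧ Q χ} := by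
  classical
  have := Fintype.ofFinite G
  have := Fintype.ofFinite M
  have hM : M.Normal := inferInstance
  let i₀ : Fin k := ⟨0, by omega⟩
  -- the stabilizer of the factor
  let N : Subgroup G := (MulAction.stabilizer (Equiv.Perm (Fin k)) i₀).comap (gp hT e)
  have hN : ∀ g, g ∈ N ↔ gp hT e g i₀ = i₀ := fun g => Iff.rfl
  have hNidx : N.index = k := by
    let _ : MulAction G (Fin k) := MulAction.compHom (Fin k) (gp hT e)
    have h1 : MulAction.IsPretransitive G (Fin k) := by
      refine ⟨fun a b => ?_⟩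
      obtain ⟨v, hv⟩ := exists_gp hT hmin e a b
      exact ⟨v, hv⟩
    have h2 := MulAction.index_stabilizer_of_transitive G i₀
    rw [Nat.card_fin] at h2
    exact h2
  have hMN : M ≤ N := by
    intro m hm
    rw [hN]
    have h1 := gp_mem hT e ⟨m, hm⟩
    change gp hT e m = 1 at h1
    rw [h1]
    rfl
  have hNf : Fintype N := Fintype.ofFinite _
  -- the character of `M`
  let Θ : ({i : Fin k // i ≠ i₀} → T) → ℂ := fun x => ∏ i, (α : T → ℂ) (x i)
  have hΘ : IsIrrCharacter ({i : Fin k // i ≠ i₀} → T) Θ := Cfsg.Agent.H713.isIrr_pi α.2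
  let θ : M → ℂ := Θ ∘ ((prj i₀ T).comp (e : M →* (Fin k → T)))
  have hθv : ∀ m : M, θ m = ∏ i : {i : Fin k // i ≠ i₀}, (α : T → ℂ) (e m i) := fun m => rfl
  have hθ : IsIrrCharacter M θ :=
    isIrr_comp ((prj i₀ T).comp (e : M →* (Fin k → T)))
      ((prj_surjective i₀ T).comp e.surjective) hΘ
  -- the other factors
  let R : Subgroup N :=
    { carrier := {n | ∃ h : (n : G) ∈ M, e ⟨n, h⟩ i₀ = 1}
      one_mem' := ⟨M.one_mem, by
        have : (⟨((1 : N) : G), M.one_mem⟩ : M) = 1 := rfl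
        rw [this, map_one]
        rfl⟩
      mul_mem' := by
        rintro a b ⟨ha, ha'⟩ ⟨hb, hb'⟩
        refine ⟨M.mul_mem ha hb, ?_⟩
        have : (⟨((a * b : N) : G), M.mul_mem ha hb⟩ : M) = ⟨a, ha⟩ * ⟨b, hb⟩ := rfl
        rw [this, map_mul, Pi.mul_apply, ha', hb', one_mul]
      inv_mem' := by
        rintro a ⟨ha, ha'⟩
        refine ⟨M.inv_mem ha, ?_⟩
        have : (⟨((a⁻¹ : N) : G), M.inv_mem ha⟩ : M) = ⟨a, ha⟩⁻¹ := rfl
        rw [this, map_inv, Pi.inv_apply, ha', inv_one] }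
  have hR : ∀ n : N, n ∈ R ↔ ∃ h : (n : G) ∈ M, e ⟨n, h⟩ i₀ = 1 := fun n => Iff.rfl
  have hRn : R.Normal := by
    refine ⟨?_⟩
    rintro n ⟨hn, hn'⟩ g
    have hc : (g : G) * n * (g : G)⁻¹ ∈ M := hM.conj_mem _ hn g
    refine ⟨hc, ?_⟩
    have h1 := gp_one_iff hT e (g : G) ⟨n, hn⟩ ⟨_, hc⟩ rfl i₀
    rw [(hN _).1 g.2] at h1
    exact h1.2 hn'
  let f : R →* ({i : Fin k // i ≠ i₀} → T) :=
    { toFun := fun r => prj i₀ T (e ⟨((r : N) : G), ((hR _).1 r.2).1⟩)
      map_one' := by
        have : (⟨(((1 : R) : N) : G), ((hR _).1 (1 : R).2).1⟩ : M) = 1 := rfl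
        rw [this, map_one, map_one]
      map_mul' := by
        intro a b
        have : (⟨(((a * b : R) : N) : G), ((hR _).1 (a * b : R).2).1⟩ : M) =
          ⟨((a : N) : G), ((hR _).1 a.2).1⟩ * ⟨((b : N) : G), ((hR _).1 b.2).1⟩ := rfl
        rw [this, map_mul, map_mul] }
  have hf : ∀ r : R, f r = prj i₀ T (e ⟨((r : N) : G), ((hR _).1 r.2).1⟩) := fun r => rfl
  have hfb : Function.Bijective f := by
    constructor
    · intro a b hab
      rw [hf, hf] at hab
      have h1 : e ⟨((a : N) : G), ((hR _).1 a.2).1⟩ = e ⟨((b : N) : G), ((hR _).1 b.2).1⟩ := by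
        funext i
        by_cases hi : i = i₀
        · subst hi
          rw [((hR _).1 a.2).2, ((hR _).1 b.2).2]
        · exact congrFun hab ⟨i, hi⟩
      have h2 := e.injective h1
      exact Subtype.ext (Subtype.ext (congrArg (fun m : M => (m : G)) h2))
    · intro y
      let x : Fin k → T := fun i => if h : i ≠ i₀ then y ⟨i, h⟩ else 1
      have hx : ((e.symm x : M) : G) ∈ N := hMN (e.symm x).2
      have hx' : (⟨_, hx⟩ : N) ∈ R := by
        refine (hR _).2 ⟨(e.symm x).2, ?_⟩
        show e (e.symm x) i₀ = 1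
        rw [e.apply_symm_apply]
        exact dif_neg (by simp)
      refine ⟨⟨_, hx'⟩, ?_⟩
      rw [hf]
      show prj i₀ T (e (e.symm x)) = y
      rw [e.apply_symm_apply]
      funext i
      rw [prj_apply]
      exact dif_pos i.2
  let E : R ≃* ({i : Fin k // i ≠ i₀} → T) := MulEquiv.ofBijective f hfb
  have hE : ∀ r, E r = f r := fun r => rfl
  let c : N →* MulAut ({i : Fin k // i ≠ i₀} → T) :=
    (MulAut.congr E).toMonoidHom.comp (MulAut.conjNormal (H := R))
  have hc : ∀ (m : M), c ⟨m, hMN m.2⟩ = MulAut.conj (prj i₀ T (e m)) := by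
    intro m
    ext x i
    have h1 : c ⟨m, hMN m.2⟩ x = E (MulAut.conjNormal (⟨m, hMN m.2⟩ : N) (E.symm x)) := rfl
    rw [h1, hE, hf, MulAut.conj_apply]
    obtain ⟨r, rfl⟩ := E.surjective x
    rw [E.symm_apply_apply, hE, hf, ← map_mul, ← map_inv, ← map_mul, ← map_mul, ← map_inv,
      ← map_mul]
    rfl
  obtain ⟨ψ₀, hψ₀⟩ := hext
  obtain ⟨Ψ, hΨ, hΨx⟩ := Cfsg.Agent.H671.Tensor.exists_tensor (ι := {i : Fin k // i ≠ i₀}) hT
    (isIrr_isCharacter ψ₀.2)
  set ψ : N → ℂ := Ψ ∘ c with hψdef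
  have hψM : ∀ m : M, ψ ⟨m, hMN m.2⟩ = θ m := by
    intro m
    rw [hψdef, Function.comp_apply, hc, hΨx, hθv]
    exact Finset.prod_congr rfl fun i _ => hψ₀ _
  have hψch : IsCharacter N ψ := isCharacter_comp c hΨ
  have hψ : IsIrrCharacter N ψ :=
    Cfsg.Agent.CharactersDeep.MaxInduced.isIrr_of_comp (Subgroup.inclusion hMN) hψch (by
      have h1 : ψ ∘ (Subgroup.inclusion hMN) = θ := by
        funext m
        exact hψM m
      rw [h1]
      exact hθ)
  have hres : resTo hMN ψ = θ := by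
    funext m
    exact hψM m
  -- the inertia group
  have hmem : ∀ g, g ∈ N ↔ conjFn M θ g = θ := by
    intro g
    constructor
    · intro hg
      funext m
      show θ ⟨g * m * g⁻¹, hM.conj_mem m m.2 g⟩ = θ m
      rw [← hψM, ← hψM]
      have h1 := isIrr_isClassFunction hψ (⟨m, hMN m.2⟩ : N) (⟨g, hg⟩ : N)
      exact h1
    · intro hg
      rw [hN]
      by_contra hne
      apply hα
      apply Cfsg.Agent.H685.Acd.charDegree_eq_one_of_ker α.2
      obtain ⟨φ, hφ⟩ := gp_spec hT e g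
      have hone : (α : T → ℂ) 1 ≠ 0 := isIrr_apply_one_ne_zero α.2
      have key : ∀ t : T, (α : T → ℂ) (φ i₀ t) = (α : T → ℂ) 1 := by
        intro t
        let m : M := e.symm (Pi.mulSingle i₀ t)
        have hem : e m = Pi.mulSingle i₀ t := e.apply_symm_apply _
        have hc' : g * m * g⁻¹ ∈ M := hM.conj_mem m m.2 g
        have h1 : θ ⟨g * m * g⁻¹, hc'⟩ = θ m := congrFun hg m
        have h2 : e ⟨g * m * g⁻¹, hc'⟩ = Pi.mulSingle (gp hT e g i₀) (φ i₀ t) := by
          rw [← cja_apply e g m ⟨_, hc'⟩ rfl, hem]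
          funext j
          obtain ⟨l, rfl⟩ := (gp hT e g).surjective j
          rw [hφ]
          by_cases hl : l = i₀
          · subst hl
            rw [Pi.mulSingle_eq_same, Pi.mulSingle_eq_same]
          · rw [Pi.mulSingle_eq_of_ne hl, map_one, Pi.mulSingle_eq_of_ne]
            intro h
            exact hl ((gp hT e g).injective h)
        have h3 : θ m = ∏ _i : {i : Fin k // i ≠ i₀}, (α : T → ℂ) 1 := by
          rw [hθv]
          refine Finset.prod_congr rfl fun i _ => ?_
          rw [hem, Pi.mulSingle_eq_of_ne i.2]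
        have h4 : θ ⟨g * m * g⁻¹, hc'⟩ =
            (α : T → ℂ) (φ i₀ t) * ∏ _i ∈ (Finset.univ.erase
              (⟨gp hT e g i₀, hne⟩ : {i : Fin k // i ≠ i₀})), (α : T → ℂ) 1 := by
          rw [hθv, ← Finset.mul_prod_erase Finset.univ _ (Finset.mem_univ
            (⟨gp hT e g i₀, hne⟩ : {i : Fin k // i ≠ i₀}))]
          congr 1
          · rw [h2]
            exact congrArg (α : T → ℂ)
              (Pi.mulSingle_eq_same (M := fun _ : Fin k => T) (gp hT e g i₀) (φ i₀ t))
          · refine Finset.prod_congr rfl fun i hi => ?_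
            rw [h2, Pi.mulSingle_eq_of_ne]
            intro h
            exact (Finset.mem_erase.1 hi).1 (Subtype.ext h)
        have h5 : θ m = (α : T → ℂ) 1 * ∏ _i ∈ (Finset.univ.erase
              (⟨gp hT e g i₀, hne⟩ : {i : Fin k // i ≠ i₀})), (α : T → ℂ) 1 := by
          rw [h3, ← Finset.mul_prod_erase Finset.univ _ (Finset.mem_univ
            (⟨gp hT e g i₀, hne⟩ : {i : Fin k // i ≠ i₀}))]
        rw [h4, h5] at h1
        refine mul_right_cancel₀ ?_ h1
        rw [Finset.prod_const]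
        exact pow_ne_zero _ hone
      intro s
      obtain ⟨t, rfl⟩ := (φ i₀).surjective s
      exact key t
  -- the degree
  have hcard : Fintype.card {i : Fin k // i ≠ i₀} = k - 1 := by
    rw [Fintype.card_subtype_compl, Fintype.card_fin, Fintype.card_subtype_eq]
  set D := charDegree (α : T → ℂ) ^ (k - 1) with hD
  have hψD : charDegree ψ = D := by
    apply Cfsg.Agent.Blocks.Basic.charDegree_of_eq
    have h1 := hψM 1
    rw [hθv] at h1
    have h2 : (⟨((1 : M) : G), hMN (1 : M).2⟩ : N) = 1 := rfl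
    rw [h2] at h1
    rw [h1, hD]
    have h3 : ∀ i : {i : Fin k // i ≠ i₀}, (α : T → ℂ) (e 1 i) =
        (charDegree (α : T → ℂ) : ℂ) := by
      intro i
      rw [map_one]
      exact Cfsg.Agent.Blocks.Basic.irr_one_eq_charDegree α.2
    rw [Finset.prod_congr rfl fun i _ => h3 i, Finset.prod_const, Finset.card_univ, hcard]
    push_cast
    rfl
  refine ⟨D, fun χ => classInner (res M χ) θ ≠ 0, ?_, ?_⟩
  · rw [hD]
    exact Nat.pow_le_pow_left (two_le_charDegree α.2 hα) _
  · have h1 := Cfsg.Agent.H685.Acd.count M hMG hθ N hmem hMN hψ (m := 1) (d := D)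
      (by rw [hres, classInner_irr_self hθ]; exact one_ne_zero)
      (by rw [hres, classInner_irr_self hθ, Nat.cast_one]) hψD
    rw [mul_one, hNidx] at h1
    refine h1.trans (Nat.mul_le_mul_right _ ?_)
    have h2 := Cfsg.Agent.H705.StrongLin.card_hom_le N
    rwa [hNidx] at h2

end Cfsg.Agent.H588.Acd
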