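import Mathlib
import Cfsg.Prelude.Def_OddOrderLocal
import Cfsg.Agent.OddOrderLocal.Metacyclic
import Cfsg.Agent.S0029
import Cfsg.Agent.S0014

/-!
# Automorphisms of metacyclic `p`-groups

A `p'`-automorphism of a `p`-group with at most two generators, of order prime to `p² - 1`, is trivial.
-/

set_option autoImplicit false

namespace Cfsg.Agent.H588.MetaFrob

open Subgroup

/-- A metacyclic group is generated by two elements. -/
theorem exists_gens {R : Type*} [Group R] (h : Cfsg.IsMetacyclic R) :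
    ∃ a b : R, Subgroup.closure ({a, b} : Set R) = ⊤ := by
  obtain ⟨N, hN, hc, hq⟩ := h
  obtain ⟨a, ha⟩ := hc.exists_generator
  obtain ⟨b', hb⟩ := hq.exists_generator
  obtain ⟨b, rfl⟩ := QuotientGroup.mk_surjective b'
  refine ⟨a, b, ?_⟩
  rw [eq_top_iff]
  intro x _
  obtain ⟨k, hk⟩ := Subgroup.mem_zpowers_iff.1 (hb (QuotientGroup.mk x))
  have h1 : (b ^ k)⁻¹ * x ∈ N := by
    rw [← QuotientGroup.eq]
    simpa using hk
  obtain ⟨l, hl⟩ := Subgroup.mem_zpowers_iff.1 (ha ⟨_, h1⟩)
  have h2 : (a : R) ^ l = (b ^ k)⁻¹ * x := by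
    simpa using congrArg Subtype.val hl
  have h3 : x = b ^ k * (a : R) ^ l := by rw [h2]; group
  rw [h3]
  refine Subgroup.mul_mem _ (Subgroup.zpow_mem _ (Subgroup.subset_closure (by simp)) _)
    (Subgroup.zpow_mem _ (Subgroup.subset_closure (by simp)) _)

/-- The Frattini index of a metacyclic `p`-group is at most `p²`. -/
theorem frattini_index {R : Type*} [Group R] [Finite R] {p : ℕ} [Fact p.Prime] (hR : IsPGroup p R)
    (h : Cfsg.IsMetacyclic R) : ∃ d ≤ 2, (frattini R).index = p ^ d := by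
  classical
  obtain ⟨d, hd⟩ := hR.index (frattini R)
  refine ⟨d, ?_, hd⟩
  obtain ⟨a, b, hab⟩ := exists_gens h
  have h1 := (Cfsg.Agent.S0014.result p d hR hd).2 {a, b} (by simpa using hab)
  exact h1.trans Finset.card_le_two

/-- An automorphism of a group of order `1`, `p` or `p²` of order prime to `p (p² - 1)` is trivial. -/
theorem aut_trivial {V : Type*} [Group V] [Finite V] {p : ℕ} [hp : Fact p.Prime] {d : ℕ} (hd : d ≤ 2)
    (hV : Nat.card V = p ^ d) (φ : MulAut V) (hφ : (orderOf φ).Coprime p)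
    (hφ2 : (orderOf φ).Coprime (p ^ 2 - 1)) : φ = 1 := by
  by_contra hne
  have ho : orderOf φ ≠ 1 := fun h => hne (orderOf_eq_one_iff.1 h)
  obtain ⟨r, hr, hrd⟩ := Nat.exists_prime_and_dvd ho
  have : Fact r.Prime := ⟨hr⟩
  obtain ⟨ψ, hψ⟩ : ∃ ψ : MulAut V, orderOf ψ = r := by
    obtain ⟨m, hm⟩ := hrd
    refine ⟨φ ^ m, ?_⟩
    have hm0 : m ≠ 0 := by
      rintro rfl
      simp only [mul_zero, orderOf_eq_zero_iff] at hm
      exact hm (isOfFinOrder_of_finite φ)
    rw [orderOf_pow_of_dvd hm0 ⟨r, by rw [hm]; ring⟩, hm]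
    exact Nat.mul_div_cancel _ (Nat.pos_of_ne_zero hm0)
  have hrp : ¬ r ∣ p := fun h => hr.one_lt.ne' (Nat.eq_one_of_dvd_coprimes hφ hrd h)
  have hrp2 : ¬ r ∣ p ^ 2 - 1 := fun h => hr.one_lt.ne' (Nat.eq_one_of_dvd_coprimes hφ2 hrd h)
  -- the fixed subgroup
  let F : Subgroup V := { carrier := {v | ψ v = v}
                          mul_mem' := fun {a b} ha hb => by
                            simp only [Set.mem_ofPred_eq] at *
                            rw [map_mul, ha, hb]
                          one_mem' := map_one ψ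
                          inv_mem' := fun {a} ha => by
                            simp only [Set.mem_ofPred_eq] at *
                            rw [map_inv, ha] }
  have hFdvd : Nat.card F ∣ p ^ d := hV ▸ F.card_subgroup_dvd_card
  obtain ⟨j, hj, hFj⟩ := (Nat.dvd_prime_pow hp.out).1 hFdvd
  have hG : IsPGroup r (Subgroup.zpowers ψ) := by
    apply IsPGroup.of_card (n := 1)
    rw [Nat.card_zpowers, hψ, pow_one]
  have hmod := hG.card_modEq_card_fixedPoints V
  have hfix : Nat.card (MulAction.fixedPoints (Subgroup.zpowers ψ) V) = Nat.card F := by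
    apply Nat.card_congr
    refine Equiv.setCongr ?_
    ext v
    simp only [MulAction.mem_fixedPoints, Subtype.forall, SetLike.mem_coe]
    constructor
    · intro h
      exact h ψ (Subgroup.mem_zpowers ψ)
    · intro h σ hσ
      obtain ⟨k, rfl⟩ := Subgroup.mem_zpowers_iff.1 hσ
      have hst : ψ ∈ MulAction.stabilizer (MulAut V) v := h
      exact Subgroup.zpow_mem _ hst k
  rw [hfix, hV, hFj] at hmod
  have hjd : j = d := by
    by_contra hjd
    have hlt : j < d := lt_of_le_of_ne hj hjd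
    obtain ⟨e, rfl⟩ := Nat.exists_eq_add_of_lt hlt
    have h1 : r ∣ p ^ (j + e + 1) - p ^ j := (Nat.modEq_iff_dvd' (Nat.pow_le_pow_right hp.out.pos (by omega))).1 hmod.symm
    have h2 : p ^ (j + e + 1) - p ^ j = p ^ j * (p ^ (e + 1) - 1) := by
      rw [Nat.mul_sub, mul_one, ← pow_add, add_assoc]
    rw [h2] at h1
    rcases (Nat.Prime.dvd_mul hr).1 h1 with h3 | h3
    · exact hrp (hr.dvd_of_dvd_pow h3)
    · apply hrp2
      refine h3.trans ?_
      have he : e = 0 ∨ e = 1 := by omega
      rcases he with rfl | rfl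
      · simpa using Nat.sub_dvd_pow_sub_pow p 1 2
      · simp
  have hFtop : F = ⊤ := by
    apply Subgroup.eq_top_of_card_eq
    rw [hFj, hjd, hV]
  have hψ1 : ψ = 1 := by
    ext v
    have : v ∈ F := by rw [hFtop]; trivial
    exact this
  rw [hψ1, orderOf_one] at hψ
  exact hr.one_lt.ne hψ

/-- The action of the automorphism group on the quotient by a characteristic subgroup. -/
noncomputable def quotAut {Q : Type*} [Group Q] (K : Subgroup Q) [K.Characteristic] :
    MulAut Q →* MulAut (Q ⧸ K) where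
  toFun σ := QuotientGroup.congr K K σ (Subgroup.characteristic_iff_map_eq.1 inferInstance σ)
  map_one' := by
    ext x
    obtain ⟨x, rfl⟩ := QuotientGroup.mk_surjective x
    rfl
  map_mul' σ τ := by
    ext x
    obtain ⟨x, rfl⟩ := QuotientGroup.mk_surjective x
    rfl

/-- An element normalising a metacyclic `p`-subgroup, of order prime to `p (p² - 1)`, centralises it. -/
theorem mem_centralizer {G : Type*} [Group G] [Finite G] {p : ℕ} [hp : Fact p.Prime] (Q : Subgroup G)
    (hQ : IsPGroup p Q) (hm : Cfsg.IsMetacyclic Q) (g : G) (hg : g ∈ Subgroup.normalizer (Q : Set G))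
    (hcop : (orderOf g).Coprime p) (hcop2 : (orderOf g).Coprime (p ^ 2 - 1)) :
    g ∈ Subgroup.centralizer (Q : Set G) := by
  obtain ⟨d, hd, hidx⟩ := frattini_index hQ hm
  -- the action on `Q / Φ(Q)`
  have hchar : (frattini Q).Characteristic := inferInstance
  let act : Subgroup.normalizer (Q : Set G) →* MulAut (Q ⧸ frattini Q) :=
    (quotAut (frattini Q)).comp Q.normalizerMonoidHom
  have hdvd : orderOf (act ⟨g, hg⟩) ∣ orderOf g := by
    have h1 := orderOf_map_dvd act ⟨g, hg⟩
    rwa [Subgroup.orderOf_mk] at h1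
  have hact : act ⟨g, hg⟩ = 1 := by
    refine aut_trivial hd (by rw [← hidx]; rfl) _ (hcop.coprime_dvd_left hdvd)
      (hcop2.coprime_dvd_left hdvd)
  have hall : ∀ a ∈ Subgroup.zpowers g, ∀ k ∈ Q, a * k * a⁻¹ * k⁻¹ ∈ (frattini Q).map Q.subtype := by
    intro a ha k hk
    obtain ⟨n, rfl⟩ := Subgroup.mem_zpowers_iff.1 ha
    have haN : g ^ n ∈ Subgroup.normalizer (Q : Set G) := Subgroup.zpow_mem _ hg n
    have h1 : act ⟨g ^ n, haN⟩ = 1 := by
      have : (⟨g ^ n, haN⟩ : Subgroup.normalizer (Q : Set G)) = ⟨g, hg⟩ ^ n := by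
        apply Subtype.ext
        simp
      rw [this, map_zpow, hact, one_zpow]
    have h2 := DFunLike.congr_fun h1 (QuotientGroup.mk (⟨k, hk⟩ : Q))
    have h3 : (QuotientGroup.mk (Q.normalizerMonoidHom ⟨g ^ n, haN⟩ ⟨k, hk⟩) : Q ⧸ frattini Q)
        = QuotientGroup.mk ⟨k, hk⟩ := h2
    have h4 := QuotientGroup.eq.1 h3.symm
    have h5 : (Q.normalizerMonoidHom ⟨g ^ n, haN⟩ ⟨k, hk⟩) * (⟨k, hk⟩ : Q)⁻¹ ∈ frattini Q := by
      have h6 := (inferInstance : (frattini Q).Normal).conj_mem _ h4 ⟨k, hk⟩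
      convert h6 using 1
      group
    refine ⟨_, h5, ?_⟩
    simp
  have hle : Subgroup.zpowers g ≤ Subgroup.centralizer (Q : Set G) := by
    refine Cfsg.Agent.S0029.result (Subgroup.zpowers g) Q ?_ ?_ hall
    · exact (Subgroup.zpowers_le).2 hg
    · obtain ⟨n, hn⟩ := IsPGroup.iff_card.1 (hQ.to_subgroup (frattini Q))
      rw [hn, Nat.card_zpowers]
      exact hcop.pow_right n
  exact hle (Subgroup.mem_zpowers g)

end Cfsg.Agent.H588.MetaFrob
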