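import Mathlib
import Cfsg.Agent.SignalizersComponents.ComponentExists
import Cfsg.Agent.SignalizersComponents.Components
import Cfsg.Agent.Lib.Cores
import Cfsg.Agent.H576.PrimKey
import Cfsg.Agent.H588.MetaFrob

/-!
# Groups in which all noncentral elements of prime power order have classes of the same size

`FactR S` : some element `y ≠ 1` of prime power order of `S` is fixed by no automorphism of order `r`, `r` a prime
divisor of `|S|`.

* `false_of_component` : such a group has no component `K` with `FactR (K / Z(K))`;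
* `isSolvable_of_factR` : it is solvable if `FactR` holds for the simple groups.
-/

set_option autoImplicit false

namespace Cfsg.Agent.H588.PrimPow

open Cfsg Subgroup

universe u

/-- Some element `y ≠ 1` of prime power order has a stabiliser in `Aut S` of order prime to a prime divisor `r` of
`|S|`. -/
def FactR (S : Type*) [Group S] : Prop :=
  ∃ (p r : ℕ) (y : S), p.Prime ∧ r.Prime ∧ r ∣ Nat.card S ∧ y ≠ 1 ∧ (∃ k : ℕ, orderOf y = p ^ k) ∧
    ¬ r ∣ Nat.card (MulAction.stabilizer (MulAut S) y)

variable {G : Type*} [Group G]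

/-- Elements of prime power order lift to elements of prime power order. -/
theorem exists_lift [Finite G] {S : Type*} [Group S] {π : G →* S} (hπ : Function.Surjective π) {p k : ℕ} (hp : p.Prime)
    {y : S} (hy : orderOf y = p ^ k) : ∃ x : G, π x = y ∧ ∃ j : ℕ, orderOf x = p ^ j := by
  obtain ⟨x₀, hx₀⟩ := hπ y
  obtain ⟨j, m, hm, hjm⟩ := Nat.exists_eq_pow_mul_and_not_dvd (orderOf_pos x₀).ne' p hp.ne_one
  have hcop : (m).Coprime (p ^ k) :=
    Nat.Coprime.pow_right k ((Nat.Prime.coprime_iff_not_dvd hp).2 hm).symm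
  obtain ⟨s, hs1, hs2⟩ := Nat.chineseRemainder hcop 0 1
  obtain ⟨u, rfl⟩ : m ∣ s := (Nat.modEq_zero_iff_dvd).1 hs1
  refine ⟨x₀ ^ (m * u), ?_, ?_⟩
  · rw [map_pow, hx₀]
    have h1 : y ^ (m * u) = y ^ 1 := by
      rw [pow_eq_pow_iff_modEq, hy]
      exact hs2
    rw [h1, pow_one]
  · have h2 : (x₀ ^ (m * u)) ^ p ^ j = 1 := by
      rw [← pow_mul]
      apply orderOf_dvd_iff_pow_eq_one.1
      rw [hjm]
      exact ⟨u, by ring⟩
    obtain ⟨i, -, hi⟩ := (Nat.dvd_prime_pow hp).1 (orderOf_dvd_of_pow_eq_one h2)
    exact ⟨i, hi⟩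

/-- The action of the normaliser of `K` on `K / Z(K)`. -/
noncomputable def act (K : Subgroup G) : normalizer (K : Set G) →* MulAut (K ⧸ center K) :=
  (MetaFrob.quotAut (center K)).comp K.normalizerMonoidHom

theorem act_mk (K : Subgroup G) (g : normalizer (K : Set G)) (k : K) :
    act K g (QuotientGroup.mk k) = QuotientGroup.mk (K.normalizerMonoidHom g k) := rfl

/-- For perfect `K` the kernel of the action is the centraliser. -/
theorem act_eq_one_iff {K : Subgroup G} (hK : Group.IsPerfect K) (g : normalizer (K : Set G)) :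
    act K g = 1 ↔ (g : G) ∈ centralizer (K : Set G) := by
  constructor
  · intro h
    have h1 : ∀ k : K, K.normalizerMonoidHom g k * k⁻¹ ∈ center K := by
      intro k
      have h2 : act K g (QuotientGroup.mk k) = QuotientGroup.mk k := by rw [h]; rfl
      rw [act_mk] at h2
      have h3 := QuotientGroup.eq.1 h2.symm
      have h4 : K.normalizerMonoidHom g k * k⁻¹ = k * (k⁻¹ * K.normalizerMonoidHom g k) * k⁻¹ := by group
      rw [h4]
      exact (inferInstance : (center K).Normal).conj_mem _ h3 k
    let f : K →* center K :=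
      { toFun := fun k => ⟨K.normalizerMonoidHom g k * k⁻¹, h1 k⟩
        map_one' := by
          apply Subtype.ext
          simp
        map_mul' := by
          intro a b
          apply Subtype.ext
          show K.normalizerMonoidHom g (a * b) * (a * b)⁻¹ =
            (K.normalizerMonoidHom g a * a⁻¹) * (K.normalizerMonoidHom g b * b⁻¹)
          have h2 := mem_center_iff.1 (h1 b) a⁻¹
          rw [map_mul, mul_inv_rev]
          calc K.normalizerMonoidHom g a * K.normalizerMonoidHom g b * (b⁻¹ * a⁻¹)
              = K.normalizerMonoidHom g a * (K.normalizerMonoidHom g b * b⁻¹ * a⁻¹) := by group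
            _ = K.normalizerMonoidHom g a * (a⁻¹ * (K.normalizerMonoidHom g b * b⁻¹)) := by rw [h2]
            _ = _ := by group }
    have hf : ∀ k : K, f k = 1 := by
      intro k
      have h2 : (⊤ : Subgroup K) ≤ f.ker := by
        rw [← hK.commutator_eq_top, _root_.commutator_def, Subgroup.commutator_le]
        intro a _ b _
        rw [MonoidHom.mem_ker, map_commutatorElement, commutatorElement_eq_one_iff_mul_comm]
        exact Subtype.ext (mem_center_iff.1 (f b).2 _)
      exact h2 (mem_top k)
    rw [mem_centralizer_iff]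
    intro k hk
    have h2 := congrArg (fun z : center K => ((z : K) : G)) (hf ⟨k, hk⟩)
    have h3 : (g : G) * k * (g : G)⁻¹ * k⁻¹ = 1 := h2
    rw [mul_inv_eq_one, mul_inv_eq_iff_eq_mul] at h3
    exact h3.symm
  · intro h
    ext x
    obtain ⟨k, rfl⟩ := QuotientGroup.mk_surjective x
    rw [act_mk]
    show _ = (QuotientGroup.mk k : K ⧸ center K)
    congr 1
    apply Subtype.ext
    show (g : G) * (k : G) * (g : G)⁻¹ = k
    rw [mem_centralizer_iff] at h
    rw [← h k k.2, mul_inv_cancel_right]

/-- The centraliser of a noncentral element of a component normalises the component. -/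
theorem centralizer_le_normalizer [Finite G] {K : Subgroup G} (hK : IsComponent K) {z : G} (hz : z ∈ K)
    (hzc : z ∉ centralizer (K : Set G)) : centralizer ({z} : Set G) ≤ normalizer (K : Set G) := by
  intro g hg
  have hgz : g * z * g⁻¹ = z := by
    rw [mem_centralizer_singleton_iff.1 hg, mul_inv_cancel_right]
  have h1 := SignalizersComponents.Components.isComponent_conj g hK
  have h2 : K.map (MulAut.conj g).toMonoidHom = K := by
    by_contra hne
    have h3 := SignalizersComponents.Components.component_le_centralizer_of_ne h1 hK hne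
    exact hzc (h3 ⟨z, hz, hgz⟩)
  rw [mem_normalizer_iff]
  intro k
  constructor
  · intro hk
    have : g * k * g⁻¹ ∈ K.map (MulAut.conj g).toMonoidHom := ⟨k, hk, rfl⟩
    rwa [h2] at this
  · intro hk
    rw [← h2] at hk
    obtain ⟨k', hk', h3⟩ := hk
    have h4 : g * k' * g⁻¹ = g * k * g⁻¹ := h3
    have h5 : k' = k := by simpa using h4
    rwa [← h5]

theorem centralizer_le_centralizer {K : Subgroup G} {z : G} (hz : z ∈ K) :
    centralizer (K : Set G) ≤ centralizer ({z} : Set G) :=
  centralizer_le (Set.singleton_subset_iff.2 hz)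

/-- The relative index of `C_G(K)` in the centraliser of a noncentral element of the component `K`. -/
theorem card_range [Finite G] {K : Subgroup G} (hK : IsComponent K) {z : G} (hz : z ∈ K)
    (hzc : z ∉ centralizer (K : Set G)) :
    Nat.card ((act K).comp (inclusion (centralizer_le_normalizer hK hz hzc))).range =
      (centralizer (K : Set G)).relIndex (centralizer ({z} : Set G)) := by
  rw [← index_ker]
  have h1 : ((act K).comp (inclusion (centralizer_le_normalizer hK hz hzc))).ker =
      (centralizer (K : Set G)).subgroupOf (centralizer ({z} : Set G)) := by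
    ext g
    rw [MonoidHom.mem_ker, mem_subgroupOf]
    exact act_eq_one_iff hK.2.1 _
  rw [h1]
  rfl

/-- **The main step.** -/
theorem false_of_component [Finite G] {m : ℕ}
    (h : ∀ x : G, (∃ (r : ℕ) (k : ℕ), r.Prime ∧ orderOf x = r ^ k) →
      (centralizer ({x} : Set G)).index = 1 ∨ (centralizer ({x} : Set G)).index = m)
    {K : Subgroup G} (hK : IsComponent K) (hF : FactR (K ⧸ center K)) : False := by
  obtain ⟨p, r, y, hp, hr, hrS, hy1, ⟨k, hk⟩, hst⟩ := hF
  have hfr : Fact r.Prime := ⟨hr⟩
  obtain ⟨y', hy', j, hj⟩ := exists_lift (QuotientGroup.mk'_surjective (center K)) hp hk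
  obtain ⟨x, hx⟩ := exists_prime_orderOf_dvd_card' r hrS
  obtain ⟨x', hx', i, hi⟩ := exists_lift (QuotientGroup.mk'_surjective (center K)) hr
    (show orderOf x = r ^ 1 by rw [hx, pow_one])
  have hx1 : x ≠ 1 := by
    rintro rfl
    rw [orderOf_one] at hx
    exact hr.one_lt.ne hx
  -- noncentral elements
  have hnc : ∀ z : K, QuotientGroup.mk' (center K) z ≠ 1 → (z : G) ∉ centralizer (K : Set G) := by
    intro z hz hzc
    apply hz
    rw [QuotientGroup.mk'_apply, QuotientGroup.eq_one_iff, mem_center_iff]
    intro w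
    exact Subtype.ext (mem_centralizer_iff.1 hzc w w.2)
  have hyc := hnc y' (by rw [hy']; exact hy1)
  have hxc := hnc x' (by rw [hx']; exact hx1)
  have hne1 : ∀ z : K, (z : G) ∉ centralizer (K : Set G) → (centralizer ({(z : G)} : Set G)).index ≠ 1 := by
    intro z hz hi
    rw [index_eq_one] at hi
    apply hz
    rw [mem_centralizer_iff]
    intro w _
    have : w ∈ centralizer ({(z : G)} : Set G) := by rw [hi]; trivial
    exact (mem_centralizer_singleton_iff.1 this)
  have hiy : (centralizer ({(y' : G)} : Set G)).index = m :=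
    (h y' ⟨p, j, hp, by rw [orderOf_coe]; exact hj⟩).resolve_left (hne1 y' hyc)
  have hix : (centralizer ({(x' : G)} : Set G)).index = m :=
    (h x' ⟨r, i, hr, by rw [orderOf_coe]; exact hi⟩).resolve_left (hne1 x' hxc)
  have hrel : (centralizer (K : Set G)).relIndex (centralizer ({(y' : G)} : Set G)) =
      (centralizer (K : Set G)).relIndex (centralizer ({(x' : G)} : Set G)) := by
    have h1 := relIndex_mul_index (centralizer_le_centralizer y'.2)
    have h2 := relIndex_mul_index (centralizer_le_centralizer x'.2)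
    rw [hiy] at h1
    rw [hix, ← h1] at h2
    have hm : 0 < m := by rw [← hiy]; exact Nat.pos_of_ne_zero index_ne_zero_of_finite
    exact (Nat.eq_of_mul_eq_mul_right hm h2).symm
  -- `y'`
  have h1 : ¬ r ∣ (centralizer (K : Set G)).relIndex (centralizer ({(y' : G)} : Set G)) := by
    rw [← card_range hK y'.2 hyc]
    intro hd
    refine hst (hd.trans (card_dvd_of_le ?_))
    rintro _ ⟨g, rfl⟩
    rw [MulAction.mem_stabilizer_iff]
    show act K _ y = y
    rw [← hy']
    rw [QuotientGroup.mk'_apply, act_mk]
    congr 1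
    apply Subtype.ext
    show (g : G) * (y' : G) * (g : G)⁻¹ = y'
    rw [mem_centralizer_singleton_iff.1 g.2, mul_inv_cancel_right]
  apply h1
  rw [hrel, ← card_range hK x'.2 hxc]
  -- `x'`
  have hx'c : (x' : G) ∈ centralizer ({(x' : G)} : Set G) := mem_centralizer_singleton_iff.2 rfl
  set φ := (act K).comp (inclusion (centralizer_le_normalizer hK x'.2 hxc)) with hφ
  have h2 : φ ⟨x', hx'c⟩ ≠ 1 := by
    intro h3
    exact hxc ((act_eq_one_iff hK.2.1 _).1 h3)
  have h3 : orderOf (φ ⟨x', hx'c⟩) ∣ r ^ i := by
    have := orderOf_map_dvd φ ⟨x', hx'c⟩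
    rwa [Subgroup.orderOf_mk, orderOf_coe, hi] at this
  obtain ⟨e, -, he⟩ := (Nat.dvd_prime_pow hr).1 h3
  have he0 : e ≠ 0 := by
    rintro rfl
    rw [pow_zero, orderOf_eq_one_iff] at he
    exact h2 he
  have h4 : orderOf (φ ⟨x', hx'c⟩) ∣ Nat.card φ.range :=
    Subgroup.orderOf_dvd_natCard _ ⟨_, rfl⟩
  rw [he] at h4
  exact (dvd_pow_self r he0).trans h4

/-- Elements of prime power order centralise the `p`-cores of the other characteristics. -/
theorem pCore_le [Finite G] {m : ℕ}
    (h : ∀ x : G, (∃ (r : ℕ) (k : ℕ), r.Prime ∧ orderOf x = r ^ k) →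
      (centralizer ({x} : Set G)).index = 1 ∨ (centralizer ({x} : Set G)).index = m)
    (p : ℕ) [hp : Fact p.Prime] {x : G} {q k : ℕ} (hq : q.Prime) (hqp : q ≠ p) (hx : orderOf x = q ^ k) :
    x ∈ centralizer (pCore p G : Set G) := by
  have hcen : ∀ z : G, z ∉ centralizer ((⊤ : Subgroup G) : Set G) → (centralizer ({z} : Set G)).index ≠ 1 := by
    intro z hz hi
    rw [index_eq_one] at hi
    apply hz
    rw [mem_centralizer_iff]
    intro w _
    have : w ∈ centralizer ({z} : Set G) := by rw [hi]; trivial
    exact (mem_centralizer_singleton_iff.1 this)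
  have hcfg : H576.Prim.Cfg p (⊤ : Subgroup G) (m.factorization p) := by
    constructor
    · rintro y - hy ⟨k, hk⟩
      show (centralizer ({y} : Set G)).index.factorization p = _
      rw [(h y ⟨p, k, hp.out, hk⟩).resolve_left (hcen y hy)]
    · rintro y - hy ⟨q, k, hq, -, hk⟩
      show (centralizer ({y} : Set G)).index.factorization p ≤ _
      rw [(h y ⟨q, k, hq, hk⟩).resolve_left (hcen y hy)]
  obtain ⟨T, hT⟩ := H576.Prim.exists_isSyl p x
  have hn : (pCore p G).Normal := Lib.Cores.pCore_normal p
  have h1 := H576.Prim.key hcfg (mem_top x) hq hqp hx hT (pCore p G) (Lib.Cores.pCore_isPGroup p) le_top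
    (by rw [normalizer_eq_top]; exact le_top) (by rw [normalizer_eq_top]; trivial)
  rw [mem_centralizer_iff]
  intro u hu
  exact mem_centralizer_singleton_iff.1 (h1 hu)

/-- **The reduction.** -/
theorem isSolvable_of_factR {G : Type u} [Group G] [Finite G] {m : ℕ}
    (h : ∀ x : G, (∃ (r : ℕ) (k : ℕ), r.Prime ∧ orderOf x = r ^ k) →
      (centralizer ({x} : Set G)).index = 1 ∨ (centralizer ({x} : Set G)).index = m)
    (hF : ∀ (S : Type u) [Group S] [Finite S] [IsSimpleGroup S], ¬ IsMulCommutative S → FactR S) :
    Group.IsSolvable G := by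
  by_contra hns
  -- the solvable residual
  obtain ⟨n, hn⟩ : ∃ n : ℕ, ∀ k, derivedSeries G n ≤ derivedSeries G k := by
    obtain ⟨R, ⟨n, rfl⟩, hR⟩ := Set.Finite.exists_minimal (s := Set.range (derivedSeries G)) (Set.toFinite _)
      ⟨_, 0, rfl⟩
    refine ⟨n, fun k => ?_⟩
    rcases le_total n k with hnk | hkn
    · exact hR ⟨k, rfl⟩ (derivedSeries_antitone G hnk)
    · exact derivedSeries_antitone G hkn
  set R := derivedSeries G n with hRdef
  have hRn : R.Normal := derivedSeries_normal G n
  have hRs : ¬ Group.IsSolvable R := by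
    intro hs
    apply hns
    have hq : Group.IsSolvable (G ⧸ R) := by
      refine ⟨n, ?_⟩
      rw [← map_derivedSeries_eq (QuotientGroup.mk'_surjective R) n, ← hRdef]
      rw [eq_bot_iff]
      rintro _ ⟨x, hx, rfl⟩
      rw [mem_bot, QuotientGroup.mk'_apply, QuotientGroup.eq_one_iff]
      exact hx
    exact (Group.isSolvable_iff_subgroup_quotient R).2 ⟨hs, hq⟩
  -- it centralises the Fitting subgroup
  have hRc : ∀ p : ℕ, p.Prime → R ≤ centralizer (pCore p G : Set G) := by
    intro p hp
    have hfp : Fact p.Prime := ⟨hp⟩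
    have hnp : (pCore p G).Normal := Lib.Cores.pCore_normal p
    set C := centralizer (pCore p G : Set G) with hC
    have hCn : C.Normal := inferInstance
    have hpg : IsPGroup p (G ⧸ C) := by
      rw [IsPGroup.iff_orderOf]
      intro g
      by_contra hcon
      -- some prime `q ≠ p` divides the order
      obtain ⟨j, t, ht, hjt⟩ := Nat.exists_eq_pow_mul_and_not_dvd (orderOf_pos g).ne' p hp.ne_one
      have ht1 : t ≠ 1 := by
        rintro rfl
        rw [mul_one] at hjt
        exact hcon ⟨j, hjt⟩
      obtain ⟨q, hq, hqt⟩ := Nat.exists_prime_and_dvd ht1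
      have hqp : q ≠ p := by
        rintro rfl
        exact ht hqt
      obtain ⟨s, hs⟩ : q ∣ orderOf g := by rw [hjt]; exact hqt.mul_left _
      have hs0 : s ≠ 0 := by
        rintro rfl
        rw [mul_zero] at hs
        exact (orderOf_pos g).ne' hs
      have ho : orderOf (g ^ s) = q ^ 1 := by
        rw [orderOf_pow_of_dvd hs0 ⟨q, by rw [hs, mul_comm]⟩, hs, pow_one, Nat.mul_div_cancel _ (Nat.pos_of_ne_zero hs0)]
      obtain ⟨x, hx, i, hi⟩ := exists_lift (QuotientGroup.mk'_surjective C) hq ho
      have h1 := pCore_le h p hq hqp hi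
      have h2 : g ^ s = 1 := by
        rw [← hx, QuotientGroup.mk'_apply, QuotientGroup.eq_one_iff]
        exact h1
      rw [h2, orderOf_one, pow_one] at ho
      exact hq.one_lt.ne ho
    have hnil := hpg.isNilpotent
    have hsol : Group.IsSolvable (G ⧸ C) := inferInstance
    obtain ⟨k, hk⟩ := hsol
    refine (hn k).trans ?_
    rw [← map_derivedSeries_eq (QuotientGroup.mk'_surjective C) k] at hk
    intro x hx
    have h1 : QuotientGroup.mk' C x ∈ (derivedSeries G k).map (QuotientGroup.mk' C) := ⟨x, hx, rfl⟩
    rw [hk, mem_bot, QuotientGroup.mk'_apply, QuotientGroup.eq_one_iff] at h1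
    exact h1
  have hRF : R ≤ centralizer (fittingSubgroup G : Set G) := by
    rw [Lib.Cores.fittingSubgroup_eq_iSup_pCore]
    rw [← Subgroup.le_centralizer_iff]
    refine iSup_le fun p => ?_
    rw [Subgroup.le_centralizer_iff]
    exact hRc p p.2
  have hRsub : R.IsSubnormal := hRn.isSubnormal
  obtain ⟨K, hK, -⟩ := SignalizersComponents.ComponentExists.exists_isComponent_le hRsub hRs hRF
  have hsim : IsSimpleGroup (K ⧸ center K) := hK.2.2
  refine false_of_component h hK (hF (K ⧸ center K) ?_)
  intro hcomm
  -- a perfect group with abelian quotient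
  have h1 : commutator (K ⧸ center K) = ⊥ := by
    rw [_root_.commutator_def, Subgroup.commutator_eq_bot_iff_le_centralizer]
    intro a _
    rw [mem_centralizer_iff]
    intro b _
    exact hcomm.is_comm.comm b a
  have h2 : commutator (K ⧸ center K) = ⊤ := by
    have h3 := hK.2.1.commutator_eq_top
    rw [_root_.commutator_def] at h3 ⊢
    rw [← MonoidHom.range_eq_top.2 (QuotientGroup.mk'_surjective (center K)), MonoidHom.range_eq_map,
      ← Subgroup.map_commutator, h3]
  rw [h1] at h2
  exact bot_ne_top h2

end Cfsg.Agent.H588.PrimPow
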