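import Mathlib
import Cfsg.Agent.H588.PrimPow

/-!
# Criteria for `FactR`

* `factR_of_index` : an element `y ≠ 1` of prime power order, a prime divisor `r` of `|S|` dividing neither
  `|C_S(y)|` nor the index of `Inn S` in `Aut S`.
-/

set_option autoImplicit false

namespace Cfsg.Agent.H588.FactRows

open Cfsg Subgroup PrimPow

/-- The inner automorphisms form a normal subgroup. -/
theorem range_conj_normal (S : Type*) [Group S] : ((MulAut.conj : S →* MulAut S).range).Normal := by
  constructor
  rintro _ ⟨s, rfl⟩ f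
  refine ⟨f s, ?_⟩
  ext t
  show f s * t * (f s)⁻¹ = f (s * f⁻¹ t * s⁻¹)
  rw [map_mul, map_mul, map_inv]
  have : f (f⁻¹ t) = t := f.apply_symm_apply t
  rw [this]

theorem factR_of_index {S : Type*} [Group S] [Finite S] {p r k : ℕ} (hp : p.Prime) (hr : r.Prime)
    (hrd : r ∣ Nat.card S) {y : S} (hy : y ≠ 1) (hyo : orderOf y = p ^ k)
    (h1 : ¬ r ∣ Nat.card (centralizer ({y} : Set S))) (h2 : ¬ r ∣ (MulAut.conj : S →* MulAut S).range.index) :
    FactR S := by
  refine ⟨p, r, y, hp, hr, hrd, hy, ⟨k, hyo⟩, fun hd => ?_⟩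
  have hN := range_conj_normal S
  set N := (MulAut.conj : S →* MulAut S).range with hNdef
  set T := MulAction.stabilizer (MulAut S) y with hT
  have h3 : (N.subgroupOf T).index ∣ N.index := Subgroup.relIndex_dvd_index_of_normal N T
  have h4 := Subgroup.card_mul_index (N.subgroupOf T)
  rw [← h4] at hd
  rcases (hr.dvd_mul).1 hd with h5 | h5
  · apply h1
    have h6 : (N.subgroupOf T).map T.subtype ≤ (centralizer ({y} : Set S)).map MulAut.conj := by
      rintro _ ⟨t, ht, rfl⟩
      obtain ⟨s, hs⟩ := mem_subgroupOf.1 ht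
      refine ⟨s, ?_, hs⟩
      have h7 : (t : MulAut S) • y = y := t.2
      rw [← hs] at h7
      have h8 : s * y * s⁻¹ = y := h7
      show s ∈ centralizer ({y} : Set S)
      rw [mem_centralizer_singleton_iff]
      exact mul_inv_eq_iff_eq_mul.1 h8
    have h7 := Subgroup.card_dvd_of_le h6
    rw [Subgroup.card_map_of_injective (Subgroup.subtype_injective _)] at h7
    exact (h5.trans h7).trans (Subgroup.card_map_dvd _ _)
  · exact h2 (h5.trans h3)

/-- Outer automorphism groups of order at most two: a prime `r ≠ 2`. -/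
theorem factR_of_le_two {S : Type*} [Group S] [Finite S] {p r k : ℕ} (hp : p.Prime) (hr : r.Prime) (hr2 : r ≠ 2)
    (hrd : r ∣ Nat.card S) {y : S} (hy : y ≠ 1) (hyo : orderOf y = p ^ k)
    (h1 : ¬ r ∣ Nat.card (centralizer ({y} : Set S))) (h2 : (MulAut.conj : S →* MulAut S).range.index ≤ 2) :
    FactR S := by
  refine factR_of_index hp hr hrd hy hyo h1 fun hd => ?_
  have h3 : (MulAut.conj : S →* MulAut S).range.index ≠ 0 := Subgroup.index_ne_zero_of_finite
  have h4 := Nat.le_of_dvd (Nat.pos_of_ne_zero h3) hd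
  have h5 := hr.two_le
  omega

end Cfsg.Agent.H588.FactRows
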