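import Mathlib
import Cfsg.Agent.H588.OutPrime
import Cfsg.Agent.S1059
import Cfsg.Agent.S1062
import Cfsg.Agent.S1063
import Cfsg.Agent.S1064
import Cfsg.Agent.S1065
import Cfsg.Agent.S1066
import Cfsg.Agent.S1067
import Cfsg.Agent.S1068
import Cfsg.Agent.S1069
import Cfsg.Agent.S1163
import Cfsg.Agent.S2121
import Cfsg.Agent.S2122
import Cfsg.Agent.S2123
import Cfsg.Agent.S2124
import Cfsg.Agent.S2125
import Cfsg.Agent.S2126
import Cfsg.Agent.S2127
import Cfsg.Agent.S2128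
import Cfsg.Agent.S2129
import Cfsg.Agent.S2130

/-!
# A prime divisor of the order not dividing the order of the outer automorphism group: all groups of Lie type

* `nz_lie` : a simple group of Lie type in characteristic `p` has a prime divisor `r ≠ p` not dividing `|Out S|`.
-/

set_option autoImplicit false

namespace Cfsg.Agent.H588.OutPrime

open Cfsg Subgroup Cfsg.Agent.OrdDiv Cfsg.Agent.H436

theorem exists_r {p f e : ℕ} (hp : p.Prime) (hf : 1 ≤ f) (he : 4 ≤ e) (h6 : ¬ (p = 2 ∧ f * e = 6)) :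
    ∃ r : ℕ, r.Prime ∧ r ≠ p ∧ 5 ≤ r ∧ f < r ∧ Prim (p ^ f) e r := by
  have h4 : 4 ≤ f * e := by nlinarith
  obtain ⟨r, hr⟩ := exists_prim hp.two_le (show 3 ≤ f * e by omega) h6
  obtain ⟨h5, hfr⟩ := prim_facts (by omega) h4 hr
  exact ⟨r, hr.prime, ne_of_prim hr, h5, hfr, H425.PartP.prim_of_pow (by omega) hr⟩

theorem nz_of {p r N : ℕ} {K : Type*} [Group K] (hr : r.Prime) (hrp : r ≠ p) (hd : r ∣ Nat.card K)
    (hN : Nat.card (Out K) = N) (h : ¬ r ∣ N) : NZ p K :=
  ⟨r, hr, hrp, hd, fun h' => h (hN ▸ h')⟩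

theorem two_mul_eq (f : ℕ) (hf : 1 ≤ f) : 12 ≤ f * 12 := by omega

section

variable {S : Type*} [Group S] {p : ℕ}

theorem nz_exc (h : IsExceptionalChevChar p S) : NZ p S := by
  obtain ⟨F, _, _, _, h⟩ := h
  obtain ⟨hp, f, hf, hF⟩ := exists_card (F := F) p
  have hpf : Fact p.Prime := ⟨hp⟩
  rcases h with ⟨h3, ⟨e⟩⟩ | ⟨⟨e⟩⟩ | ⟨⟨e⟩⟩ | ⟨⟨e⟩⟩ | ⟨⟨e⟩⟩
  · refine NZ.congr e ?_
    obtain ⟨r, hr, hrp, h5, hfr, hq⟩ := exists_r (e := 6) hp hf (by norm_num) (by
      rintro ⟨rfl, h6⟩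
      obtain rfl : f = 1 := by omega
      rw [hF] at h3
      norm_num at h3)
    refine nz_of hr hrp ?_ (S2121.result p f hF (by rw [← hF]; exact h3)) ?_
    · rw [S1059.result hF]
      exact (hq.dvd dvd_rfl).mul_left _
    · split_ifs
      · exact hr.not_dvd_mul (not_dvd_small h5 (by norm_num) (by norm_num)) (not_dvd_lt hf hfr)
      · exact not_dvd_lt hf hfr
  · refine NZ.congr e ?_
    obtain ⟨r, hr, hrp, h5, hfr, hq⟩ := exists_r (e := 12) hp hf (by norm_num) (by omega)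
    refine nz_of hr hrp ?_ (S2122.result p f hF) ?_
    · rw [S1062.result hF]
      exact (hq.dvd dvd_rfl).mul_left _
    · exact hr.not_dvd_mul (not_dvd_gcd h5 (by norm_num) (by norm_num)) (not_dvd_lt hf hfr)
  · refine NZ.congr e ?_
    obtain ⟨r, hr, hrp, h5, hfr, hq⟩ := exists_r (e := 12) hp hf (by norm_num) (by omega)
    refine nz_of hr hrp ?_ (S2123.result p f hF) ?_
    · exact hq.dvd_of_eq (S1063.result hF) ((hq.dvd dvd_rfl).mul_left _)
        (not_dvd_gcd h5 (by norm_num) (by norm_num))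
    · exact hr.not_dvd_mul (hr.not_dvd_mul (not_dvd_small h5 (by norm_num) (by norm_num))
        (not_dvd_gcd h5 (by norm_num) (by norm_num))) (not_dvd_lt hf hfr)
  · refine NZ.congr e ?_
    obtain ⟨r, hr, hrp, h5, hfr, hq⟩ := exists_r (e := 18) hp hf (by norm_num) (by omega)
    refine nz_of hr hrp ?_ (S2124.result p f hF) ?_
    · exact hq.dvd_of_eq (S1064.result hF) ((hq.dvd dvd_rfl).mul_left _)
        (not_dvd_gcd h5 (by norm_num) (by norm_num))
    · exact hr.not_dvd_mul (not_dvd_gcd h5 (by norm_num) (by norm_num)) (not_dvd_lt hf hfr)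
  · refine NZ.congr e ?_
    obtain ⟨r, hr, hrp, h5, hfr, hq⟩ := exists_r (e := 30) hp hf (by norm_num) (by omega)
    refine nz_of hr hrp ?_ (S2125.result p f hF) ?_
    · rw [S1065.result hF]
      exact (hq.dvd dvd_rfl).mul_left _
    · exact not_dvd_lt hf hfr

theorem exists_pow_of_card {K : Type*} [Field K] [Fintype K] [CharP K p] {q k : ℕ} (hk : k ≠ 0)
    (hK : Fintype.card K = q ^ k) : p.Prime ∧ ∃ f : ℕ, 1 ≤ f ∧ q = p ^ f := by
  obtain ⟨hp, f', hf', hF'⟩ := exists_card (F := K) p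
  refine ⟨hp, ?_⟩
  obtain ⟨f, -, hq⟩ : ∃ f ≤ f', q = p ^ f := by
    refine (Nat.dvd_prime_pow hp).1 ?_
    rw [← hF', hK]
    exact dvd_pow_self q hk
  refine ⟨f, ?_, hq⟩
  rcases Nat.eq_zero_or_pos f with h0 | h0
  · exfalso
    have h1 := Fintype.one_lt_card (α := K)
    rw [hK, hq, h0, pow_zero, one_pow] at h1
    norm_num at h1
  · exact h0

theorem nz_tw (h : IsTwistedE6D4Char p S) : NZ p S := by
  obtain ⟨K, _, _, _, q, hq, h⟩ := h
  rcases h with ⟨hK, ⟨e⟩⟩ | ⟨hK, ⟨e⟩⟩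
  · obtain ⟨hp, f, hf, rfl⟩ := exists_pow_of_card (p := p) (by norm_num) hK
    have hpf : Fact p.Prime := ⟨hp⟩
    refine NZ.congr e ?_
    obtain ⟨r, hr, hrp, h5, hfr, hq'⟩ := exists_r (e := 12) hp hf (by norm_num) (by omega)
    refine nz_of hr hrp ?_ (S2130.result p f (by rw [hK, ← pow_mul, mul_comm]) hf) ?_
    · exact hq'.dvd_of_eq (S1066.result hq hK) ((hq'.dvd dvd_rfl).mul_left _)
        (not_dvd_gcd h5 (by norm_num) (by norm_num))
    · exact hr.not_dvd_mul (hr.not_dvd_mul (not_dvd_small h5 (by norm_num) (by norm_num))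
        (not_dvd_gcd h5 (by norm_num) (by norm_num))) (not_dvd_lt hf hfr)
  · obtain ⟨hp, f, hf, rfl⟩ := exists_pow_of_card (p := p) (by norm_num) hK
    have hpf : Fact p.Prime := ⟨hp⟩
    refine NZ.congr e ?_
    obtain ⟨r, hr, hrp, h5, hfr, hq'⟩ := exists_r (e := 12) hp hf (by norm_num) (by omega)
    refine nz_of hr hrp ?_ (S2129.result p f (by rw [hK, ← pow_mul, mul_comm]) hf) ?_
    · rw [S1067.result hq hK]
      refine Dvd.dvd.mul_left ?_ _
      have h1 := hq'.dvd (m := 12) dvd_rfl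
      have hpos : 1 ≤ p ^ f := Nat.one_le_pow _ _ hp.pos
      have h2 : (p ^ f) ^ 12 - 1 = ((p ^ f) ^ 8 + (p ^ f) ^ 4 + 1) * ((p ^ f) ^ 4 - 1) := by
        generalize p ^ f = x at hpos
        have h3 : 1 ≤ x ^ 4 := Nat.one_le_pow _ _ hpos
        have h4 : 1 ≤ x ^ 12 := Nat.one_le_pow _ _ hpos
        zify [h3, h4]
        ring
      rw [h2] at h1
      exact (hr.dvd_mul.1 h1).resolve_right (hq'.not_dvd_sub (by norm_num))
    · exact hr.not_dvd_mul (not_dvd_small h5 (by norm_num) (by norm_num)) (not_dvd_lt hf hfr)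

theorem nz_sz (h : Lie.IsoSuzuki S) : NZ 2 S := by
  obtain ⟨K, _, _, m, hm, hK, ⟨e⟩⟩ := h
  refine NZ.congr e ?_
  obtain ⟨r, hr, hrp, h5, hfr, hq⟩ := exists_r (e := 4) (f := 2 * m + 1) Nat.prime_two (by omega) (by norm_num)
    (by omega)
  refine nz_of hr hrp ?_ (S2126.result hm hK) (not_dvd_lt (by omega) hfr)
  rw [(S1163.result hm hK).1]
  exact (hq.dvd_add (m := 2) (by norm_num) (by norm_num)).mul_left _

theorem nz_tf4 (h : Lie.Iso2F4 S) : NZ 2 S := by
  obtain ⟨K, _, _, m, hm, hK, ⟨e⟩⟩ := h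
  refine NZ.congr e ?_
  obtain ⟨r, hr, hrp, h5, hfr, hq⟩ := exists_r (e := 12) (f := 2 * m + 1) Nat.prime_two (by omega) (by norm_num)
    (by omega)
  refine nz_of hr hrp ?_ (S2128.result hm hK) (not_dvd_lt (by omega) hfr)
  rw [S1068.result hK]
  exact (hq.dvd_add (m := 6) (by norm_num) (by norm_num)).mul_left _

theorem nz_ree (h : Lie.IsoRee S) : NZ 3 S := by
  obtain ⟨K, _, _, m, hm, hK, ⟨e⟩⟩ := h
  refine NZ.congr e ?_
  obtain ⟨r, hr, hrp, h5, hfr, hq⟩ := exists_r (e := 6) (f := 2 * m + 1) Nat.prime_three (by omega) (by norm_num)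
    (by omega)
  refine nz_of hr hrp ?_ (S2127.result hm hK) (not_dvd_lt (by omega) hfr)
  rw [S1069.result hK]
  exact (hq.dvd_add (m := 3) (by norm_num) (by norm_num)).mul_left _

/-- **A simple group of Lie type in characteristic `p` has a prime divisor `r ≠ p` of the order which does not divide
the order of the outer automorphism group.** -/
theorem nz_lie [Finite S] [IsSimpleGroup S] (hna : ¬ IsMulCommutative S) (h : IsLieTypeChar p S) : NZ p S := by
  rcases h with h | h | h | h | h | h | h | h | h | h | h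
  · exact nz_psl hna h
  · exact nz_psp hna h
  · exact nz_psu hna h
  · exact nz_oodd hna h
  · exact nz_oplus hna h
  · exact nz_ominus hna h
  · exact nz_exc h
  · exact nz_tw h
  · obtain ⟨rfl, h⟩ := h
    exact nz_sz h
  · obtain ⟨rfl, h⟩ := h
    exact nz_tf4 h
  · obtain ⟨rfl, h⟩ := h
    exact nz_ree h

end

end Cfsg.Agent.H588.OutPrime
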