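import Cfsg.Agent.H463.LieReg
import Cfsg.Agent.H393.Iso.All
import Cfsg.Agent.H498.KnownFree
import Cfsg.Agent.H588.FactRows
import Cfsg.Agent.H588.OutPrimeEx
import Cfsg.Agent.H588.AltElt

/-!
# The known simple groups satisfy `FactR`

Some element `y ≠ 1` of prime power order has a stabiliser in the automorphism group of order prime to a prime divisor
of the order of the group.
-/

set_option autoImplicit false

namespace Cfsg.Agent.H588.FactKnown

open Cfsg Subgroup PrimPow FactRows

theorem factR_congr {S K : Type*} [Group S] [Group K] (e : S ≃* K) (h : FactR K) : FactR S := by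
  obtain ⟨p, r, y, hp, hr, hd, hy, ⟨k, hk⟩, hs⟩ := h
  refine ⟨p, r, e.symm y, hp, hr, by rwa [Nat.card_congr e.toEquiv], ?_, ⟨k, ?_⟩, ?_⟩
  · intro h
    exact hy (e.symm.injective (h.trans (map_one e.symm).symm))
  · rw [← hk]
    exact orderOf_injective e.symm.toMonoidHom e.symm.injective y
  · intro h
    apply hs
    have h1 : Nat.card (MulAction.stabilizer (MulAut S) (e.symm y)) = Nat.card (MulAction.stabilizer (MulAut K) y) := by
      refine Nat.card_congr (Equiv.subtypeEquiv (MulAut.congr e).toEquiv fun f => ?_)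
      show f (e.symm y) = e.symm y ↔ e (f (e.symm y)) = y
      constructor
      · intro h
        rw [h, e.apply_symm_apply]
      · intro h
        apply e.injective
        rw [h, e.apply_symm_apply]
    rwa [← h1]

/-- Groups of Lie type. -/
theorem factR_lie {S : Type*} [Group S] [Finite S] [IsSimpleGroup S] (hna : ¬ IsMulCommutative S) {p : ℕ}
    (h : IsLieTypeChar p S) : FactR S := by
  obtain ⟨r, hr, hrp, hd, hi⟩ := OutPrime.nz_lie hna h
  obtain ⟨z, hz, ⟨k, hk⟩, hg⟩ := H463.LieReg.exists_regular_isPGroup inferInstance h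
  have hp := H463.LieReg.prime h
  refine factR_of_index hp hr hd hz hk (fun h1 => ?_) hi
  have : Fact p.Prime := ⟨hp⟩
  obtain ⟨m, hm⟩ := IsPGroup.iff_card.1 hg
  rw [hm] at h1
  exact hrp ((Nat.prime_dvd_prime_iff_eq hr hp).1 (hr.dvd_of_dvd_pow h1))

/-- Alternating groups of degree at least seven. -/
theorem factR_alt {n : ℕ} (hn : 7 ≤ n) : FactR (alternatingGroup (Fin n)) := by
  obtain ⟨r, hr, hr1, hr2⟩ := Nat.exists_prime_lt_and_le_two_mul (n / 2) (by omega)
  obtain ⟨x, hx, hc⟩ := AltElt.exists_rep (n := n) (k := n / 3) (a := 3) (by omega) (by norm_num) (by omega)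
    ⟨n / 3 * 2, by ring⟩
  refine factR_of_le_two (p := 3) (r := r) (k := 1) (y := x) Nat.prime_three hr (by omega) ?_ ?_
    (by rw [hx, pow_one]) ?_ (H498.KnownFree.index_alt hn (MulEquiv.refl _))
  · have h1 : r ∣ 2 * Nat.card (alternatingGroup (Fin n)) := by
      rw [AltElt.two_mul_card (by omega), hr.dvd_factorial]
      omega
    refine (hr.dvd_mul.1 h1).resolve_left fun h2 => ?_
    have := Nat.le_of_dvd (by norm_num) h2
    omega
  · rintro rfl
    rw [orderOf_one] at hx
    norm_num at hx
  · intro h1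
    rcases hr.dvd_mul.1 (h1.trans hc) with h2 | h2
    · rcases hr.dvd_mul.1 h2 with h3 | h3
      · have := (hr.dvd_factorial).1 h3
        omega
      · have := Nat.le_of_dvd (by norm_num) (hr.dvd_of_dvd_pow h3)
        omega
    · have := (hr.dvd_factorial).1 h2
      omega

/-- An odd prime not adjacent to 2 in the prime graph, and at most two classes of automorphisms. -/
theorem factR_isolated {S : Type*} [Group S] [Finite S] (h2 : 2 ∣ Nat.card S) (h : H393.Iso.Isolated S)
    (hi : (MulAut.conj : S →* MulAut S).range.index ≤ 2) : FactR S := by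
  obtain ⟨r, hr, hr2, hd, hna⟩ := h
  have : Fact (Nat.Prime 2) := ⟨Nat.prime_two⟩
  obtain ⟨t, ht⟩ := exists_prime_orderOf_dvd_card' 2 h2
  refine factR_of_le_two (p := 2) (r := r) (k := 1) (y := t) Nat.prime_two hr hr2 hd ?_ (by rw [ht, pow_one]) ?_ hi
  · rintro rfl
    rw [orderOf_one] at ht
    norm_num at ht
  · intro h1
    have : Fact r.Prime := ⟨hr⟩
    obtain ⟨x, hx⟩ := exists_prime_orderOf_dvd_card' r h1
    refine hna (x : S) t (by rw [Subgroup.orderOf_coe, hx]) ht ?_
    exact mem_centralizer_singleton_iff.1 x.2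

/-- **The known simple groups satisfy `FactR`.** -/
theorem factR_of_known {S : Type*} [Group S] [Finite S] [IsSimpleGroup S] (hna : ¬ IsMulCommutative S)
    (h : IsKnownSimple' S) : FactR S := by
  have h2 := H498.KnownFree.two_dvd_card hna
  have hc := H498.KnownFree.center_eq_bot hna
  rcases Omega.ML.Known.cases h with h | h | ⟨⟨p, hp, -, h⟩, -⟩ | h | ⟨n, hn, -, ⟨e⟩⟩ | h | h
  · exfalso
    have h3 : Nat.Prime (Nat.card S) := h
    have : Fact (Nat.card S).Prime := ⟨h3⟩
    have hcyc : IsCyclic S := isCyclic_of_prime_card (α := S) rfl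
    exact hna IsCyclic.isMulCommutative
  · exact factR_lie hna h
  · exact factR_lie hna h
  · obtain ⟨e⟩ := h
    obtain ⟨f⟩ := S0254.psl_k9
    have h3 : IsLieTypeChar 3 S := by
      refine Or.inl ⟨S0254.K9, inferInstance, inferInstance, ?_, 2, le_rfl, fun _ => ?_, ⟨e.trans f.symm⟩⟩
      · have : Fact (Nat.Prime 3) := ⟨Nat.prime_three⟩
        refine charP_of_card_eq_prime_pow (f := 2) ?_
        rw [S0254.card_k9]
        norm_num
      · rw [S0254.card_k9]
        norm_num
    exact factR_lie hna h3
  · exact factR_congr e (factR_alt hn)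
  · refine factR_isolated h2 (H393.Iso.isolated_of_isTits h) ?_
    have hn := range_conj_normal S
    exact TitsK.index_le h _ ⟨(MonoidHom.ofInjective (H498.OutTwo.conj_injective hc)).symm⟩
      (H498.KnownFree.centralizer_inn hc)
  · exact factR_isolated h2 (H393.Iso.isolated_of_isSporadic h) (H498.SporOut.index_le_two h)

end Cfsg.Agent.H588.FactKnown
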