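import Mathlib
import Cfsg.Agent.TwoFusion.RankTwoWreath

/-!
# Pairs of elements of order `2 ^ m` generating a direct product
-/

set_option autoImplicit false

namespace Cfsg.Agent.H588.HomoPair

open Subgroup

variable {A : Type*} [Group A]

theorem mul_injective {x y : A} (hd : Subgroup.zpowers x ⊓ Subgroup.zpowers y = ⊥) :
    Function.Injective (fun p : Subgroup.zpowers x × Subgroup.zpowers y => (p.1 : A) * (p.2 : A)) := by
  rintro ⟨a, b⟩ ⟨a', b'⟩ hab
  simp only at hab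
  have h1 : (a' : A)⁻¹ * a = b' * (b : A)⁻¹ := by
    rw [eq_mul_inv_iff_mul_eq, mul_assoc, hab, inv_mul_cancel_left]
  have h2 : (a' : A)⁻¹ * a ∈ Subgroup.zpowers x ⊓ Subgroup.zpowers y := by
    refine ⟨Subgroup.mul_mem _ (Subgroup.inv_mem _ a'.2) a.2, ?_⟩
    rw [h1]
    exact Subgroup.mul_mem _ b'.2 (Subgroup.inv_mem _ b.2)
  rw [hd, Subgroup.mem_bot] at h2
  have h3 : (a : A) = a' := by
    rw [inv_mul_eq_one] at h2; exact h2.symm
  have h4 : (b : A) = b' := by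
    rw [h3] at hab; exact mul_left_cancel hab
  exact Prod.ext (Subtype.ext h3) (Subtype.ext h4)

theorem mul_surjective {x y : A} (hxy : x * y = y * x) (hcl : Subgroup.closure ({x, y} : Set A) = ⊤) (a : A) :
    ∃ i j : ℤ, a = x ^ i * y ^ j := by
  have h1 : a ∈ Subgroup.closure ({x, y} : Set A) := by rw [hcl]; trivial
  induction h1 using Subgroup.closure_induction with
  | mem t ht =>
    rcases ht with rfl | ht
    · exact ⟨1, 0, by simp⟩
    · rw [Set.mem_singleton_iff] at ht; subst ht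
      exact ⟨0, 1, by simp⟩
  | one => exact ⟨0, 0, by simp⟩
  | mul a b _ _ iha ihb =>
    obtain ⟨i, j, rfl⟩ := iha
    obtain ⟨k, l, rfl⟩ := ihb
    refine ⟨i + k, j + l, ?_⟩
    have h2 : y ^ j * x ^ k = x ^ k * y ^ j := ((show Commute y x from hxy.symm).zpow_zpow j k)
    rw [zpow_add, zpow_add, mul_assoc, ← mul_assoc (y ^ j), h2]
    group
  | inv a _ iha =>
    obtain ⟨i, j, rfl⟩ := iha
    refine ⟨-i, -j, ?_⟩
    rw [mul_inv_rev, ← zpow_neg, ← zpow_neg]
    exact ((show Commute y x from hxy.symm).zpow_zpow (-j) (-i))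

variable {m : ℕ}

theorem card_eq {x y : A} (hxy : x * y = y * x) (hcl : Subgroup.closure ({x, y} : Set A) = ⊤)
    (hx : orderOf x = 2 ^ m) (hy : orderOf y = 2 ^ m)
    (hd : Subgroup.zpowers x ⊓ Subgroup.zpowers y = ⊥) : Nat.card A = 2 ^ m * 2 ^ m := by
  have h1 : Function.Bijective (fun p : Subgroup.zpowers x × Subgroup.zpowers y => (p.1 : A) * (p.2 : A)) := by
    refine ⟨mul_injective hd, fun a => ?_⟩
    obtain ⟨i, j, rfl⟩ := mul_surjective hxy hcl a
    exact ⟨(⟨x ^ i, Subgroup.zpow_mem _ (Subgroup.mem_zpowers x) _⟩,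
      ⟨y ^ j, Subgroup.zpow_mem _ (Subgroup.mem_zpowers y) _⟩), rfl⟩
  rw [← Nat.card_congr (Equiv.ofBijective _ h1), Nat.card_prod, Nat.card_zpowers, Nat.card_zpowers, hx, hy]

theorem exists_repr_of_card [Finite A] {x y : A} (hx : orderOf x = 2 ^ m) (hy : orderOf y = 2 ^ m)
    (hd : Subgroup.zpowers x ⊓ Subgroup.zpowers y = ⊥) (hc : Nat.card A = 2 ^ m * 2 ^ m) (a : A) :
    ∃ i j : ℤ, a = x ^ i * y ^ j := by
  have h1 : Function.Bijective (fun p : Subgroup.zpowers x × Subgroup.zpowers y => (p.1 : A) * (p.2 : A)) := by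
    rw [Nat.bijective_iff_injective_and_card]
    refine ⟨mul_injective hd, ?_⟩
    rw [Nat.card_prod, Nat.card_zpowers, Nat.card_zpowers, hx, hy, hc]
  obtain ⟨⟨⟨u, i, hi⟩, ⟨v, j, hj⟩⟩, huv⟩ := h1.2 a
  refine ⟨i, j, ?_⟩
  rw [← huv]
  simp only at hi hj ⊢
  rw [hi, hj]

/-- The isomorphism with `Z/2^m × Z/2^m`. -/
theorem exists_mulEquiv {x y : A} (hxy : x * y = y * x) (hcl : Subgroup.closure ({x, y} : Set A) = ⊤)
    (hx : orderOf x = 2 ^ m) (hy : orderOf y = 2 ^ m)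
    (hd : Subgroup.zpowers x ⊓ Subgroup.zpowers y = ⊥) :
    Nonempty (A ≃* Multiplicative (ZMod (2 ^ m) × ZMod (2 ^ m))) := by
  have e1 : Multiplicative (ZMod (2 ^ m)) ≃* Subgroup.zpowers x := by
    have := zmodCyclicMulEquiv (inferInstance : IsCyclic (Subgroup.zpowers x))
    rw [Nat.card_zpowers, hx] at this
    exact this
  have e2 : Multiplicative (ZMod (2 ^ m)) ≃* Subgroup.zpowers y := by
    have := zmodCyclicMulEquiv (inferInstance : IsCyclic (Subgroup.zpowers y))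
    rw [Nat.card_zpowers, hy] at this
    exact this
  have hcomm : ∀ (a : Subgroup.zpowers x) (b : Subgroup.zpowers y),
      Commute ((Subgroup.zpowers x).subtype a) ((Subgroup.zpowers y).subtype b) := by
    rintro ⟨a, i, rfl⟩ ⟨b, j, rfl⟩
    exact (show Commute x y from hxy).zpow_zpow i j
  let f : Subgroup.zpowers x × Subgroup.zpowers y →* A :=
    MonoidHom.noncommCoprod (Subgroup.subtype _) (Subgroup.subtype _) hcomm
  have hf : Function.Bijective f := by
    refine ⟨mul_injective hd, fun a => ?_⟩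
    obtain ⟨i, j, rfl⟩ := mul_surjective hxy hcl a
    exact ⟨(⟨x ^ i, Subgroup.zpow_mem _ (Subgroup.mem_zpowers x) _⟩,
      ⟨y ^ j, Subgroup.zpow_mem _ (Subgroup.mem_zpowers y) _⟩), rfl⟩
  exact ⟨(MulEquiv.ofBijective f hf).symm.trans
    ((MulEquiv.prodCongr e1.symm e2.symm).trans (MulEquiv.prodMultiplicative _ _).symm)⟩

/-- Involutions are `2 ^ (m - 1)`-th powers. -/
theorem exists_root [Finite A] {x y : A} (hm : 1 ≤ m) (hxy : x * y = y * x)
    (hcl : Subgroup.closure ({x, y} : Set A) = ⊤) (hx : orderOf x = 2 ^ m) (hy : orderOf y = 2 ^ m)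
    (hd : Subgroup.zpowers x ⊓ Subgroup.zpowers y = ⊥) {e : A} (he : e * e = 1) :
    ∃ r : A, r ^ (2 ^ (m - 1)) = e := by
  obtain ⟨φ⟩ := exists_mulEquiv hxy hcl hx hy hd
  exact Cfsg.Agent.TwoFusion.RankTwoWreath.exists_root hm φ e he

/-- Two elements of order `2 ^ m` with different involutions generate disjoint cyclic groups. -/
theorem disjoint_of_ne [Finite A] {x y : A} (hm : 1 ≤ m) (hx : orderOf x = 2 ^ m) (hy : orderOf y = 2 ^ m)
    (hne : x ^ (2 ^ (m - 1)) ≠ y ^ (2 ^ (m - 1))) : Subgroup.zpowers x ⊓ Subgroup.zpowers y = ⊥ := by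
  have : Fact (Nat.Prime 2) := ⟨Nat.prime_two⟩
  by_contra hD
  have hDne : 1 < Nat.card ↥(Subgroup.zpowers x ⊓ Subgroup.zpowers y) := by
    rw [Subgroup.one_lt_card_iff_ne_bot]; exact hD
  have hdvd : Nat.card ↥(Subgroup.zpowers x ⊓ Subgroup.zpowers y) ∣ 2 ^ m := by
    rw [← hx, ← Nat.card_zpowers]
    exact Subgroup.card_dvd_of_le inf_le_left
  obtain ⟨n, -, hn⟩ := (Nat.dvd_prime_pow Nat.prime_two).1 hdvd
  have h2dvd : 2 ∣ Nat.card ↥(Subgroup.zpowers x ⊓ Subgroup.zpowers y) := by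
    rw [hn] at hDne ⊢
    exact dvd_pow_self 2 (by rintro rfl; simp at hDne)
  obtain ⟨w, hw⟩ := exists_prime_orderOf_dvd_card' 2 h2dvd
  have hwo : orderOf (w : A) = 2 := by rw [← hw]; exact Subgroup.orderOf_coe w
  have hu := Cfsg.Agent.TwoFusion.RankTwoWreath.eq_of_mem_zpowers hm hx w.2.1 hwo
  have hv := Cfsg.Agent.TwoFusion.RankTwoWreath.eq_of_mem_zpowers hm hy w.2.2 hwo
  exact hne (hu.symm.trans hv)

end Cfsg.Agent.H588.HomoPair
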