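import Mathlib
import Cfsg.Agent.S0014
import Cfsg.Agent.Schreier.Tools2
import Cfsg.Agent.Lib.FrattiniPGroup
import Cfsg.Agent.TwoFusion.RankTwoWreath

/-!
# Automorphisms of odd order of two-generator 2-groups with a cyclic normal subgroup

`Q` is a finite 2-group, `α` an automorphism of odd order, `α ≠ 1`.
-/

set_option autoImplicit false

namespace Cfsg.Agent.H588.MetaAut

open Subgroup

section Basic

variable {Q : Type*} [Group Q] [Finite Q]

/-- An automorphism of odd order of a two-generator 2-group which fixes a maximal subgroup is trivial. -/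
theorem eq_one_of_inv (hQ : IsPGroup 2 Q) {c q : Q} (hcl : Subgroup.closure ({c, q} : Set Q) = ⊤)
    (α : MulAut Q) (hα : Odd (orderOf α)) (M : Subgroup Q) (hM : M.index = 2)
    (hαM : ∀ x ∈ M, α x ∈ M) : α = 1 := by
  classical
  have : Fact (Nat.Prime 2) := ⟨Nat.prime_two⟩
  obtain ⟨d, hd⟩ := hQ.index (frattini Q)
  have hd2 : d ≤ 2 := by
    have h1 := (Cfsg.Agent.S0014.result 2 d hQ hd).2 {c, q} (by simpa using hcl)
    exact h1.trans Finset.card_le_two
  have hFM : frattini Q ≤ M := by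
    have hc : IsCoatom M := by
      constructor
      · rintro rfl
        rw [Subgroup.index_top] at hM
        omega
      · intro K hK
        have h1 := Subgroup.relIndex_mul_index hK.le
        rw [hM] at h1
        have h2 : M.relIndex K ≠ 1 := by
          intro h3
          exact hK.not_ge (Subgroup.relIndex_eq_one.1 h3)
        have h4 : K.index ∣ 2 := Dvd.intro_left _ h1
        rcases (Nat.dvd_prime Nat.prime_two).1 h4 with h5 | h5
        · exact Subgroup.index_eq_one.1 h5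
        · rw [h5] at h1
          omega
    exact frattini_le_coatom hc
  have hrel : (frattini Q).relIndex M ≤ 2 := by
    have h1 := Subgroup.relIndex_mul_index hFM
    rw [hM, hd] at h1
    have h2 : (2 : ℕ) ^ d ≤ 2 ^ 2 := Nat.pow_le_pow_right (by norm_num) hd2
    omega
  -- two elements of `M` outside `Φ` are congruent
  have hcong : ∀ x ∈ M, ∀ y ∈ M, x ∉ frattini Q → y ∉ frattini Q → x⁻¹ * y ∈ frattini Q := by
    intro x hx y hy hxF hyF
    have hrel2 : (frattini Q).relIndex M = 2 := by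
      have h1 : (frattini Q).relIndex M ≠ 0 := Subgroup.index_ne_zero_of_finite
      have h2 : (frattini Q).relIndex M ≠ 1 := by
        intro h
        exact hxF (Subgroup.relIndex_eq_one.1 h hx)
      omega
    have h1 := Subgroup.mul_mem_iff_of_index_two (H := (frattini Q).subgroupOf M) hrel2
      (a := (⟨x, hx⟩ : M)⁻¹) (b := ⟨y, hy⟩)
    have h2 : ((⟨x, hx⟩ : M)⁻¹ ∈ (frattini Q).subgroupOf M ↔ (⟨y, hy⟩ : M) ∈ (frattini Q).subgroupOf M) := by
      simp only [inv_mem_iff, Subgroup.mem_subgroupOf]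
      exact ⟨fun h => absurd h hxF, fun h => absurd h hyF⟩
    have h3 := h1.2 h2
    simpa [Subgroup.mem_subgroupOf] using h3
  have hchar : ∀ x : Q, x ∈ frattini Q ↔ α x ∈ frattini Q := by
    intro x
    have h1 := Subgroup.characteristic_iff_comap_eq.1 (inferInstance : (frattini Q).Characteristic) α
    have h2 : x ∈ (frattini Q).comap α.toMonoidHom ↔ x ∈ frattini Q := by rw [h1]
    exact h2.symm
  have hMα : ∀ x : Q, x ∈ M ↔ α x ∈ M := by
    have h1 : M ≤ M.comap α.toMonoidHom := hαM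
    have h2 : M = M.comap α.toMonoidHom := by
      apply Subgroup.eq_of_le_of_card_ge h1
      apply Nat.card_le_card_of_injective (fun y : M.comap α.toMonoidHom => (⟨α y, y.2⟩ : M))
      intro y z hyz
      exact Subtype.ext (α.injective (congrArg Subtype.val hyz))
    intro x
    have h3 : x ∈ M ↔ x ∈ M.comap α.toMonoidHom := by rw [← h2]
    exact h3
  have key : ∀ x ∈ M, x⁻¹ * α x ∈ frattini Q := by
    intro x hx
    by_cases hxF : x ∈ frattini Q
    · exact Subgroup.mul_mem _ (Subgroup.inv_mem _ hxF) ((hchar x).1 hxF)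
    · exact hcong x hx _ (hαM x hx) hxF (fun h => hxF ((hchar x).2 h))
  have key2 : ∀ x : Q, x⁻¹ * α (α x) ∈ frattini Q := by
    intro x
    by_cases hx : x ∈ M
    · have h1 := Subgroup.mul_mem _ (key x hx) (key _ (hαM x hx))
      have h2 : x⁻¹ * α x * ((α x)⁻¹ * α (α x)) = x⁻¹ * α (α x) := by group
      rwa [h2] at h1
    · have hx2 : α x ∉ M := fun h => hx ((hMα x).2 h)
      set κ := x⁻¹ * α x with hκ
      have hκM : κ ∈ M := by
        rw [hκ, Subgroup.mul_mem_iff_of_index_two hM, inv_mem_iff]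
        exact ⟨fun h => absurd h hx, fun h => absurd h hx2⟩
      have h1 : x⁻¹ * α (α x) = κ ^ 2 * (κ⁻¹ * α κ) := by
        have h2 : α κ = (α x)⁻¹ * α (α x) := by rw [hκ, map_mul, map_inv]
        rw [h2, hκ, pow_two]; group
      rw [h1]
      exact Subgroup.mul_mem _ (Cfsg.Agent.Lib.FrattiniPGroup.pow_mem_frattini hQ κ) (key κ hκM)
  have h1 : α ^ 2 = 1 := by
    apply Cfsg.Agent.Schreier.Tools2.eq_one_of_coprime hQ
    · exact (hα.coprime_two_right).coprime_dvd_left (orderOf_pow_dvd 2)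
    · intro t
      have h2 := key2 t
      have h3 : (α ^ 2) t * t⁻¹ = t * (t⁻¹ * α (α t)) * t⁻¹ := by
        rw [pow_two, MulAut.mul_apply]; group
      rw [h3]
      exact (inferInstance : (frattini Q).Normal).conj_mem _ h2 t
  have h2 : orderOf α ∣ 2 := orderOf_dvd_of_pow_eq_one h1
  rcases (Nat.dvd_prime Nat.prime_two).1 h2 with h3 | h3
  · exact orderOf_eq_one_iff.1 h3
  · rw [h3] at hα
    exact absurd hα (by decide)

omit [Finite Q] in
/-- For a maximal subgroup `M` containing `c` and not `q`: `q ^ j * c ^ k ∈ M` iff `j` is even. -/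
theorem mem_iff_even {M : Subgroup Q} (hM : M.index = 2) {c q : Q} (hc : c ∈ M) (hq : q ∉ M) (j k : ℤ) :
    q ^ j * c ^ k ∈ M ↔ Even j := by
  have h1 : q ^ j * c ^ k ∈ M ↔ q ^ j ∈ M := Subgroup.mul_mem_cancel_right _ (Subgroup.zpow_mem _ hc k)
  rw [h1]
  have hsq : ∀ i : ℤ, q ^ (i + i) ∈ M := by
    intro i
    rw [zpow_add]
    exact Subgroup.mul_self_mem_of_index_two hM _
  constructor
  · intro h
    by_contra hodd
    rw [Int.not_even_iff_odd] at hodd
    obtain ⟨i, rfl⟩ := hodd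
    rw [two_mul, zpow_add, zpow_one, Subgroup.mul_mem_cancel_left _ (hsq i)] at h
    exact hq h
  · rintro ⟨i, rfl⟩
    exact hsq i

/-- If `⟨c⟩` is normal with cyclic quotient generated by `q`, and `α ≠ 1` has odd order then `c` and `α c`
generate `Q`. -/
theorem closure_eq_top (hQ : IsPGroup 2 Q) {c q : Q} (hcq : ∀ x : Q, ∃ j k : ℤ, x = q ^ j * c ^ k)
    (α : MulAut Q) (hα : Odd (orderOf α)) (hne : α ≠ 1) :
    Subgroup.closure ({c, α c} : Set Q) = ⊤ := by
  classical
  have : Fact (Nat.Prime 2) := ⟨Nat.prime_two⟩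
  by_contra hcl
  obtain ⟨M, hMco, hM⟩ := (eq_top_or_exists_le_coatom (Subgroup.closure ({c, α c} : Set Q))).resolve_left hcl
  have hind : M.index = 2 := Cfsg.Agent.Lib.FrattiniPGroup.index_of_coatom hQ hMco
  have hc : c ∈ M := hM (Subgroup.subset_closure (by simp))
  have hαc : α c ∈ M := hM (Subgroup.subset_closure (by simp))
  have hq : q ∉ M := by
    intro hq
    apply hMco.1
    rw [eq_top_iff]
    intro x _
    obtain ⟨j, k, rfl⟩ := hcq x
    exact Subgroup.mul_mem _ (Subgroup.zpow_mem _ hq _) (Subgroup.zpow_mem _ hc _)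
  let M' : Subgroup Q := M.comap α.toMonoidHom
  have hind' : M'.index = 2 := by
    rw [← hind]
    exact Subgroup.index_comap_of_surjective _ α.surjective
  have hc' : c ∈ M' := hαc
  have hq' : q ∉ M' := by
    intro hq'
    have h1 : M' = ⊤ := by
      rw [eq_top_iff]
      intro x _
      obtain ⟨j, k, rfl⟩ := hcq x
      exact Subgroup.mul_mem _ (Subgroup.zpow_mem _ hq' _) (Subgroup.zpow_mem _ hc' _)
    rw [h1, Subgroup.index_top] at hind'
    omega
  apply hne
  refine eq_one_of_inv hQ (c := c) (q := q) ?_ α hα M hind ?_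
  · rw [eq_top_iff]
    intro x _
    obtain ⟨j, k, rfl⟩ := hcq x
    exact Subgroup.mul_mem _ (Subgroup.zpow_mem _ (Subgroup.subset_closure (by simp)) _)
      (Subgroup.zpow_mem _ (Subgroup.subset_closure (by simp)) _)
  · intro x hx
    obtain ⟨j, k, rfl⟩ := hcq x
    have h1 := (mem_iff_even hind hc hq j k).1 hx
    exact (mem_iff_even hind' hc' hq' j k).2 h1

theorem pow_four_mul {H : Type*} [Group H]
    (h : ∀ x y : H, ∃ w : H, (∀ t : H, w * t = t * w) ∧ w * w = 1 ∧ y * x = x * y * w) (x y : H) :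
    (x * y) ^ 4 = x ^ 4 * y ^ 4 := by
  have hsq : ∀ x y : H, x * x * y = y * (x * x) := by
    intro x y
    obtain ⟨w, hw1, hw2, hw3⟩ := h y x
    -- `x * y = y * x * w`
    calc x * x * y = x * (x * y) := by group
      _ = x * (y * x * w) := by rw [hw3]
      _ = (x * y) * (x * w) := by group
      _ = (y * x * w) * (x * w) := by rw [hw3]
      _ = y * x * (w * x) * w := by group
      _ = y * x * (x * w) * w := by rw [hw1]
      _ = y * (x * x) * (w * w) := by group
      _ = y * (x * x) := by rw [hw2, mul_one]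
  obtain ⟨w, hw1, hw2, hw3⟩ := h x y
  have h2 : (x * y) * (x * y) = x * x * (y * y) * w := by
    calc (x * y) * (x * y) = x * (y * x) * y := by group
      _ = x * (x * y * w) * y := by rw [hw3]
      _ = x * x * y * (w * y) := by group
      _ = x * x * y * (y * w) := by rw [hw1]
      _ = x * x * (y * y) * w := by group
  have h4 : ∀ t : H, t ^ 4 = (t * t) * (t * t) := by
    intro t
    rw [pow_succ, pow_succ, pow_succ, pow_one]
    group
  rw [h4 (x * y), h2]
  calc x * x * (y * y) * w * (x * x * (y * y) * w)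
      = x * x * (y * y) * (w * (x * x * (y * y))) * w := by group
    _ = x * x * (y * y) * ((x * x * (y * y)) * w) * w := by rw [hw1]
    _ = x * x * ((y * y) * (x * x)) * (y * y) * (w * w) := by group
    _ = x * x * ((x * x) * (y * y)) * (y * y) * (w * w) := by rw [← hsq x (y * y)]
    _ = x ^ 4 * y ^ 4 := by rw [hw2, h4 x, h4 y]; group

theorem comm_of_closure {H : Type*} [Group H] {a b : H} (hcl : Subgroup.closure ({a, b} : Set H) = ⊤)
    (hab : a * b = b * a) (x y : H) : x * y = y * x := by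
  have hcen : ∀ s ∈ ({a, b} : Set H), ∀ y : H, s * y = y * s := by
    intro s hs
    have h1 : Subgroup.closure ({a, b} : Set H) ≤ Subgroup.centralizer ({s} : Set H) := by
      rw [Subgroup.closure_le]
      intro t ht
      rw [SetLike.mem_coe, Subgroup.mem_centralizer_singleton_iff]
      rcases hs with rfl | hs <;> rcases ht with rfl | ht
      · rfl
      · rw [Set.mem_singleton_iff] at ht; subst ht; exact hab.symm
      · rw [Set.mem_singleton_iff] at hs; subst hs; exact hab
      · rw [Set.mem_singleton_iff] at hs ht; subst hs; subst ht; rfl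
    intro y
    have h2 : y ∈ Subgroup.centralizer ({s} : Set H) := h1 (by rw [hcl]; trivial)
    exact ((Subgroup.mem_centralizer_singleton_iff).1 h2).symm
  have h1 : Subgroup.closure ({a, b} : Set H) ≤ Subgroup.center H := by
    rw [Subgroup.closure_le]
    intro s hs
    rw [SetLike.mem_coe, Subgroup.mem_center_iff]
    intro y
    exact (hcen s hs y).symm
  have h2 : x ∈ Subgroup.center H := h1 (by rw [hcl]; trivial)
  exact ((Subgroup.mem_center_iff.1 h2) y).symm

/-- The commutator `z` of `c` and `α c`: central, in `⟨c⟩ ∩ ⟨α c⟩`, generates the derived subgroup. -/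
theorem central_comm (hQ : IsPGroup 2 Q) {c q : Q} (hcq : ∀ x : Q, ∃ j k : ℤ, x = q ^ j * c ^ k)
    (hcn : ∀ x : Q, x * c * x⁻¹ ∈ Subgroup.zpowers c)
    (α : MulAut Q) (hα : Odd (orderOf α)) (hne : α ≠ 1) (z : Q) (hz : z = c * α c * c⁻¹ * (α c)⁻¹) :
    z ∈ Subgroup.zpowers c ∧ z ∈ Subgroup.zpowers (α c) ∧ (∀ g : Q, g * z = z * g) ∧
      (∀ x y : Q, x⁻¹ * y⁻¹ * x * y ∈ Subgroup.zpowers z) ∧ ∃ i : ℤ, α z = z ^ i := by
  classical
  have hgen := closure_eq_top hQ hcq α hα hne
  have hcn1 : ∀ x : Q, x * α c * x⁻¹ ∈ Subgroup.zpowers (α c) := by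
    intro x
    obtain ⟨l, hl⟩ := Subgroup.mem_zpowers_iff.1 (hcn (α⁻¹ x))
    refine Subgroup.mem_zpowers_iff.2 ⟨l, ?_⟩
    rw [← map_zpow, hl, map_mul, map_mul, map_inv, MulAut.apply_inv_self]
  have hzc : z ∈ Subgroup.zpowers c := by
    have h1 : z = c * (α c * c * (α c)⁻¹)⁻¹ := by rw [hz]; group
    rw [h1]
    exact Subgroup.mul_mem _ (Subgroup.mem_zpowers c) (Subgroup.inv_mem _ (hcn _))
  have hzc1 : z ∈ Subgroup.zpowers (α c) := by
    rw [hz]
    exact Subgroup.mul_mem _ (hcn1 c) (Subgroup.inv_mem _ (Subgroup.mem_zpowers _))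
  have hzcen : z ∈ Subgroup.center Q := by
    have h1 : Subgroup.closure ({c, α c} : Set Q) ≤ Subgroup.centralizer ({z} : Set Q) := by
      rw [Subgroup.closure_le]
      intro t ht
      rw [SetLike.mem_coe, Subgroup.mem_centralizer_singleton_iff]
      rcases ht with rfl | ht
      · obtain ⟨l, hl⟩ := Subgroup.mem_zpowers_iff.1 hzc
        rw [← hl]
        exact (Commute.refl t).zpow_right l
      · rw [Set.mem_singleton_iff] at ht; subst ht
        obtain ⟨l, hl⟩ := Subgroup.mem_zpowers_iff.1 hzc1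
        rw [← hl]
        exact (Commute.refl _).zpow_right l
    rw [Subgroup.mem_center_iff]
    intro g
    have h2 : g ∈ Subgroup.centralizer ({z} : Set Q) := h1 (by rw [hgen]; trivial)
    exact (Subgroup.mem_centralizer_singleton_iff).1 h2
  have hzcomm : ∀ g : Q, g * z = z * g := Subgroup.mem_center_iff.1 hzcen
  -- `Q / ⟨z⟩` is commutative
  have hZn : (Subgroup.zpowers z).Normal := ⟨fun n hn g => by
    obtain ⟨l, rfl⟩ := Subgroup.mem_zpowers_iff.1 hn
    have h1 : g * z ^ l * g⁻¹ = z ^ l := by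
      rw [← conj_zpow, hzcomm g, mul_inv_cancel_right]
    rw [h1]; exact hn⟩
  have hder : ∀ x y : Q, x⁻¹ * y⁻¹ * x * y ∈ Subgroup.zpowers z := by
    intro x y
    have hclq : Subgroup.closure ({(QuotientGroup.mk c : Q ⧸ Subgroup.zpowers z), QuotientGroup.mk (α c)} :
        Set (Q ⧸ Subgroup.zpowers z)) = ⊤ := by
      have h1 := congrArg (Subgroup.map (QuotientGroup.mk' (Subgroup.zpowers z))) hgen
      rw [MonoidHom.map_closure, Subgroup.map_top_of_surjective _ (QuotientGroup.mk'_surjective _)] at h1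
      rw [← h1]
      congr 1
      simp [Set.image_pair]
    have hab : (QuotientGroup.mk c : Q ⧸ Subgroup.zpowers z) * QuotientGroup.mk (α c) =
        QuotientGroup.mk (α c) * QuotientGroup.mk c := by
      rw [← QuotientGroup.mk_mul, ← QuotientGroup.mk_mul, eq_comm, QuotientGroup.eq]
      have h1 : (α c * c)⁻¹ * (c * α c) = (α c * c)⁻¹ * z * (α c * c) := by rw [hz]; group
      rw [h1, hzcomm, mul_assoc, inv_mul_cancel, mul_one]
      exact Subgroup.mem_zpowers z
    have h1 := comm_of_closure hclq hab (QuotientGroup.mk x) (QuotientGroup.mk y)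
    rw [← QuotientGroup.mk_mul, ← QuotientGroup.mk_mul, eq_comm, QuotientGroup.eq] at h1
    have h2 : (y * x)⁻¹ * (x * y) = x⁻¹ * y⁻¹ * x * y := by group
    rwa [h2] at h1
  refine ⟨hzc, hzc1, hzcomm, hder, ?_⟩
  have h1 : α z = (α c)⁻¹⁻¹ * (α (α c))⁻¹⁻¹ * (α c)⁻¹ * (α (α c))⁻¹ := by
    rw [hz]; simp
  have h2 := hder (α c)⁻¹ (α (α c))⁻¹
  rw [← h1] at h2
  obtain ⟨i, hi⟩ := Subgroup.mem_zpowers_iff.1 h2
  exact ⟨i, hi.symm⟩

/-- If the commutator of `c` and `α c` is a fourth power in `⟨c⟩` then it is trivial. -/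
theorem comm_of_pow_four (hQ : IsPGroup 2 Q) {c q : Q} (hcq : ∀ x : Q, ∃ j k : ℤ, x = q ^ j * c ^ k)
    (hcn : ∀ x : Q, x * c * x⁻¹ ∈ Subgroup.zpowers c)
    (α : MulAut Q) (hα : Odd (orderOf α)) (hne : α ≠ 1) (k : ℤ)
    (hk : c * α c * c⁻¹ * (α c)⁻¹ = c ^ (4 * k)) : c * α c = α c * c := by
  classical
  have hgen := closure_eq_top hQ hcq α hα hne
  set z := c * α c * c⁻¹ * (α c)⁻¹ with hz
  obtain ⟨hzc, hzc1, hzcomm, hder, hαz⟩ := central_comm hQ hcq hcn α hα hne z hz
  by_contra hcomm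
  have hz1 : z ≠ 1 := by
    intro h
    apply hcomm
    have h1 : c * α c = z * (α c * c) := by rw [hz]; group
    rw [h1, h, one_mul]
  -- modulo `z ^ 2`
  have hZ2n : (Subgroup.zpowers (z ^ 2)).Normal := ⟨fun n hn g => by
    obtain ⟨l, rfl⟩ := Subgroup.mem_zpowers_iff.1 hn
    have h1 : g * (z ^ 2) ^ l * g⁻¹ = (z ^ 2) ^ l := by
      rw [← conj_zpow, ← conj_pow, hzcomm g, mul_inv_cancel_right]
    rw [h1]; exact hn⟩
  let R := Q ⧸ Subgroup.zpowers (z ^ 2)
  let π : Q →* R := QuotientGroup.mk' (Subgroup.zpowers (z ^ 2))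
  have hπ2 : π z * π z = 1 := by
    rw [← map_mul, ← pow_two]
    exact (QuotientGroup.eq_one_iff _).2 (Subgroup.mem_zpowers _)
  have hπ1 : π z ≠ 1 := by
    intro h
    have h1 : z ∈ Subgroup.zpowers (z ^ 2) := (QuotientGroup.eq_one_iff _).1 h
    obtain ⟨l, hl⟩ := Subgroup.mem_zpowers_iff.1 h1
    have : Fact (Nat.Prime 2) := ⟨Nat.prime_two⟩
    obtain ⟨s, hs⟩ := (IsPGroup.iff_orderOf.1 hQ) z
    have h2 : z ^ (2 * l - 1) = 1 := by
      rw [zpow_sub, zpow_one, zpow_mul]
      have h3 : (z ^ (2 : ℤ)) ^ l = z := by exact_mod_cast hl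
      rw [h3, mul_inv_cancel]
    have h3 := orderOf_dvd_iff_zpow_eq_one.2 h2
    rw [hs] at h3
    rcases Nat.eq_zero_or_pos s with rfl | hs0
    · rw [pow_zero, orderOf_eq_one_iff] at hs
      exact hz1 hs
    · have h4 : (2 : ℤ) ∣ 2 * l - 1 := by
        refine dvd_trans ?_ h3
        exact_mod_cast dvd_pow_self 2 hs0.ne'
      omega
  have hR : ∀ x y : R, ∃ w : R, (∀ t : R, w * t = t * w) ∧ w * w = 1 ∧ y * x = x * y * w := by
    intro x y
    obtain ⟨x, rfl⟩ := QuotientGroup.mk'_surjective _ x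
    obtain ⟨y, rfl⟩ := QuotientGroup.mk'_surjective _ y
    obtain ⟨i, hi⟩ := Subgroup.mem_zpowers_iff.1 (hder y x)
    refine ⟨π (z ^ i), ?_, ?_, ?_⟩
    · intro t
      obtain ⟨t, rfl⟩ := QuotientGroup.mk'_surjective _ t
      change π (z ^ i) * π t = π t * π (z ^ i)
      rw [← map_mul, ← map_mul]
      congr 1
      exact ((Commute.zpow_left (show Commute z t from (hzcomm t).symm) i))
    · rw [map_zpow, ← (Commute.refl (π z)).mul_zpow i, hπ2, one_zpow]
    · change π y * π x = π x * π y * π (z ^ i)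
      rw [← map_mul, ← map_mul, ← map_mul, hi]
      congr 1
      group
  have h4m := pow_four_mul hR
  have hcen4 : ∀ x y : R, x ^ 4 * y ^ 4 = y ^ 4 * x ^ 4 := by
    intro x y
    obtain ⟨w, hw1, hw2, hw3⟩ := hR x y
    have h1 : (y * x) ^ 4 = (x * y) ^ 4 * w ^ 4 := by
      rw [hw3, (show Commute (x * y) w from (hw1 _).symm).mul_pow]
    have h2 : w ^ 4 = 1 := by
      rw [show (4 : ℕ) = 2 * 2 from rfl, pow_mul, pow_two w, hw2, one_pow]
    rw [← h4m, ← h4m, h1, h2, mul_one]
  let P : Q →* R :=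
    { toFun := fun x => (π x) ^ (4 * k)
      map_one' := by rw [map_one, one_zpow]
      map_mul' := fun x y => by
        have h1 : ∀ t : R, t ^ (4 * k) = (t ^ 4) ^ k := by
          intro t
          rw [zpow_mul, ← zpow_natCast t 4]
          rfl
        rw [map_mul, h1, h1, h1, h4m, (show Commute ((π x) ^ 4) ((π y) ^ 4) from hcen4 _ _).mul_zpow] }
  have hPdef : ∀ x, P x = (π x) ^ (4 * k) := fun _ => rfl
  have hPc : P c = π z := by
    rw [hPdef, ← map_zpow, ← hk]
  have hPc1 : P (α c) = π (α z) := by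
    rw [hPdef, ← map_zpow, ← map_zpow, ← hk]
  have hrange : P.range = Subgroup.zpowers (π z) := by
    apply le_antisymm
    · rw [MonoidHom.range_eq_map, ← hgen, MonoidHom.map_closure, Subgroup.closure_le]
      rintro _ ⟨t, ht, rfl⟩
      rcases ht with rfl | ht
      · rw [hPc]; exact Subgroup.mem_zpowers _
      · rw [Set.mem_singleton_iff] at ht; subst ht
        obtain ⟨i, hi⟩ := hαz
        rw [hPc1, hi, map_zpow]
        exact Subgroup.zpow_mem _ (Subgroup.mem_zpowers _) _
    · rw [Subgroup.zpowers_le]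
      exact ⟨c, hPc⟩
  have hord : orderOf (π z) = 2 := by
    apply orderOf_eq_prime
    · rw [pow_two]; exact hπ2
    · exact hπ1
  have hker : P.ker.index = 2 := by
    rw [Subgroup.index_ker, hrange, Nat.card_zpowers, hord]
  apply hne
  refine eq_one_of_inv hQ (c := c) (q := α c) hgen α hα P.ker hker ?_
  intro x hx
  rw [MonoidHom.mem_ker, hPdef, ← map_zpow] at hx ⊢
  have h1 : x ^ (4 * k) ∈ Subgroup.zpowers (z ^ 2) := (QuotientGroup.eq_one_iff _).1 hx
  apply (QuotientGroup.eq_one_iff _).2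
  obtain ⟨l, hl⟩ := Subgroup.mem_zpowers_iff.1 h1
  obtain ⟨i, hi⟩ := hαz
  refine Subgroup.mem_zpowers_iff.2 ⟨i * l, ?_⟩
  rw [← map_zpow, ← hl, map_zpow, map_pow, hi, zpow_mul]
  congr 1
  rw [← zpow_natCast, ← zpow_natCast, ← zpow_mul, ← zpow_mul]
  congr 1
  ring

/-- In the commutative case, `Q = ⟨c⟩ × ⟨α c⟩`. -/
theorem disjoint_of_comm (hQ : IsPGroup 2 Q) {c q : Q} (hcq : ∀ x : Q, ∃ j k : ℤ, x = q ^ j * c ^ k)
    (α : MulAut Q) (hα : Odd (orderOf α)) (hne : α ≠ 1) (hcomm : c * α c = α c * c) :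
    ∃ m : ℕ, 1 ≤ m ∧ orderOf c = 2 ^ m ∧ Subgroup.zpowers c ⊓ Subgroup.zpowers (α c) = ⊥ := by
  classical
  have : Fact (Nat.Prime 2) := ⟨Nat.prime_two⟩
  have hgen := closure_eq_top hQ hcq α hα hne
  have hall := comm_of_closure hgen hcomm
  obtain ⟨m, hm⟩ := (IsPGroup.iff_orderOf.1 hQ) c
  have hm0 : 1 ≤ m := by
    rcases Nat.eq_zero_or_pos m with rfl | h
    · exfalso
      rw [pow_zero, orderOf_eq_one_iff] at hm
      subst hm
      apply hne
      have h1 : (⊤ : Subgroup Q) = ⊥ := by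
        rw [← hgen, map_one, Set.pair_eq_singleton, Subgroup.closure_singleton_one]
      ext x
      have h2 : ∀ y : Q, y = 1 := fun y => by
        have : y ∈ (⊤ : Subgroup Q) := trivial
        rw [h1] at this
        exact this
      rw [h2 (α x), h2 ((1 : MulAut Q) x)]
    · exact h
  refine ⟨m, hm0, hm, ?_⟩
  by_contra hD
  have hm1 : orderOf (α c) = 2 ^ m := by
    rw [← hm]; exact MulEquiv.orderOf_eq α c
  -- an involution in the intersection
  have hDne : 1 < Nat.card ↥(Subgroup.zpowers c ⊓ Subgroup.zpowers (α c)) := by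
    rw [Subgroup.one_lt_card_iff_ne_bot]; exact hD
  obtain ⟨n, hn⟩ := IsPGroup.iff_card.1 (hQ.to_subgroup (Subgroup.zpowers c ⊓ Subgroup.zpowers (α c)))
  have h2dvd : 2 ∣ Nat.card ↥(Subgroup.zpowers c ⊓ Subgroup.zpowers (α c)) := by
    rw [hn] at hDne ⊢
    exact dvd_pow_self 2 (by rintro rfl; simp at hDne)
  obtain ⟨w, hw⟩ := exists_prime_orderOf_dvd_card' 2 h2dvd
  have hwo : orderOf (w : Q) = 2 := by rw [← hw]; exact Subgroup.orderOf_coe w
  have hu := Cfsg.Agent.TwoFusion.RankTwoWreath.eq_of_mem_zpowers hm0 hm w.2.1 hwo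
  have hv := Cfsg.Agent.TwoFusion.RankTwoWreath.eq_of_mem_zpowers hm0 hm1 w.2.2 hwo
  let P : Q →* Q :=
    { toFun := fun x => x ^ 2 ^ (m - 1)
      map_one' := one_pow _
      map_mul' := fun x y => (show Commute x y from hall x y).mul_pow _ }
  have hPdef : ∀ x, P x = x ^ 2 ^ (m - 1) := fun _ => rfl
  have hrange : P.range = Subgroup.zpowers (w : Q) := by
    apply le_antisymm
    · rw [MonoidHom.range_eq_map, ← hgen, MonoidHom.map_closure, Subgroup.closure_le]
      rintro _ ⟨t, ht, rfl⟩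
      rcases ht with rfl | ht
      · rw [hPdef, ← hu]; exact Subgroup.mem_zpowers _
      · rw [Set.mem_singleton_iff] at ht; subst ht
        rw [hPdef, ← hv]; exact Subgroup.mem_zpowers _
    · rw [Subgroup.zpowers_le]
      exact ⟨c, by rw [hPdef, ← hu]⟩
  have hker : P.ker.index = 2 := by
    rw [Subgroup.index_ker, hrange, Nat.card_zpowers, hwo]
  apply hne
  refine eq_one_of_inv hQ (c := c) (q := α c) hgen α hα P.ker hker ?_
  intro x hx
  rw [MonoidHom.mem_ker, hPdef] at hx ⊢
  rw [← map_pow, hx, map_one]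

end Basic

end Cfsg.Agent.H588.MetaAut
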