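import Mathlib
import Cfsg.Agent.H588.MetaAut

/-!
# Metacyclic 2-groups with a cyclic quotient of order at least 4

`S` is a finite 2-group with a cyclic normal subgroup `N` and `S / N` cyclic of order at least `4`.
A subgroup of `S` with a non-trivial automorphism of odd order is homocyclic of rank 2, and `S` has no
dihedral subgroups of order `8`.
-/

set_option autoImplicit false

namespace Cfsg.Agent.H588.MetaBig

open Subgroup Cfsg.Agent.H588.MetaAut

section S

variable {S : Type*} [Group S]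

/-- the elements of `S` act on the cyclic normal subgroup `N` by powers. -/
theorem exists_conj_pow (N : Subgroup S) [hN : N.Normal] (hNc : IsCyclic N) (y : S) :
    ∃ i : ℤ, ∀ c ∈ N, y * c * y⁻¹ = c ^ i := by
  obtain ⟨n, hn⟩ := hNc.exists_generator
  have h1 : y * (n : S) * y⁻¹ ∈ N := hN.conj_mem _ n.2 y
  obtain ⟨i, hi⟩ := Subgroup.mem_zpowers_iff.1 (hn ⟨_, h1⟩)
  have hi' : (n : S) ^ i = y * (n : S) * y⁻¹ := by simpa using congrArg Subtype.val hi
  refine ⟨i, fun c hc => ?_⟩
  obtain ⟨k, hk⟩ := Subgroup.mem_zpowers_iff.1 (hn ⟨c, hc⟩)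
  have hk' : (n : S) ^ k = c := by simpa using congrArg Subtype.val hk
  rw [← hk', ← conj_zpow, ← hi', ← zpow_mul, ← zpow_mul, mul_comm]

theorem comm_of_cyclic (N : Subgroup S) (hNc : IsCyclic N) {a b : S} (ha : a ∈ N) (hb : b ∈ N) :
    a * b = b * a := by
  obtain ⟨n, hn⟩ := hNc.exists_generator
  obtain ⟨k, hk⟩ := Subgroup.mem_zpowers_iff.1 (hn ⟨a, ha⟩)
  obtain ⟨l, hl⟩ := Subgroup.mem_zpowers_iff.1 (hn ⟨b, hb⟩)
  have hk' : (n : S) ^ k = a := by simpa using congrArg Subtype.val hk
  have hl' : (n : S) ^ l = b := by simpa using congrArg Subtype.val hl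
  rw [← hk', ← hl']
  exact ((Commute.refl (n : S)).zpow_zpow k l)

/-- an element of `S` is a square modulo `N`, or its powers in `N` are fourth powers -/
theorem dichotomy [Finite S] (hS : IsPGroup 2 S) (N : Subgroup S) [hN : N.Normal]
    (hQc : IsCyclic (S ⧸ N)) (hQ : 2 < Nat.card (S ⧸ N)) (x : S) :
    (∃ y : S, (y ^ 2)⁻¹ * x ∈ N) ∨ (∀ l : ℤ, x ^ l ∈ N → (4 : ℤ) ∣ l) := by
  have : Fact (Nat.Prime 2) := ⟨Nat.prime_two⟩
  obtain ⟨b', hb⟩ := hQc.exists_generator
  obtain ⟨b, rfl⟩ := QuotientGroup.mk_surjective b'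
  obtain ⟨j, hj⟩ := Subgroup.mem_zpowers_iff.1 (hb (QuotientGroup.mk x))
  rcases Int.even_or_odd j with ⟨i, rfl⟩ | ⟨i, hi⟩
  · left
    refine ⟨b ^ i, ?_⟩
    rw [← QuotientGroup.eq, ← hj]
    rw [pow_two, ← zpow_add, QuotientGroup.mk_zpow]
  · right
    intro l hl
    have h1 : (QuotientGroup.mk x : S ⧸ N) ^ l = 1 := by
      rw [← QuotientGroup.mk_zpow]
      exact (QuotientGroup.eq_one_iff _).2 hl
    rw [← hj, ← zpow_mul] at h1
    have h2 := orderOf_dvd_iff_zpow_eq_one.2 h1
    have hord : orderOf (QuotientGroup.mk b : S ⧸ N) = Nat.card (S ⧸ N) :=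
      orderOf_eq_card_of_forall_mem_zpowers hb
    obtain ⟨n, hn⟩ := IsPGroup.iff_card.1 (hS.to_quotient N)
    have h4 : (4 : ℤ) ∣ (orderOf (QuotientGroup.mk b : S ⧸ N) : ℤ) := by
      rw [hord, hn]
      have hn2 : 2 ≤ n := by
        by_contra h
        have : n = 0 ∨ n = 1 := by omega
        rcases this with rfl | rfl <;> simp at hn <;> omega
      have h5 : (2 : ℕ) ^ 2 ∣ 2 ^ n := pow_dvd_pow 2 hn2
      exact_mod_cast h5
    have h5 := h4.trans h2
    have h6 : IsCoprime (4 : ℤ) j := by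
      rw [hi, Int.isCoprime_iff_gcd_eq_one]
      have h7 : Int.gcd (2 : ℤ) (2 * i + 1) = 1 := by
        rw [← Int.isCoprime_iff_gcd_eq_one]
        exact ⟨-i, 1, by ring⟩
      have h8 := (Int.isCoprime_iff_gcd_eq_one.2 h7)
      exact Int.isCoprime_iff_gcd_eq_one.1 (by simpa using (IsCoprime.pow_left (m := 2) h8))
    exact h6.dvd_of_dvd_mul_left h5

/-- the involution of a cyclic 2-group is unique -/
theorem involution_unique [Finite S] (hS : IsPGroup 2 S) (hc : IsCyclic S) {a b : S} (ha : a * a = 1) (ha1 : a ≠ 1)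
    (hb : b * b = 1) (hb1 : b ≠ 1) : a = b := by
  obtain ⟨n, hn⟩ := hc.exists_generator
  have : Fact (Nat.Prime 2) := ⟨Nat.prime_two⟩
  obtain ⟨m, hm⟩ := (IsPGroup.iff_orderOf.1 hS) n
  have hao : orderOf a = 2 := orderOf_eq_prime (by rw [pow_two]; exact ha) ha1
  have hbo : orderOf b = 2 := orderOf_eq_prime (by rw [pow_two]; exact hb) hb1
  have hm1 : 1 ≤ m := by
    rcases Nat.eq_zero_or_pos m with rfl | h
    · exfalso
      rw [pow_zero, orderOf_eq_one_iff] at hm
      apply ha1
      obtain ⟨k, hk⟩ := Subgroup.mem_zpowers_iff.1 (hn a)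
      rw [← hk, hm, one_zpow]
    · exact h
  rw [Cfsg.Agent.TwoFusion.RankTwoWreath.eq_of_mem_zpowers hm1 hm (hn a) hao,
    Cfsg.Agent.TwoFusion.RankTwoWreath.eq_of_mem_zpowers hm1 hm (hn b) hbo]

/-- `S` has no dihedral subgroup of order 8. -/
theorem no_dihedral [Finite S] (hS : IsPGroup 2 S) (N : Subgroup S) [hN : N.Normal] (hNc : IsCyclic N)
    (hQc : IsCyclic (S ⧸ N)) (hQ : 2 < Nat.card (S ⧸ N)) (u z : S) (hu : u * u = 1) (hz : z * z = 1)
    (hcomm : u * (z * u * z) = (z * u * z) * u) : z * u * z = u := by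
  have huinv : u⁻¹ = u := inv_eq_of_mul_eq_one_left hu
  have hzinv : z⁻¹ = z := inv_eq_of_mul_eq_one_left hz
  by_contra hne
  set w := u * (z * u * z) with hw
  have hw1 : w ≠ 1 := by
    intro h
    apply hne
    rw [hw] at h
    have h1 := eq_inv_of_mul_eq_one_right h
    rw [huinv] at h1
    exact h1
  have hww : w * w = 1 := by
    calc w * w = u * (z * u * z) * ((z * u * z) * u) := by rw [← hcomm, hw]
      _ = u * (z * u * (z * z) * u * z) * u := by group
      _ = u * (z * (u * u) * z) * u := by rw [hz]; group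
      _ = u * (z * z) * u := by rw [hu]; group
      _ = 1 := by rw [hz]; simpa using hu
  have hcommQ : ∀ a b : S ⧸ N, a * b = b * a := by
    intro a b
    obtain ⟨n, hn⟩ := hQc.exists_generator
    obtain ⟨k, rfl⟩ := Subgroup.mem_zpowers_iff.1 (hn a)
    obtain ⟨l, rfl⟩ := Subgroup.mem_zpowers_iff.1 (hn b)
    exact (Commute.refl n).zpow_zpow k l
  have hwN : w ∈ N := by
    rw [← QuotientGroup.eq_one_iff, hw]
    have h1 : (QuotientGroup.mk (u * (z * u * z)) : S ⧸ N) =
        QuotientGroup.mk u * (QuotientGroup.mk z * QuotientGroup.mk u * QuotientGroup.mk z) := rfl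
    rw [h1, hcommQ (QuotientGroup.mk z) (QuotientGroup.mk u)]
    have h2 : (QuotientGroup.mk u : S ⧸ N) * (QuotientGroup.mk u * QuotientGroup.mk z * QuotientGroup.mk z) =
      QuotientGroup.mk (u * (u * z * z)) := rfl
    rw [h2, mul_assoc u z z, hz, mul_one, hu, QuotientGroup.mk_one]
  have hunique : ∀ a ∈ N, a * a = 1 → a ≠ 1 → a = w := by
    intro a ha haa ha1
    have h1 := involution_unique (hS.to_subgroup N) hNc (a := ⟨a, ha⟩) (b := ⟨w, hwN⟩)
      (Subtype.ext haa) (fun h => ha1 (congrArg Subtype.val h)) (Subtype.ext hww)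
      (fun h => hw1 (congrArg Subtype.val h))
    exact congrArg Subtype.val h1
  have hu1 : u ≠ 1 := by
    rintro rfl
    apply hne
    rw [mul_one, hz]
  have hz1 : z ≠ 1 := by
    rintro rfl
    apply hne
    rw [mul_one, one_mul]
  have huN : u ∉ N := by
    intro h
    have h1 := hunique u h hu hu1
    have h2 : z * u * z ∈ N := by
      have := hN.conj_mem u h z
      rwa [hzinv] at this
    have h3 := hunique (z * u * z) h2 (by
      calc z * u * z * (z * u * z) = z * u * (z * z) * u * z := by group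
        _ = z * (u * u) * z := by rw [hz]; group
        _ = 1 := by rw [hu]; simpa using hz) (by
      intro h4
      apply hu1
      have h5 : u = z⁻¹ * (z * u * z) * z⁻¹ := by group
      rw [h5, h4, hzinv, mul_one, hz])
    exact hne (h3.trans h1.symm)
  have hwu : w * u = u * w := by
    rw [hw, mul_assoc, ← hcomm]
  have hzN : z ∉ N := by
    intro h
    have h1 := hunique z h hz hz1
    apply hne
    rw [h1, hwu, mul_assoc, hww, mul_one]
  have hmkne : ∀ a : S, a ∉ N → (QuotientGroup.mk a : S ⧸ N) ≠ 1 := by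
    intro a ha h
    exact ha ((QuotientGroup.eq_one_iff _).1 h)
  have huz : (QuotientGroup.mk u : S ⧸ N) = QuotientGroup.mk z := by
    apply involution_unique (hS.to_quotient N) hQc
    · rw [← QuotientGroup.mk_mul, hu, QuotientGroup.mk_one]
    · exact hmkne u huN
    · rw [← QuotientGroup.mk_mul, hz, QuotientGroup.mk_one]
    · exact hmkne z hzN
  have hcN : u * z ∈ N := by
    have := QuotientGroup.eq.1 huz
    rwa [huinv] at this
  have hc2 : (u * z) * (u * z) = w := by rw [hw]; group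
  have hc4 : orderOf (u * z) = 4 := by
    have h1 : orderOf (u * z) = 2 ^ (1 + 1) := by
      apply orderOf_eq_prime_pow
      · rw [pow_one, pow_two, hc2]; exact hw1
      · rw [show 2 ^ (1 + 1) = 2 * 2 from rfl, pow_mul, pow_two (u * z), hc2, pow_two, hww]
    exact h1
  rcases dichotomy hS N hQc hQ u with ⟨y, hy⟩ | h
  · obtain ⟨i, hi⟩ := exists_conj_pow N hNc y
    obtain ⟨n', hn'⟩ : ∃ n', n' = (y ^ 2)⁻¹ * u := ⟨_, rfl⟩
    have hun : u = y * y * n' := by rw [hn', pow_two]; group
    have hn'N : n' ∈ N := by rw [hn']; exact hy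
    have h1 : u * (u * z) * u⁻¹ = (u * z) ^ (i * i) := by
      calc u * (u * z) * u⁻¹ = y * (y * (n' * (u * z) * n'⁻¹) * y⁻¹) * y⁻¹ := by
            nth_rw 1 [hun]
            nth_rw 2 [hun]
            group
        _ = y * (y * (u * z) * y⁻¹) * y⁻¹ := by
            rw [comm_of_cyclic N hNc hn'N hcN, mul_inv_cancel_right]
        _ = (u * z) ^ (i * i) := by
            rw [hi _ hcN, hi _ (Subgroup.zpow_mem _ hcN _), ← zpow_mul]
    have h2 : u * (u * z) * u⁻¹ = (u * z)⁻¹ := by
      rw [mul_inv_rev, huinv, hzinv, ← mul_assoc, hu, one_mul]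
    rw [h2] at h1
    have h3 : (u * z) ^ (i * i + 1) = 1 := by
      rw [zpow_add, zpow_one, ← h1, inv_mul_cancel]
    have h4 := orderOf_dvd_iff_zpow_eq_one.2 h3
    rw [hc4] at h4
    have h5 : (4 : ℤ) ∣ i * i + 1 := by exact_mod_cast h4
    have h6 : i * i % 4 = 0 ∨ i * i % 4 = 1 := by
      rcases Int.even_or_odd i with ⟨k, hk⟩ | ⟨k, hk⟩
      · left
        rw [hk, show (k + k) * (k + k) = 4 * (k * k) by ring]
        exact Int.mul_emod_right 4 (k * k)
      · right
        rw [hk, show (2 * k + 1) * (2 * k + 1) = 1 + 4 * (k * k + k) by ring]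
        rw [Int.add_mul_emod_self_left]
        rfl
    omega
  · have h1 := h 2 (by
      rw [zpow_two, hu]; exact N.one_mem)
    omega

/-- **Subgroups with an automorphism of odd order** are homocyclic of rank 2. -/
theorem homocyclic_of_aut [Finite S] (hS : IsPGroup 2 S) (N : Subgroup S) [hN : N.Normal] (hNc : IsCyclic N)
    (hQc : IsCyclic (S ⧸ N)) (hQ : 2 < Nat.card (S ⧸ N)) {T : Type*} [Group T] [Finite T] (f : T →* S)
    (hf : Function.Injective f) (α : MulAut T) (hα : Odd (orderOf α)) (hne : α ≠ 1) :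
    ∃ (c : T) (m : ℕ), 1 ≤ m ∧ orderOf c = 2 ^ m ∧ c * α c = α c * c ∧
      Subgroup.zpowers c ⊓ Subgroup.zpowers (α c) = ⊥ ∧
      Subgroup.closure ({c, α c} : Set T) = ⊤ := by
  have : Fact (Nat.Prime 2) := ⟨Nat.prime_two⟩
  have hT : IsPGroup 2 T := hS.of_injective f hf
  -- the generators
  have hCc : IsCyclic (N.comap f) := by
    refine isCyclic_of_injective (f.subgroupComap N) ?_
    intro x y hxy
    apply Subtype.ext
    apply hf
    exact congrArg Subtype.val hxy
  have hTQ : IsCyclic (T ⧸ N.comap f) := by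
    refine isCyclic_of_injective (QuotientGroup.map (N.comap f) N f le_rfl) ?_
    rw [injective_iff_map_eq_one]
    intro x
    obtain ⟨s, rfl⟩ := QuotientGroup.mk_surjective x
    intro hs
    have : f s ∈ N := (QuotientGroup.eq_one_iff _).1 hs
    exact (QuotientGroup.eq_one_iff _).2 this
  obtain ⟨c', hc'⟩ := hCc.exists_generator
  obtain ⟨q', hq'⟩ := hTQ.exists_generator
  obtain ⟨q, rfl⟩ := QuotientGroup.mk_surjective q'
  obtain ⟨c, hcN⟩ := c'
  have hcN' : f c ∈ N := hcN
  have hCmem : ∀ x : T, f x ∈ N → x ∈ Subgroup.zpowers c := by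
    intro x hx
    obtain ⟨k, hk⟩ := Subgroup.mem_zpowers_iff.1 (hc' ⟨x, hx⟩)
    exact Subgroup.mem_zpowers_iff.2 ⟨k, by simpa using congrArg Subtype.val hk⟩
  have hcq : ∀ x : T, ∃ j k : ℤ, x = q ^ j * c ^ k := by
    intro x
    obtain ⟨j, hj⟩ := Subgroup.mem_zpowers_iff.1 (hq' (QuotientGroup.mk x))
    rw [← QuotientGroup.mk_zpow, QuotientGroup.eq] at hj
    obtain ⟨k, hk⟩ := Subgroup.mem_zpowers_iff.1 (hCmem _ hj)
    exact ⟨j, k, by rw [hk]; group⟩
  have hcn : ∀ x : T, x * c * x⁻¹ ∈ Subgroup.zpowers c := by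
    intro x
    apply hCmem
    rw [map_mul, map_mul, map_inv]
    exact hN.conj_mem _ hcN' _
  obtain ⟨z, hz⟩ : ∃ z, z = c * α c * c⁻¹ * (α c)⁻¹ := ⟨_, rfl⟩
  obtain ⟨hzc, hzc1, hzcomm, hder, i₀, hαz⟩ := central_comm hT hcq hcn α hα hne z hz
  have hcomm : c * α c = α c * c := by
    rcases dichotomy hS N hQc hQ (f (α c)) with ⟨y, hy⟩ | h
    · -- a square modulo `N`
      obtain ⟨i, hi⟩ := exists_conj_pow N hNc y
      obtain ⟨n', hn'⟩ : ∃ n', n' = (y ^ 2)⁻¹ * f (α c) := ⟨_, rfl⟩
      have hun : f (α c) = y * y * n' := by rw [hn', pow_two]; group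
      have hn'N : n' ∈ N := by rw [hn']; exact hy
      have h1 : f (α c * c * (α c)⁻¹) = f (c ^ (i * i)) := by
        calc f (α c * c * (α c)⁻¹) = y * (y * (n' * f c * n'⁻¹) * y⁻¹) * y⁻¹ := by
              rw [map_mul, map_mul, map_inv, hun]; group
          _ = y * (y * f c * y⁻¹) * y⁻¹ := by
              rw [comm_of_cyclic N hNc hn'N hcN', mul_inv_cancel_right]
          _ = f (c ^ (i * i)) := by
              rw [hi _ hcN', hi _ (Subgroup.zpow_mem _ hcN' _), ← zpow_mul, map_zpow]
      have h2 := hf h1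
      have hz' : z = c ^ (1 - i * i) := by
        have h3 : z = c * (α c * c * (α c)⁻¹)⁻¹ := by rw [hz]; group
        rw [h3, h2, zpow_sub, zpow_one]
      obtain ⟨m, hm⟩ := (IsPGroup.iff_orderOf.1 hT) c
      rcases Nat.eq_zero_or_pos m with rfl | hm0
      · rw [pow_zero, orderOf_eq_one_iff] at hm
        rw [hm]; simp
      · have hodd : Odd i := by
          rw [← Int.not_even_iff_odd]
          rintro ⟨k, hk⟩
          have h3 : (y * f c * y⁻¹) ^ (2 ^ (m - 1)) = 1 := by
            rw [hi _ hcN', hk, ← two_mul, ← zpow_natCast, ← zpow_mul]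
            have h4 : (2 * k * ((2 ^ (m - 1) : ℕ) : ℤ)) = ((2 ^ m : ℕ) : ℤ) * k := by
              obtain ⟨m', rfl⟩ : ∃ m', m = m' + 1 := ⟨m - 1, by omega⟩
              simp only [Nat.add_sub_cancel]
              push_cast
              ring
            rw [h4, zpow_mul, zpow_natCast, ← hm, ← map_pow, pow_orderOf_eq_one, map_one, one_zpow]
          rw [conj_pow] at h3
          have h4 : (f c) ^ (2 ^ (m - 1)) = 1 := by
            have h5 := congrArg (fun t => y⁻¹ * t * y) h3
            simpa [mul_assoc] using h5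
          rw [← map_pow] at h4
          have h5 : c ^ (2 ^ (m - 1)) = 1 := hf (by rw [h4, map_one])
          have h6 := orderOf_dvd_of_pow_eq_one h5
          rw [hm] at h6
          have h7 := (Nat.pow_dvd_pow_iff_le_right (by norm_num : 1 < 2)).1 h6
          omega
        obtain ⟨k, hk⟩ := hodd
        refine comm_of_pow_four hT hcq hcn α hα hne (-(k * k + k)) ?_
        rw [← hz, hz']
        congr 1
        rw [hk]; ring
    · -- fourth powers
      obtain ⟨l, hl⟩ := Subgroup.mem_zpowers_iff.1 hzc1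
      have h1 : (f (α c)) ^ l ∈ N := by
        rw [← map_zpow, hl]
        obtain ⟨k, hk⟩ := Subgroup.mem_zpowers_iff.1 hzc
        rw [← hk, map_zpow]
        exact Subgroup.zpow_mem _ hcN' _
      obtain ⟨k', hk'⟩ := h l h1
      -- `z = α (c ^ (4 k'))`
      have hw : α (c ^ (4 * k')) = z := by rw [map_zpow, ← hk', hl]
      -- `α ⟨z⟩ = ⟨z⟩`
      have hle : (Subgroup.zpowers z).map α.toMonoidHom ≤ Subgroup.zpowers z := by
        rintro _ ⟨t, ht, rfl⟩
        obtain ⟨e, rfl⟩ := Subgroup.mem_zpowers_iff.1 ht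
        change α (z ^ e) ∈ _
        rw [map_zpow, hαz]
        exact Subgroup.zpow_mem _ (Subgroup.zpow_mem _ (Subgroup.mem_zpowers z) _) _
      have heq : (Subgroup.zpowers z).map α.toMonoidHom = Subgroup.zpowers z := by
        apply Subgroup.eq_of_le_of_card_ge hle
        exact (Subgroup.card_map_of_injective (K := Subgroup.zpowers z) (f := α.toMonoidHom) α.injective).ge
      have hz1 : z ∈ (Subgroup.zpowers z).map α.toMonoidHom := by
        rw [heq]; exact Subgroup.mem_zpowers z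
      obtain ⟨t, ht, htz⟩ := hz1
      have htw : t = c ^ (4 * k') := α.injective (by
        have : α t = z := htz
        rw [this, hw])
      rw [SetLike.mem_coe, htw] at ht
      -- `c ^ (4 k') ∈ ⟨z⟩` and has the order of `z`
      have hord : orderOf (c ^ (4 * k')) = orderOf z := by
        rw [← hw]; exact (MulEquiv.orderOf_eq α _).symm
      have heq2 : Subgroup.zpowers (c ^ (4 * k')) = Subgroup.zpowers z := by
        apply Subgroup.eq_of_le_of_card_ge
        · rw [Subgroup.zpowers_le]; exact ht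
        · rw [Nat.card_zpowers, Nat.card_zpowers, hord]
      have hz2 : z ∈ Subgroup.zpowers (c ^ (4 * k')) := by
        rw [heq2]; exact Subgroup.mem_zpowers z
      obtain ⟨e, he⟩ := Subgroup.mem_zpowers_iff.1 hz2
      refine comm_of_pow_four hT hcq hcn α hα hne (k' * e) ?_
      rw [← hz, ← he, ← zpow_mul, mul_assoc]
  obtain ⟨m, hm0, hm, hdisj⟩ := disjoint_of_comm hT hcq α hα hne hcomm
  exact ⟨c, m, hm0, hm, hcomm, hdisj, closure_eq_top hT hcq α hα hne⟩

end S

end Cfsg.Agent.H588.MetaBig
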