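import Mathlib
import Cfsg.Agent.H588.MetaBig
import Cfsg.Agent.H588.HomoPair
import Cfsg.Agent.LFourB.RelExt
import Cfsg.Agent.S0071

/-!
# Groups with a metacyclic Sylow 2-subgroup with a cyclic quotient of order at least 4

Such a group has a normal 2-complement, or homocyclic Sylow 2-subgroups of rank 2.
-/

set_option autoImplicit false

namespace Cfsg.Agent.H588.MetaMain

open Subgroup Cfsg.Agent.Lib.GoldschmidtFusion

variable {G : Type*} [Group G]

/-- The 2-subgroups with an element of odd order acting non-trivially. -/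
def Bad (Q : Subgroup G) : Prop :=
  IsPGroup 2 Q ∧ ∃ g ∈ Subgroup.normalizer (Q : Set G), Odd (orderOf g) ∧
    g ∉ Subgroup.centralizer (Q : Set G)

theorem mem_norm_conj {Q : Subgroup G} {g : G} (hg : g ∈ Subgroup.normalizer (Q : Set G)) {x : G} (hx : x ∈ Q) :
    g * x * g⁻¹ ∈ Q := (Subgroup.mem_normalizer_iff.1 hg x).1 hx

/-- An element of odd order commuting with nothing new: `g ∈ ⟨g ^ (2 ^ s)⟩`. -/
theorem mem_of_pow_mem {C : Subgroup G} {g : G} (hg : Odd (orderOf g)) (s : ℕ) (h : g ^ 2 ^ s ∈ C) : g ∈ C := by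
  have h1 : (orderOf g).Coprime (2 ^ s) := (hg.coprime_two_right).pow_right s
  obtain ⟨m, hm⟩ := exists_pow_eq_self_of_coprime h1.symm
  rw [← hm]
  exact C.pow_mem h m

/-- the centraliser-type subgroup is normalised: powers of `k * g` -/
theorem pow_mul_mem {K : Subgroup G} {g k : G} (hk : k ∈ K) (hK : ∀ x ∈ K, g * x * g⁻¹ ∈ K) (n : ℕ) :
    ∃ k' ∈ K, (k * g) ^ n = k' * g ^ n := by
  have hKn : ∀ n : ℕ, ∀ x ∈ K, g ^ n * x * (g ^ n)⁻¹ ∈ K := by
    intro n
    induction n with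
    | zero => intro x hx; simpa using hx
    | succ n ih =>
      intro x hx
      have h1 := ih _ (hK x hx)
      have h2 : g ^ n * (g * x * g⁻¹) * (g ^ n)⁻¹ = g ^ (n + 1) * x * (g ^ (n + 1))⁻¹ := by
        rw [pow_succ]; group
      rwa [h2] at h1
  induction n with
  | zero => exact ⟨1, K.one_mem, by simp⟩
  | succ n ih =>
    obtain ⟨k', hk', h⟩ := ih
    refine ⟨k' * (g ^ n * k * (g ^ n)⁻¹), K.mul_mem hk' (hKn n k hk), ?_⟩
    rw [pow_succ, h, pow_succ]
    group

/-- A proper subgroup of a 2-group is normalised by an outside element with square inside. -/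
theorem exists_normalizing [Finite G] {P R : Subgroup G} (hP : IsPGroup 2 P) (hRP : R ≤ P) (hne : R ≠ P) :
    ∃ t ∈ P, t ∉ R ∧ t ∈ Subgroup.normalizer (R : Set G) ∧ t * t ∈ R := by
  classical
  have : Fact (Nat.Prime 2) := ⟨Nat.prime_two⟩
  have hnil : Group.IsNilpotent P := hP.isNilpotent
  have hlt : R.subgroupOf P < ⊤ := by
    rw [lt_top_iff_ne_top]
    intro h
    apply hne
    apply le_antisymm hRP
    rwa [Subgroup.subgroupOf_eq_top] at h
  have h1 := (Group.normalizerCondition_of_isNilpotent (G := P)) _ hlt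
  obtain ⟨s, hsn, hsR⟩ := SetLike.exists_of_lt h1
  have hsn' : (s : G) ∈ Subgroup.normalizer (R : Set G) := by
    rw [Subgroup.mem_normalizer_iff] at hsn ⊢
    intro x
    constructor
    · intro hx
      have h2 := (hsn ⟨x, hRP hx⟩).1 hx
      exact h2
    · intro hx
      have h3 : x ∈ P := by
        have h4 : (s : G) * x * (s : G)⁻¹ ∈ P := hRP hx
        have h5 := P.mul_mem (P.mul_mem (P.inv_mem s.2) h4) s.2
        have h6 : (s : G)⁻¹ * ((s : G) * x * (s : G)⁻¹) * s = x := by group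
        rwa [h6] at h5
      exact (hsn ⟨x, h3⟩).2 hx
  have hsR' : (s : G) ∉ R := hsR
  obtain ⟨k, hk⟩ := hP s
  have hex : ∃ j, (s : G) ^ 2 ^ j ∈ R := ⟨k, by
    have : (s : G) ^ 2 ^ k = 1 := by simpa using congrArg Subtype.val hk
    rw [this]; exact R.one_mem⟩
  have hpos : Nat.find hex ≠ 0 := by
    intro h
    have := Nat.find_spec hex
    rw [h] at this
    exact hsR' (by simpa using this)
  obtain ⟨i, hi⟩ := Nat.exists_eq_succ_of_ne_zero hpos
  refine ⟨(s : G) ^ 2 ^ i, P.pow_mem s.2 _, ?_, Subgroup.pow_mem _ hsn' _, ?_⟩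
  · exact Nat.find_min hex (by omega)
  · have := Nat.find_spec hex
    rw [hi, Nat.succ_eq_add_one, pow_succ, pow_mul, pow_two] at this
    exact this

theorem two_dvd_relIndex [Finite G] {R K : Subgroup G} (hn : ∀ x ∈ K, ∀ y ∈ R, x * y * x⁻¹ ∈ R)
    {t : G} (ht : t ∈ K) (htR : t ∉ R) (ht2 : t * t ∈ R) : 2 ∣ R.relIndex K := by
  have hnorm : (R.subgroupOf K).Normal := ⟨fun y hy x => hn x x.2 y hy⟩
  have h1 : orderOf (QuotientGroup.mk (⟨t, ht⟩ : K) : K ⧸ R.subgroupOf K) = 2 := by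
    apply orderOf_eq_prime
    · rw [pow_two, ← QuotientGroup.mk_mul]
      exact (QuotientGroup.eq_one_iff _).2 ht2
    · intro h
      have h3 : (⟨t, ht⟩ : K) ∈ R.subgroupOf K := (QuotientGroup.eq_one_iff _).1 h
      exact htR h3
  have h2 := orderOf_dvd_natCard (QuotientGroup.mk (⟨t, ht⟩ : K) : K ⧸ R.subgroupOf K)
  rw [h1] at h2
  exact h2

/-- **The main step.** -/
theorem homocyclic_of_not_complement [Finite G] {S : Type*} [Group S] [Finite S] (hS : IsPGroup 2 S) (N : Subgroup S)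
    [hN : N.Normal] (hNc : IsCyclic N) (hQc : IsCyclic (S ⧸ N)) (hQ : 2 < Nat.card (S ⧸ N))
    (P₀ : Sylow 2 G) (φ : (P₀ : Subgroup G) ≃* S)
    (hbad : ∃ Q : Subgroup G, Bad Q) :
    ∃ (P : Sylow 2 G) (m : ℕ), 1 ≤ m ∧
      Nonempty ((P : Subgroup G) ≃* Multiplicative (ZMod (2 ^ m) × ZMod (2 ^ m))) := by
  classical
  have : Fact (Nat.Prime 2) := ⟨Nat.prime_two⟩
  obtain ⟨Q, hQB, hmax⟩ := Set.exists_max_image {Q : Subgroup G | Bad Q} (fun Q => Nat.card Q)
    (Set.toFinite _) hbad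
  obtain ⟨hQ2, g, hg, hgo, hgc⟩ := hQB
  obtain ⟨P, hQP⟩ := hQ2.exists_le_sylow
  -- the embedding of `P` in `S`
  let e : (P : Subgroup G) ≃* S := (P.equiv P₀).trans φ
  let f : Q →* S := e.toMonoidHom.comp (Subgroup.inclusion hQP)
  have hf : Function.Injective f := e.injective.comp (Subgroup.inclusion_injective hQP)
  let α : MulAut Q := Q.normalizerMonoidHom ⟨g, hg⟩
  have hαapp : ∀ x : Q, ((α x : Q) : G) = g * x * g⁻¹ := fun x => rfl
  have hαo : Odd (orderOf α) := by
    have h1 : orderOf α ∣ orderOf g := by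
      have h2 := orderOf_map_dvd Q.normalizerMonoidHom ⟨g, hg⟩
      rwa [Subgroup.orderOf_mk] at h2
    exact hgo.of_dvd_nat h1
  have hαne : α ≠ 1 := by
    intro h
    apply hgc
    rw [Subgroup.mem_centralizer_iff]
    intro x hx
    have h1 := hαapp ⟨x, hx⟩
    rw [h] at h1
    have h2 : x = g * x * g⁻¹ := h1
    calc x * g = (g * x * g⁻¹) * g := by rw [← h2]
      _ = g * x := by group
  obtain ⟨c, m, hm1, hcm, hcomm, hdisj, hcl⟩ :=
    Cfsg.Agent.H588.MetaBig.homocyclic_of_aut hS N hNc hQc hQ f hf α hαo hαne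
  have hc1m : orderOf (α c) = 2 ^ m := by
    rw [← hcm]; exact MulEquiv.orderOf_eq α c
  have hall := Cfsg.Agent.H588.MetaAut.comm_of_closure hcl hcomm
  have hcard := Cfsg.Agent.H588.HomoPair.card_eq hcomm hcl hcm hc1m hdisj
  -- the involution `u` and its conjugate
  obtain ⟨u, hu⟩ : ∃ u : Q, u = c ^ 2 ^ (m - 1) := ⟨_, rfl⟩
  have hpm : 2 ^ (m - 1) * 2 = 2 ^ m := by
    obtain ⟨m', rfl⟩ : ∃ m', m = m' + 1 := ⟨m - 1, by omega⟩
    simp [pow_succ]
  have hu2 : u * u = 1 := by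
    rw [hu, ← pow_two, ← pow_mul, hpm, ← hcm, pow_orderOf_eq_one]
  have huα : α u ≠ u := by
    intro h
    have h1 : u ∈ Subgroup.zpowers c ⊓ Subgroup.zpowers (α c) := by
      refine ⟨?_, ?_⟩
      · rw [hu]; exact Subgroup.pow_mem _ (Subgroup.mem_zpowers c) _
      · rw [← h, hu, map_pow]; exact Subgroup.pow_mem _ (Subgroup.mem_zpowers _) _
    rw [hdisj, Subgroup.mem_bot, hu] at h1
    have h2 := orderOf_dvd_of_pow_eq_one h1
    rw [hcm] at h2
    have h3 := (Nat.pow_dvd_pow_iff_le_right (by norm_num : 1 < 2)).1 h2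
    omega
  -- the set of involutions
  let E : Set G := {x | x ∈ Q ∧ x * x = 1}
  have hEn : ∀ n ∈ Subgroup.normalizer (Q : Set G), ∀ x ∈ E, n * x * n⁻¹ ∈ E := by
    rintro n hn x ⟨hx, hxx⟩
    refine ⟨mem_norm_conj hn hx, ?_⟩
    calc n * x * n⁻¹ * (n * x * n⁻¹) = n * (x * x) * n⁻¹ := by group
      _ = 1 := by rw [hxx]; group
  let K : Subgroup G := Subgroup.normalizer (Q : Set G) ⊓ Subgroup.centralizer E
  have hKn : ∀ n ∈ Subgroup.normalizer (Q : Set G), ∀ x ∈ K, n * x * n⁻¹ ∈ K := by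
    intro n hn x hx
    refine ⟨Subgroup.mul_mem _ (Subgroup.mul_mem _ hn hx.1) (Subgroup.inv_mem _ hn), ?_⟩
    refine Subgroup.mem_centralizer_iff.2 ?_
    intro y hy
    have h1 := hEn n⁻¹ (Subgroup.inv_mem _ hn) y hy
    have h2 := (Subgroup.mem_centralizer_iff.1 hx.2) _ h1
    have h3 : n * (n⁻¹ * y * n⁻¹⁻¹ * x) * n⁻¹ = n * (x * (n⁻¹ * y * n⁻¹⁻¹)) * n⁻¹ := by rw [h2]
    calc y * (n * x * n⁻¹) = n * (n⁻¹ * y * n⁻¹⁻¹ * x) * n⁻¹ := by group
      _ = n * (x * (n⁻¹ * y * n⁻¹⁻¹)) * n⁻¹ := h3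
      _ = n * x * n⁻¹ * y := by group
  have hQcomm : ∀ x ∈ Q, ∀ y ∈ Q, x * y = y * x := by
    intro x hx y hy
    exact congrArg Subtype.val (hall ⟨x, hx⟩ ⟨y, hy⟩)
  have hQK : Q ≤ K := by
    intro x hx
    refine ⟨Subgroup.le_normalizer hx, ?_⟩
    refine Subgroup.mem_centralizer_iff.2 ?_
    rintro y ⟨hy, -⟩
    exact hQcomm y hy x hx
  -- `Q` is a Sylow 2-subgroup of `K`
  obtain ⟨R, hQR, hRK, hR2, hRi⟩ := exists_sylow_in (p := 2) (N := K) (D := Q) hQK hQ2
  have hKg : K.map (MulAut.conj g).toMonoidHom = K := by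
    apply le_antisymm
    · rintro _ ⟨x, hx, rfl⟩
      exact hKn g hg x hx
    · intro x hx
      refine ⟨g⁻¹ * x * g, ?_, ?_⟩
      · have := hKn g⁻¹ (Subgroup.inv_mem _ hg) x hx
        simpa using this
      · simp only [MulEquiv.coe_toMonoidHom, MulAut.conj_apply]; group
  obtain ⟨k, hk, hkR⟩ := Cfsg.Agent.LFourB.RelExt.frattini hR2 hRK hRi hKg
  have huG : (u : G) ∈ E := ⟨u.2, congrArg Subtype.val hu2⟩
  have hRbad : Bad R := by
    refine ⟨hR2, (k * g) ^ 2 ^ ((orderOf (k * g)).factorization 2), ?_, ?_, ?_⟩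
    · apply Subgroup.pow_mem
      rw [Subgroup.mem_normalizer_iff]
      intro x
      constructor
      · intro hx
        have h1 : (MulAut.conj (k * g)).toMonoidHom x ∈ R.map (MulAut.conj (k * g)).toMonoidHom := ⟨x, hx, rfl⟩
        rw [hkR] at h1
        exact h1
      · intro hx
        have h1 : k * g * x * (k * g)⁻¹ ∈ R.map (MulAut.conj (k * g)).toMonoidHom := by rw [hkR]; exact hx
        obtain ⟨y, hy, hyx⟩ := h1
        have h2 : k * g * y * (k * g)⁻¹ = k * g * x * (k * g)⁻¹ := hyx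
        have h3 : y = x := by
          have := mul_right_cancel h2
          exact mul_left_cancel this
        rwa [← h3]
    · have h1 := Cfsg.Agent.Transfer.NormalPComplement.coprime_orderOf_pow_ordProj (p := 2)
        (isOfFinOrder_of_finite (k * g))
      rwa [Nat.coprime_two_right] at h1
    · intro hcen
      have h1 := (Subgroup.mem_centralizer_iff.1 hcen) u (hQR u.2)
      obtain ⟨k', hk', hkk⟩ := pow_mul_mem hk (hKn g hg) (2 ^ ((orderOf (k * g)).factorization 2))
      rw [hkk] at h1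
      set n := 2 ^ ((orderOf (k * g)).factorization 2)
      have hgn : g ^ n ∈ Subgroup.normalizer (Q : Set G) := Subgroup.pow_mem _ hg n
      have h2 := hEn _ hgn u huG
      have h3 := (Subgroup.mem_centralizer_iff.1 hk'.2) _ h2
      -- `g ^ n` commutes with `u`
      have h4 : g ^ n * u * (g ^ n)⁻¹ = u := by
        have h5 : (u : G) = (k' * g ^ n) * u * (k' * g ^ n)⁻¹ := by
          rw [← h1]; group
        have h6 : (k' * g ^ n) * u * (k' * g ^ n)⁻¹ = k' * (g ^ n * u * (g ^ n)⁻¹) * k'⁻¹ := by group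
        rw [h6, ← h3] at h5
        rw [mul_inv_cancel_right] at h5
        exact h5.symm
      have h5 : g ^ n ∈ Subgroup.centralizer ({(u : G)} : Set G) := by
        rw [Subgroup.mem_centralizer_singleton_iff]
        calc g ^ n * (u : G) = (g ^ n * u * (g ^ n)⁻¹) * g ^ n := by group
          _ = u * g ^ n := by rw [h4]
      have h6 := mem_of_pow_mem hgo _ h5
      rw [Subgroup.mem_centralizer_singleton_iff] at h6
      apply huα
      apply Subtype.ext
      rw [hαapp, h6, mul_inv_cancel_right]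
  have hRQ : R = Q := by
    symm
    exact Subgroup.eq_of_le_of_card_ge hQR (hmax R hRbad)
  subst hRQ
  -- `P = Q`
  have hPQ : (P : Subgroup G) = R := by
    by_contra hne
    obtain ⟨t, htP, htR, htn, ht2⟩ := exists_normalizing P.2 hQP (Ne.symm hne)
    -- `t ∉ K`
    have htK : t ∉ K := by
      intro htK
      apply hRi
      exact two_dvd_relIndex (fun x hx y hy => mem_norm_conj hx.1 hy) htK htR ht2
    have htE : t ∉ Subgroup.centralizer E := fun h => htK ⟨htn, h⟩
    obtain ⟨w, hwE, hwt⟩ : ∃ w ∈ E, w * t ≠ t * w := by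
      by_contra hcon
      push Not at hcon
      exact htE (Subgroup.mem_centralizer_iff.2 hcon)
    obtain ⟨x, hx⟩ := Cfsg.Agent.H588.HomoPair.exists_root hm1 hcomm hcl hcm hc1m hdisj
      (e := (⟨w, hwE.1⟩ : R)) (Subtype.ext hwE.2)
    have hxG : (x : G) ^ 2 ^ (m - 1) = w := by simpa using congrArg Subtype.val hx
    have hw1 : w ≠ 1 := by
      rintro rfl
      apply hwt
      rw [one_mul, mul_one]
    have hxo : orderOf x = 2 ^ m := by
      obtain ⟨m', rfl⟩ : ∃ m', m = m' + 1 := ⟨m - 1, by omega⟩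
      simp only [Nat.add_sub_cancel] at hx
      apply orderOf_eq_prime_pow
      · rw [hx]
        exact fun h => hw1 (congrArg Subtype.val h)
      · rw [pow_succ, pow_mul, hx, pow_two]
        exact Subtype.ext hwE.2
    obtain ⟨y, hy⟩ : ∃ y : R, (y : G) = t * x * t⁻¹ := ⟨⟨_, mem_norm_conj htn x.2⟩, rfl⟩
    have hyo : orderOf y = 2 ^ m := by
      rw [← hxo, ← Subgroup.orderOf_coe, ← Subgroup.orderOf_coe, hy]
      exact (MulEquiv.orderOf_eq (MulAut.conj t) (x : G))
    have hyw : (y : G) ^ 2 ^ (m - 1) = t * w * t⁻¹ := by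
      rw [hy, conj_pow, hxG]
    have hwt' : t * w * t⁻¹ ≠ w := by
      intro h
      apply hwt
      calc w * t = (t * w * t⁻¹) * t := by rw [h]
        _ = t * w := by group
    have hxy : Subgroup.zpowers x ⊓ Subgroup.zpowers y = ⊥ := by
      apply Cfsg.Agent.H588.HomoPair.disjoint_of_ne hm1 hxo hyo
      intro h
      have h1 := congrArg Subtype.val h
      rw [Subgroup.coe_pow, Subgroup.coe_pow, hxG, hyw] at h1
      exact hwt' h1.symm
    obtain ⟨i, j, hij⟩ := Cfsg.Agent.H588.HomoPair.exists_repr_of_card hxo hyo hxy hcard (⟨t * t, ht2⟩ : R)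
    have hijG : t * t = (x : G) ^ i * (y : G) ^ j := by simpa using congrArg Subtype.val hij
    -- `t y t⁻¹ = x`
    have hty : t * (y : G) * t⁻¹ = x := by
      have h1 : t * (y : G) * t⁻¹ = (t * t) * x * (t * t)⁻¹ := by rw [hy]; group
      rw [h1, hQcomm _ ht2 _ x.2, mul_inv_cancel_right]
    -- `x ^ i = x ^ j`
    have hsw : (x : G) ^ i * (y : G) ^ j = (y : G) ^ i * (x : G) ^ j := by
      have h1 : t * (t * t) * t⁻¹ = t * t := by group
      rw [hijG] at h1
      have h2 : t * ((x : G) ^ i * (y : G) ^ j) * t⁻¹ = (t * (x : G) ^ i * t⁻¹) * (t * (y : G) ^ j * t⁻¹) := by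
        group
      rw [h2, ← conj_zpow, ← conj_zpow, hty, ← hy] at h1
      exact h1.symm
    have hxi : x ^ (i - j) = 1 := by
      have h1 : x ^ (i - j) = y ^ (i - j) := by
        have h2 : x ^ i * y ^ j = y ^ i * x ^ j := by
          apply Subtype.ext
          simpa using hsw
        have h3 : x ^ (-j) * (x ^ i * y ^ j) * y ^ (-j) = x ^ (-j) * (y ^ i * x ^ j) * y ^ (-j) := by rw [h2]
        have h4 : x ^ (-j) * (x ^ i * y ^ j) * y ^ (-j) = x ^ (i - j) := by
          rw [sub_eq_add_neg, add_comm, zpow_add]; group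
        have h5 : x ^ (-j) * (y ^ i * x ^ j) * y ^ (-j) = y ^ (i - j) := by
          rw [hall (y ^ i) (x ^ j), sub_eq_add_neg, zpow_add]; group
        rw [← h4, h3, h5]
      have h2 : x ^ (i - j) ∈ Subgroup.zpowers x ⊓ Subgroup.zpowers y := by
        refine ⟨Subgroup.zpow_mem _ (Subgroup.mem_zpowers x) _, ?_⟩
        rw [h1]
        exact Subgroup.zpow_mem _ (Subgroup.mem_zpowers y) _
      rwa [hxy, Subgroup.mem_bot] at h2
    have hyi : y ^ (i - j) = 1 := by
      have h1 := orderOf_dvd_iff_zpow_eq_one.2 hxi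
      rw [hxo, ← hyo] at h1
      exact orderOf_dvd_iff_zpow_eq_one.1 h1
    have hyij : (y : G) ^ j = (y : G) ^ i := by
      have h1 : y ^ i = y ^ j := by
        have h2 : y ^ i = y ^ (i - j) * y ^ j := by rw [← zpow_add]; congr 1; ring
        rw [h2, hyi, one_mul]
      simpa using congrArg Subtype.val h1.symm
    rw [hyij] at hijG
    -- the involution `t x⁻ⁱ`
    obtain ⟨t', ht'⟩ : ∃ t' : G, t' = t * (x : G) ^ (-i) := ⟨_, rfl⟩
    have ht'2 : t' * t' = 1 := by
      calc t' * t' = (t * (x : G) ^ (-i) * t⁻¹) * (t * t) * (x : G) ^ (-i) := by rw [ht']; group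
        _ = (y : G) ^ (-i) * ((x : G) ^ i * (y : G) ^ i) * (x : G) ^ (-i) := by
            rw [← conj_zpow, ← hy, hijG]
        _ = (y : G) ^ (-i) * ((y : G) ^ i * (x : G) ^ i) * (x : G) ^ (-i) := by
            rw [hQcomm _ (Subgroup.zpow_mem _ x.2 i) _ (Subgroup.zpow_mem _ y.2 i)]
        _ = 1 := by group
    have ht'inv : t'⁻¹ = t' := inv_eq_of_mul_eq_one_left ht'2
    have ht'w : t' * w * t' = t * w * t⁻¹ := by
      calc t' * w * t' = t' * w * t'⁻¹ := by rw [ht'inv]
        _ = t * ((x : G) ^ (-i) * w * ((x : G) ^ (-i))⁻¹) * t⁻¹ := by rw [ht']; group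
        _ = t * w * t⁻¹ := by
            rw [hQcomm _ (Subgroup.zpow_mem _ x.2 (-i)) _ hwE.1, mul_inv_cancel_right]
    have ht'P : t' ∈ (P : Subgroup G) := by
      rw [ht']
      exact Subgroup.mul_mem _ htP (Subgroup.zpow_mem _ (hQP x.2) _)
    -- the dihedral group in `S`
    have hfin := Cfsg.Agent.H588.MetaBig.no_dihedral hS N hNc hQc hQ (e ⟨w, hQP hwE.1⟩) (e ⟨t', ht'P⟩)
      (by rw [← map_mul, ← map_one e]; exact congrArg e (Subtype.ext hwE.2))
      (by rw [← map_mul, ← map_one e]; exact congrArg e (Subtype.ext ht'2))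
      (by
        rw [← map_mul, ← map_mul, ← map_mul, ← map_mul]
        apply congrArg e
        apply Subtype.ext
        change w * (t' * w * t') = t' * w * t' * w
        rw [ht'w]
        exact hQcomm _ hwE.1 _ (mem_norm_conj htn hwE.1))
    rw [← map_mul, ← map_mul] at hfin
    have h1 := congrArg Subtype.val (e.injective hfin)
    have h2 : t' * w * t' = w := h1
    rw [ht'w] at h2
    exact hwt' h2
  refine ⟨P, m, hm1, ?_⟩
  rw [hPQ]
  exact Cfsg.Agent.H588.HomoPair.exists_mulEquiv hcomm hcl hcm hc1m hdisj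

end Cfsg.Agent.H588.MetaMain
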