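import Mathlib
import Cfsg.Agent.S4366
import Cfsg.Agent.H524.DirMain
import Cfsg.Agent.H528.ClassSize
import Cfsg.Agent.H576.SizesBase
import Cfsg.Agent.OddOrderLocal.NilpotentQuotient

/-!
# Groups in which the elements of prime power order have at most two class sizes are nilpotent (helper588, for S4137)

* `dir_of_solvable` : in a solvable group whose `p'`-elements of prime power order have class sizes prime to `p`, they
  commute with the `p`-elements;
* `isNilpotent_of_primary` : if the class sizes of the elements of prime power order are `1` or `k` then the group is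
  nilpotent.
-/

set_option autoImplicit false

namespace Cfsg.Agent.H588.PrimNil

open Subgroup Cfsg.Agent.H524.DirRed Cfsg.Agent.H528.ClassSize

universe u

/-- The solvable case of S4128. -/
theorem dir_of_solvable {p : ℕ} [hp : Fact p.Prime] :
    ∀ (n : ℕ) (G : Type u) [Group G] [Finite G], Nat.card G = n → Group.IsSolvable G → Cond G p → Dir G p := by
  intro n
  induction n using Nat.strong_induction_on with
  | _ n ih =>
    intro G _ _ hn hsol h
    rcases subsingleton_or_nontrivial G with hs | hnt
    · intro x y _ _
      exact Subsingleton.elim _ _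
    have hquot : ∀ (N : Subgroup G) [N.Normal], N ≠ ⊥ → Dir (G ⧸ N) p := by
      intro N _ hb
      have hcard := Subgroup.card_eq_card_quotient_mul_card_subgroup N
      have hq : 0 < Nat.card (G ⧸ N) := Nat.card_pos
      have hN0 : 0 < Nat.card N := Nat.card_pos
      have hN1 : Nat.card N ≠ 1 := fun h1 => hb (Subgroup.card_eq_one.mp h1)
      refine ih (Nat.card (G ⧸ N)) ?_ (G ⧸ N) rfl inferInstance (h.quotient N)
      rw [← hn, hcard]
      have : 2 ≤ Nat.card N := by omega
      nlinarith
    have hsub : ∀ H : Subgroup G, H ≠ ⊤ → Cond H p → Dir H p := by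
      intro H hH hc
      refine ih (Nat.card H) ?_ H rfl inferInstance hc
      rw [← hn]
      refine lt_of_le_of_ne (Subgroup.card_le_card_group H) ?_
      intro e
      exact hH (Subgroup.eq_top_of_card_eq H e)
    by_cases hex : ∃ N : Subgroup G, N.Normal ∧ N ≠ ⊥ ∧ N ≠ ⊤
    · obtain ⟨N, hN, hb, ht⟩ := hex
      by_cases hpN : p ∣ Nat.card N
      · obtain ⟨R⟩ : Nonempty (Sylow p N) := inferInstance
        have hdN := hsub N ht (h.normal N)
        have hRn := hdN.normal R
        have hRc : (R : Subgroup N).Characteristic := R.characteristic_of_normal hRn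
        have hL : ((R : Subgroup N).map N.subtype).Normal := inferInstance
        have hLp : IsPGroup p ((R : Subgroup N).map N.subtype) := R.isPGroup'.map _
        refine dir_of_normal_p h _ hLp (hquot _ ?_)
        rw [Ne, Subgroup.map_eq_bot_iff_of_injective _ N.subtype_injective]
        intro e
        have h1 : Nat.card R = 1 := by
          show Nat.card (R : Subgroup N) = 1
          rw [e, Subgroup.card_bot]
        rw [Sylow.card_eq_multiplicity] at h1
        have h2 := (hp.out.dvd_iff_one_le_factorization Nat.card_pos.ne').1 hpN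
        have h3 : p ^ 1 ≤ p ^ (Nat.card N).factorization p := Nat.pow_le_pow_right hp.out.pos h2
        rw [h1, pow_one] at h3
        have := hp.out.two_le
        omega
      · obtain ⟨M, hM, hNM, hMp, k, hk⟩ := exists_normal_compl N hpN (hquot N hb)
        have hMb : M ≠ ⊥ := fun e => hb (le_bot_iff.1 (e ▸ hNM))
        by_cases hmin : ∀ N : Subgroup G, N.Normal → N ≤ M → N ≠ ⊥ → N = M
        · refine dir_of_min h hMp hk hMb hmin (fun hs hab => ?_)
          have hs' : IsSimpleGroup M := hs
          exact absurd (fun a b => (IsSimpleGroup.comm_iff_isSolvable (G := M)).2 inferInstance a b) hab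
        · push Not at hmin
          obtain ⟨M₁, hM1, hle, hb1, hne⟩ := hmin
          exact dir_step h hMp hk (lt_of_le_of_ne hle hne) (hquot M₁ hb1) hsub
    · push Not at hex
      have hsim : IsSimpleGroup G :=
        { exists_pair_ne := exists_pair_ne G
          eq_bot_or_eq_top_of_normal := fun N hN => by
            by_cases hb : N = ⊥
            · exact Or.inl hb
            · exact Or.inr (hex N hN hb) }
      exact fun x y _ _ => (IsSimpleGroup.comm_iff_isSolvable (G := G)).2 hsol x y

/-- If the class sizes of the elements of prime power order are `1` or `k` then the group is nilpotent. -/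
theorem isNilpotent_of_primary {G : Type*} [Group G] [Finite G] (k : ℕ)
    (h : ∀ x : G, IsPrimePow (orderOf x) → ci x = 1 ∨ ci x = k) : Group.IsNilpotent G := by
  have hnc : ∀ x : G, (∃ y ∈ (⊤ : Subgroup G), x * y ≠ y * x) → ci x ≠ 1 := by
    rintro x ⟨y, -, hy⟩ h1
    have h2 : y ∈ centralizer ({x} : Set G) := by
      rw [index_eq_one.1 h1]
      trivial
    exact hy (mem_centralizer_singleton_iff.1 h2).symm
  have hfac : ∀ p : ℕ, p.Prime → p ∣ k → k ≠ 0 → Group.IsSolvable G ∧ HasNormalPComplement p G := by
    intro p hp hpk hk0
    have hpf : Fact p.Prime := ⟨hp⟩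
    obtain ⟨h1, K, -, h3, h4, j, h5⟩ := Cfsg.Agent.S4366.result (⊤ : Subgroup G) p (k.factorization p)
      ((hp.dvd_iff_one_le_factorization hk0).1 hpk) (by
        intro x _ hx hpp
        rcases h x hpp with h1 | h1
        · exact absurd h1 (hnc x hx)
        · rw [← ci_def, h1])
    refine ⟨?_, ?_⟩
    · have := h1
      exact Group.isSolvable_of_surjective (f := (Subgroup.topEquiv (G := G)).toMonoidHom)
        (Subgroup.topEquiv (G := G)).surjective
    · rw [Subgroup.relIndex_top_right] at h5
      refine OddOrderLocal.NilpotentQuotient.hasNormalPComplement_of_index K ?_ h4 h5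
      constructor
      intro a ha g
      exact h3.conj_mem ⟨a, trivial⟩ ha ⟨g, trivial⟩
  by_cases hk : ∃ p : ℕ, p.Prime ∧ p ∣ k ∧ k ≠ 0
  · obtain ⟨p₀, hp₀, hpk₀, hk0⟩ := hk
    obtain ⟨hsol, -⟩ := hfac p₀ hp₀ hpk₀ hk0
    have hall : ∀ p : ℕ, p.Prime → HasNormalPComplement p G := by
      intro p hp
      have hpf : Fact p.Prime := ⟨hp⟩
      by_cases hpk : p ∣ k
      · exact (hfac p hp hpk hk0).2
      · have hc : Cond G p := by
          rintro x ⟨r, j, hr, -, hj⟩ hd
          have h1 : ci x = 1 ∨ ci x = k := by
            rcases Nat.eq_zero_or_pos j with rfl | hj0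
            · rw [pow_zero, orderOf_eq_one_iff] at hj
              left
              rw [hj, ci_def, index_eq_one, eq_top_iff]
              intro y _
              rw [mem_centralizer_singleton_iff]
              simp
            · exact h x (hj ▸ hr.isPrimePow.pow hj0.ne')
          rcases h1 with h1 | h1
          · rw [← ci_def, h1] at hd
            exact hp.one_lt.ne' (Nat.dvd_one.1 hd)
          · rw [← ci_def, h1] at hd
            exact hpk hd
        have hd := dir_of_solvable (Nat.card G) G rfl hsol hc
        obtain ⟨P⟩ : Nonempty (Sylow p G) := inferInstance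
        obtain ⟨-, N, hN, hNP, -⟩ := H524.ClassSize.normal_and_complement P (hd.sup_eq P)
        exact ⟨P, N, hN, hNP⟩
    obtain ⟨K, hKn, hK1, -, hK2⟩ := OddOrderLocal.NilpotentQuotient.exists_normal_hall (∅ : Set ℕ)
      (fun p hp _ _ => hall p hp)
    have hKb : K = ⊥ := by
      by_contra hne
      obtain ⟨q, hq, hqK⟩ := Nat.exists_prime_and_dvd (fun h1 => hne (Subgroup.card_eq_one.1 h1))
      exact hK1 q hq hqK
    subst hKb
    exact Group.nilpotent_of_surjective (QuotientGroup.quotientBot (G := G)).toMonoidHom
      (QuotientGroup.quotientBot (G := G)).surjective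
  · have h1 : ∀ x : G, IsPrimePow (orderOf x) → ci x = 1 := by
      intro x hx
      rcases h x hx with h1 | h1
      · exact h1
      · by_contra hne
        obtain ⟨q, hq, hqk⟩ := Nat.exists_prime_and_dvd hne
        rw [h1] at hqk
        exact hk ⟨q, hq, hqk, h1 ▸ ci_ne_zero x⟩
    have h2 : ∀ x y : G, x * y = y * x := by
      intro x y
      have h3 : x ∈ centralizer ({y} : Set G) := by
        apply H576.Sizes.mem_of_primePow
        intro z _ hz
        have h4 : y ∈ centralizer ({z} : Set G) := by
          rw [index_eq_one.1 (h1 z hz)]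
          trivial
        rw [mem_centralizer_singleton_iff] at h4 ⊢
        exact h4.symm
      exact mem_centralizer_singleton_iff.1 h3
    let _ : CommGroup G := { (inferInstance : Group G) with mul_comm := h2 }
    exact CommGroup.isNilpotent

end Cfsg.Agent.H588.PrimNil
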