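import Mathlib
import Cfsg.Agent.S0564
import Cfsg.Agent.S4035
import Cfsg.Agent.H530.Cop
import Cfsg.Agent.H588.PrimNil

/-!
# Class sizes: elements with maximal class sizes and with a common centraliser (helper588, for S4137)
-/

set_option autoImplicit false

namespace Cfsg.Agent.H588.ThreeBase

open Subgroup Cfsg.Agent.H528.ClassSize

variable {G : Type*} [Group G]

/-- `C(x)`. -/
abbrev cen (x : G) : Subgroup G := centralizer ({x} : Set G)

theorem mem_cen {x y : G} : y ∈ cen x ↔ y * x = x * y := mem_centralizer_singleton_iff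

theorem mem_cen_comm {x y : G} : y ∈ cen x ↔ x ∈ cen y := by
  rw [mem_cen, mem_cen]
  exact eq_comm

theorem self_mem (x : G) : x ∈ cen x := by rw [mem_cen]

theorem le_cen_iff {H : Subgroup G} {x : G} : H ≤ cen x ↔ ∀ y ∈ H, y * x = x * y := by
  constructor
  · intro h y hy
    exact mem_cen.1 (h hy)
  · intro h y hy
    exact mem_cen.2 (h y hy)

theorem cen_mul {x y : G} (hxy : x * y = y * x) (hc : (orderOf x).Coprime (orderOf y)) :
    cen (x * y) = cen x ⊓ cen y := by
  apply le_antisymm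
  · have hcomm : Commute x y := hxy
    have key : ∀ {a b : G}, Commute a b → (orderOf a).Coprime (orderOf b) → cen (a * b) ≤ cen a := by
      intro a b hab hcop g hg
      obtain ⟨s, hs1, hs2⟩ := Nat.chineseRemainder hcop 1 0
      have h1 : (a * b) ^ s = a := by
        rw [hab.mul_pow]
        have h2 : a ^ s = a ^ 1 := by
          rw [pow_eq_pow_iff_modEq]
          exact hs1
        have h3 : b ^ s = b ^ 0 := by
          rw [pow_eq_pow_iff_modEq]
          exact hs2
        rw [h2, h3, pow_one, pow_zero, mul_one]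
      have h4 : Commute g (a * b) := mem_cen.1 hg
      have h5 := h4.pow_right s
      rw [h1] at h5
      exact mem_cen.2 h5.eq
    refine le_inf (key hcomm hc) ?_
    have h1 := key hcomm.symm hc.symm
    rwa [← hxy] at h1
  · rintro g ⟨h1, h2⟩
    have h3 : Commute g x := mem_cen.1 h1
    have h4 : Commute g y := mem_cen.1 h2
    exact mem_cen.2 (h3.mul_right h4).eq

theorem cen_zpow_le (x : G) {y : G} (hy : y ∈ zpowers x) : cen x ≤ cen y := by
  obtain ⟨i, rfl⟩ := hy
  intro g hg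
  have h1 : Commute g x := mem_cen.1 hg
  exact mem_cen.2 (h1.zpow_right i).eq

theorem ci_dvd_of_zpow {x y : G} (hy : y ∈ zpowers x) : ci y ∣ ci x := index_dvd_of_le (cen_zpow_le x hy)

theorem eq_of_le_of_ci [Finite G] {H K : Subgroup G} (h : H ≤ K) (hi : H.index = K.index) : H = K := by
  apply Subgroup.eq_of_le_of_card_ge h
  have h1 := Subgroup.card_mul_index H
  have h2 := Subgroup.card_mul_index K
  rw [← h2, hi] at h1
  have h3 : 0 < K.index := Nat.pos_of_ne_zero index_ne_zero_of_finite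
  exact (Nat.eq_of_mul_eq_mul_right h3 h1).ge

theorem ci_eq_one_iff {x : G} : ci x = 1 ↔ x ∈ center G := by
  rw [ci_def, index_eq_one, eq_top_iff, mem_center_iff]
  constructor
  · intro h g
    exact mem_cen.1 (h (mem_top g))
  · intro h g _
    exact mem_cen.2 (h g)

theorem ci_ne_one (hZ : center G = ⊥) {x : G} (hx : x ≠ 1) : ci x ≠ 1 := by
  rw [Ne, ci_eq_one_iff, hZ, mem_bot]
  exact hx

theorem one_lt_ci [Finite G] (hZ : center G = ⊥) {x : G} (hx : x ≠ 1) : 1 < ci x :=
  lt_of_le_of_ne (Nat.one_le_iff_ne_zero.2 (ci_ne_zero x)) (ci_ne_one hZ hx).symm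

/-- Some power of `x ≠ 1` has prime power order. -/
theorem exists_primary [Finite G] {x : G} (hx : x ≠ 1) :
    ∃ y ∈ zpowers x, y ≠ 1 ∧ ∃ q : ℕ, q.Prime ∧ orderOf y = q := by
  have h1 : orderOf x ≠ 1 := by rwa [Ne, orderOf_eq_one_iff]
  obtain ⟨q, hq, hd⟩ := Nat.exists_prime_and_dvd h1
  obtain ⟨c, hc⟩ := hd
  have hx0 : 0 < orderOf x := orderOf_pos x
  have hc0 : c ≠ 0 := by
    rintro rfl
    rw [mul_zero] at hc
    omega
  have h2 : orderOf (x ^ c) = q := by
    rw [orderOf_pow_of_dvd hc0 ⟨q, by rw [hc, mul_comm]⟩, hc, Nat.mul_div_cancel _ (Nat.pos_of_ne_zero hc0)]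
  refine ⟨x ^ c, ⟨c, by simp⟩, ?_, q, hq, h2⟩
  intro h3
  rw [h3, orderOf_one] at h2
  exact hq.one_lt.ne h2

/-- Products of nilpotent groups with coprime indices are solvable. -/
theorem isSolvable_of_coprime [Finite G] {H K : Subgroup G} (hH : Group.IsNilpotent H) (hK : Group.IsNilpotent K)
    (h : H.index.Coprime K.index) : Group.IsSolvable G := by
  refine Cfsg.Agent.S0564.result K H hK hH ?_
  intro g
  exact H530.Cop.exists_mul_of_coprime h g

/-- A group with a nilpotent subgroup of prime power index is solvable. -/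
theorem isSolvable_of_primes [Finite G] {H : Subgroup G} (hH : Group.IsNilpotent H)
    (h : ∀ p q : ℕ, p.Prime → q.Prime → p ∣ H.index → q ∣ H.index → p = q) : Group.IsSolvable G := by
  by_cases h1 : H.index = 1
  · exact isSolvable_of_coprime hH hH (by rw [h1]; exact Nat.coprime_one_left 1)
  · obtain ⟨q, hq, hd⟩ := Nat.exists_prime_and_dvd h1
    have : Fact q.Prime := ⟨hq⟩
    obtain ⟨P⟩ : Nonempty (Sylow q G) := inferInstance
    refine isSolvable_of_coprime (H := H) (K := (P : Subgroup G)) hH P.isPGroup'.isNilpotent ?_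
    apply Nat.Coprime.symm
    apply Nat.Coprime.symm
    apply Nat.coprime_of_dvd
    intro r hr h2 h3
    have h4 := h r q hr hq h2 hd
    rw [h4] at h3
    exact P.not_dvd_index h3

/-- Some nonidentity element of the centre of a Sylow subgroup. -/
theorem exists_central [Finite G] {p : ℕ} [hp : Fact p.Prime] (hd : p ∣ Nat.card G) (P : Sylow p G) :
    ∃ z ∈ (P : Subgroup G), z ≠ 1 ∧ (P : Subgroup G) ≤ cen z ∧ ∃ k : ℕ, orderOf z = p ^ k := by
  have hnt : Nontrivial P := by
    rw [← Finite.one_lt_card_iff_nontrivial, P.card_eq_multiplicity]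
    exact Nat.one_lt_pow
      (Nat.one_le_iff_ne_zero.1 ((hp.out.dvd_iff_one_le_factorization Nat.card_pos.ne').1 hd)) hp.out.one_lt
  obtain ⟨z, hz⟩ := (nontrivial_iff_exists_ne (1 : center P)).1 (P.isPGroup'.center_nontrivial)
  refine ⟨(z : P), (z : P).2, ?_, ?_, ?_⟩
  · intro h
    exact hz (Subtype.ext (Subtype.ext h))
  · intro y hy
    have h1 := mem_center_iff.1 z.2 ⟨y, hy⟩
    exact mem_cen.2 (congrArg Subtype.val h1)
  · obtain ⟨k, hk⟩ := (IsPGroup.iff_orderOf.1 P.isPGroup') (z : P)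
    exact ⟨k, by rw [← hk, Subgroup.orderOf_coe]⟩

/-- `ci x` is maximal with respect to divisibility. -/
def Mx (x : G) : Prop := ∀ y : G, ci x ∣ ci y → ci y = ci x

theorem le_of_mx [Finite G] {x y : G} (hx : Mx x) (hy : y ∈ cen x) (hc : (orderOf x).Coprime (orderOf y)) :
    cen x ≤ cen y := by
  have h1 := cen_mul (mem_cen.1 hy).symm hc
  have h2 : cen (x * y) ≤ cen x := by rw [h1]; exact inf_le_left
  have h3 : cen (x * y) = cen x := eq_of_le_of_ci h2 (hx _ (index_dvd_of_le h2))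
  rw [← h3, h1]
  exact inf_le_right

/-- The centraliser of an element of prime power order with maximal class size is nilpotent. -/
theorem isNilpotent_of_mx [Finite G] {x : G} (hx : Mx x) {q k : ℕ} (hq : q.Prime) (ho : orderOf x = q ^ k) :
    Group.IsNilpotent (cen x) := by
  have : Fact q.Prime := ⟨hq⟩
  apply Group.of_quotient_center_nilpotent
  have h1 : IsPGroup q (cen x ⧸ center (cen x)) := by
    intro c
    obtain ⟨c, rfl⟩ := QuotientGroup.mk_surjective c
    obtain ⟨a, b, rfl, -, ⟨j, ha⟩, hb, -, -⟩ := H524.ClassSize.exists_decomp q c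
    have h2 : b ∈ center (cen x) := by
      rw [mem_center_iff]
      intro g
      have h3 : cen x ≤ cen (b : G) := by
        apply le_of_mx hx b.2
        rw [ho, Subgroup.orderOf_coe]
        exact (Nat.Coprime.pow_right k hb).symm
      exact Subtype.ext (mem_cen.1 (h3 g.2))
    refine ⟨j, ?_⟩
    have h3 : (QuotientGroup.mk b : cen x ⧸ center (cen x)) = 1 := (QuotientGroup.eq_one_iff b).2 h2
    rw [QuotientGroup.mk_mul, h3, mul_one, ← QuotientGroup.mk_pow, ← ha, pow_orderOf_eq_one, QuotientGroup.mk_one]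
  exact h1.isNilpotent

theorem card_cen_mul [Finite G] (x : G) : Nat.card (cen x) * ci x = Nat.card G := Subgroup.card_mul_index _

/-- If `C(y)`, `y` a `q`-element of maximal class size, is the centraliser of an element of prime order `t ≠ q` then it
is abelian. -/
theorem abelian_of_two [Finite G] {y a : G} {q k t : ℕ} (hq : q.Prime) (ho : orderOf y = q ^ k) (ht : t.Prime)
    (ha : orderOf a = t) (htq : t ≠ q) (hy : Mx y) (hma : Mx a) (heq : cen y = cen a) :
    ∀ h ∈ cen y, cen y ≤ cen h := by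
  intro h hh g hg
  rw [mem_cen_comm]
  apply H576.Sizes.mem_of_primePow
  intro z hz hpp
  have hzy : z ∈ cen y := by
    have h1 : zpowers h ≤ cen y := by
      rw [zpowers_le]
      exact hh
    exact h1 hz
  rw [mem_cen_comm]
  obtain ⟨r, j, hr, -, hj⟩ := (isPrimePow_nat_iff _).1 hpp
  by_cases hrq : r = q
  · have h1 : cen a ≤ cen z := by
      apply le_of_mx hma (heq ▸ hzy)
      rw [ha, ← hj, hrq]
      exact Nat.Coprime.pow_right _ ((Nat.coprime_primes ht hq).2 htq)
    exact h1 (heq ▸ hg)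
  · have h1 : cen y ≤ cen z := by
      apply le_of_mx hy hzy
      rw [ho, ← hj]
      exact Nat.Coprime.pow _ _ ((Nat.coprime_primes hq hr).2 (fun h => hrq h.symm))
    exact h1 hg

/-- If the class size of `y`, a `q`-element, is maximal and minimal, and `t ∣ |C(y)|`, `t ≠ q`, then `C(y)` is
abelian. -/
theorem abelian_of_dvd [Finite G] {y : G} {q k t : ℕ} (hq : q.Prime) (ho : orderOf y = q ^ k) (hy : Mx y)
    (hmin : ∀ z : G, z ≠ 1 → ci z ∣ ci y → ci z = ci y) (ht : t.Prime) (htq : t ≠ q)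
    (htc : t ∣ Nat.card (cen y)) : ∀ h ∈ cen y, cen y ≤ cen h := by
  have : Fact t.Prime := ⟨ht⟩
  obtain ⟨a, ha⟩ := exists_prime_orderOf_dvd_card' t htc
  have ha' : orderOf (a : G) = t := by rw [Subgroup.orderOf_coe, ha]
  have ha1 : (a : G) ≠ 1 := by
    intro h
    rw [h, orderOf_one] at ha'
    exact ht.one_lt.ne ha'
  have hle : cen y ≤ cen (a : G) := by
    apply le_of_mx hy a.2
    rw [ho, ha']
    exact Nat.Coprime.pow_left _ ((Nat.coprime_primes hq ht).2 htq.symm)
  have hca : ci (a : G) = ci y := hmin _ ha1 (index_dvd_of_le hle)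
  have heq : cen y = cen (a : G) := eq_of_le_of_ci hle hca.symm
  have hma : Mx (a : G) := by
    intro z hz
    rw [hca] at hz ⊢
    exact hy z hz
  exact abelian_of_two hq ho ht ha' htq hy hma heq

/-- If `ci y` is maximal and minimal, coprime to another class size `ci w`, and `y` is a `q`-element then `q ∣ ci w`. -/
theorem dvd_of_mx [Finite G] (hZ : center G = ⊥) {w y : G} {q k : ℕ} (hq : q.Prime) (ho : orderOf y = q ^ k)
    (hy1 : y ≠ 1) (hy : Mx y) (hmin : ∀ z : G, z ≠ 1 → ci z ∣ ci y → ci z = ci y) (hw : w ≠ 1)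
    (hcop : (ci w).Coprime (ci y)) : q ∣ ci w := by
  by_contra hqw
  obtain ⟨t, ht, htw⟩ := Nat.exists_prime_and_dvd (ci_ne_one hZ hw)
  have htq : t ≠ q := by
    rintro rfl
    exact hqw htw
  have hcard : ci w ∣ Nat.card (cen y) := by
    refine hcop.dvd_of_dvd_mul_right ?_
    rw [card_cen_mul]
    exact index_dvd_card _
  -- `cen y` is abelian
  have hab := abelian_of_dvd hq ho hy hmin ht htq (htw.trans hcard)
  have hbot : cen w ⊓ cen y = ⊥ := by
    rw [eq_bot_iff]
    rintro h ⟨h1, h2⟩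
    rw [mem_bot]
    by_contra hne
    have h3 := hab h h2
    have h4 := eq_of_le_of_ci h3 (hmin h hne (index_dvd_of_le h3)).symm
    have h5 : w ∈ cen y := by
      rw [h4]
      exact mem_cen_comm.1 h1
    have h6 : ci w ∣ ci y := index_dvd_of_le (hab w h5)
    exact ci_ne_one hZ hw (Nat.eq_one_of_dvd_coprimes hcop dvd_rfl h6)
  have h1 : (cen w ⊓ cen y).index ≤ ci w * ci y := index_inf_le
  rw [hbot, index_bot, ← card_cen_mul y] at h1
  have hci : 0 < ci y := Nat.pos_of_ne_zero (ci_ne_zero y)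
  have h2 : Nat.card (cen y) ≤ ci w := Nat.le_of_mul_le_mul_right h1 hci
  have h3 : ci w ≤ Nat.card (cen y) := Nat.le_of_dvd Nat.card_pos hcard
  have h4 : Nat.card (cen y) = ci w := le_antisymm h2 h3
  apply hqw
  rw [← h4]
  have h5 : orderOf y ∣ Nat.card (cen y) := by
    have := orderOf_dvd_natCard (⟨y, self_mem y⟩ : cen y)
    rwa [← Subgroup.orderOf_coe] at this
  refine dvd_trans ?_ h5
  rw [ho]
  refine dvd_pow_self q ?_
  rintro rfl
  rw [pow_zero, orderOf_eq_one_iff] at ho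
  exact hy1 ho

/-- Class sizes in a subgroup. -/
theorem ci_mul_index {K : Subgroup G} (y : K) : ci y * K.index = (cen (y : G) ⊓ K).index := by
  have h1 : (cen (y : G)).subgroupOf K = centralizer ({y} : Set K) := by
    ext z
    rw [mem_subgroupOf, mem_centralizer_singleton_iff, mem_centralizer_singleton_iff]
    exact ⟨fun h => Subtype.ext h, fun h => congrArg Subtype.val h⟩
  rw [ci_def, ← h1, ← relIndex_mul_index (inf_le_right : cen (y : G) ⊓ K ≤ K), inf_relIndex_right]
  rfl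

/-- Two elements `x₁`, `x₂` of orders powers of different primes, of the same class size `m`, `x₂` central in a Sylow
subgroup: then `C(x₁)` is nilpotent, if `m`, `M` are the only class sizes that are multiples of `m`. -/
theorem isNilpotent_of_two [Finite G] {m M : ℕ} (hsz : ∀ y : G, m ∣ ci y → ci y = m ∨ ci y = M) {p₁ p₂ k₁ k₂ : ℕ}
    (hp₁ : p₁.Prime) (hp₂ : p₂.Prime) (hne : p₁ ≠ p₂) (hM : p₂ ∣ M) {x₁ x₂ : G} (h₁ : orderOf x₁ = p₁ ^ k₁)
    (h₂ : orderOf x₂ = p₂ ^ k₂) (hc₁ : ci x₁ = m) (hc₂ : ci x₂ = m) (P : Sylow p₂ G) (hxP : x₂ ∈ (P : Subgroup G))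
    (hP : (P : Subgroup G) ≤ cen x₂) : Group.IsNilpotent (cen x₁) := by
  have : Fact p₂.Prime := ⟨hp₂⟩
  have hpm : ¬ p₂ ∣ ci x₁ := by
    rw [hc₁, ← hc₂]
    exact not_dvd_ci x₂ P hP
  obtain ⟨Q, hQ⟩ := exists_sylow_le_cent p₂ x₁ hpm
  obtain ⟨g, hg⟩ := MulAction.exists_smul_eq G P Q
  obtain ⟨x, hx⟩ : ∃ x : G, x = g * x₂ * g⁻¹ := ⟨_, rfl⟩
  have hconj : ∀ y ∈ (P : Subgroup G), g * y * g⁻¹ ∈ (Q : Subgroup G) := by
    intro y hy
    rw [← hg, ← SetLike.mem_coe, Sylow.coe_coe, Sylow.coe_smul]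
    exact ⟨y, hy, rfl⟩
  have hxQ : x ∈ (Q : Subgroup G) := hx ▸ hconj x₂ hxP
  have hQx : (Q : Subgroup G) ≤ cen x := by
    intro y hy
    have h1 : g⁻¹ * y * g ∈ (P : Subgroup G) := by
      rw [← hg, ← SetLike.mem_coe, Sylow.coe_coe, Sylow.coe_smul] at hy
      obtain ⟨z, hz, rfl⟩ := hy
      have h2 : g⁻¹ * (g * z * g⁻¹) * g = z := by group
      change g⁻¹ * (g * z * g⁻¹) * g ∈ (P : Subgroup G)
      rw [h2]
      exact hz
    have h2 := mem_cen.1 (hP h1)
    rw [mem_cen, hx]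
    calc y * (g * x₂ * g⁻¹) = g * ((g⁻¹ * y * g) * x₂) * g⁻¹ := by group
      _ = g * (x₂ * (g⁻¹ * y * g)) * g⁻¹ := by rw [h2]
      _ = g * x₂ * g⁻¹ * y := by group
  have hcx : ci x = m := by
    rw [hx, ← hc₂]
    exact H530.Cop.ci_conj g x₂
  have hox : orderOf x = p₂ ^ k₂ := by
    rw [hx, ← h₂]
    exact orderOf_injective (MulAut.conj g).toMonoidHom (MulAut.conj g).injective x₂
  have hxK : x ∈ cen x₁ := hQ hxQ
  have hmul : cen (x₁ * x) = cen x₁ ⊓ cen x := by
    apply cen_mul (mem_cen.1 hxK).symm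
    rw [h₁, hox]
    exact Nat.Coprime.pow _ _ ((Nat.coprime_primes hp₁ hp₂).2 hne)
  have hcmul : ci (x₁ * x) = m := by
    have h1 : m ∣ ci (x₁ * x) := by
      rw [← hc₁]
      apply index_dvd_of_le
      show cen (x₁ * x) ≤ cen x₁
      rw [hmul]
      exact inf_le_left
    rcases hsz _ h1 with h2 | h2
    · exact h2
    · exfalso
      have h3 : (Q : Subgroup G) ≤ centralizer ({x₁ * x} : Set G) := by
        have : (Q : Subgroup G) ≤ cen (x₁ * x) := by
          rw [hmul]
          exact le_inf hQ hQx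
        exact this
      exact not_dvd_ci _ Q h3 (h2 ▸ hM)
  have hKx : cen x₁ = cen x := by
    have h1 : cen (x₁ * x) = cen x₁ := by
      apply eq_of_le_of_ci
      · show cen (x₁ * x) ≤ cen x₁
        rw [hmul]
        exact inf_le_left
      · show ci _ = ci _
        rw [hcmul, hc₁]
    have h2 : cen (x₁ * x) = cen x := by
      apply eq_of_le_of_ci
      · show cen (x₁ * x) ≤ cen x
        rw [hmul]
        exact inf_le_right
      · show ci _ = ci _
        rw [hcmul, hcx]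
    rw [← h1, h2]
  have hm0 : 0 < m := by
    rw [← hc₁]
    exact Nat.pos_of_ne_zero (ci_ne_zero x₁)
  apply PrimNil.isNilpotent_of_primary (M / m)
  have key : ∀ (y : cen x₁) (z : G), cen z = cen x₁ → ci z = m → (orderOf z).Coprime (orderOf y) →
      ci y = 1 ∨ ci y = M / m := by
    intro y z hz hcz hco
    have hyz : z * (y : G) = (y : G) * z := by
      have h1 : (y : G) ∈ cen z := by
        rw [hz]
        exact y.2
      exact (mem_cen.1 h1).symm
    have h1 := cen_mul hyz (by rwa [Subgroup.orderOf_coe])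
    have h2 : ci y * m = ci (z * (y : G)) := by
      rw [← hc₁]
      show ci y * (cen x₁).index = (cen (z * (y : G))).index
      rw [ci_mul_index y, h1, hz, inf_comm]
    rcases hsz (z * (y : G)) ⟨ci y, by rw [← h2, mul_comm]⟩ with h3 | h3
    · left
      rw [h3] at h2
      exact Nat.eq_of_mul_eq_mul_right hm0 (by rw [h2, one_mul])
    · right
      rw [h3] at h2
      rw [← h2, Nat.mul_div_cancel _ hm0]
  intro y hpp
  obtain ⟨r, j, hr, -, hj⟩ := (isPrimePow_nat_iff _).1 hpp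
  by_cases hr1 : r = p₁
  · apply key y x hKx.symm hcx
    rw [hox, ← hj, hr1]
    exact Nat.Coprime.pow _ _ ((Nat.coprime_primes hp₂ hp₁).2 hne.symm)
  · apply key y x₁ rfl hc₁
    rw [h₁, ← hj]
    exact Nat.Coprime.pow _ _ ((Nat.coprime_primes hp₁ hr).2 (fun h => hr1 h.symm))

/-- A central element of a Sylow `q`-subgroup has class size `m`. -/
def Zs (G : Type*) [Group G] (m q : ℕ) : Prop :=
  q.Prime ∧ ∃ (P : Sylow q G) (z : G), z ∈ (P : Subgroup G) ∧ (P : Subgroup G) ≤ cen z ∧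
    (∃ k : ℕ, orderOf z = q ^ k) ∧ ci z = m

theorem Zs.not_dvd [Finite G] {m q : ℕ} (h : Zs G m q) : ¬ q ∣ m := by
  obtain ⟨hq, P, z, -, h1, -, h2⟩ := h
  have : Fact q.Prime := ⟨hq⟩
  rw [← h2]
  exact not_dvd_ci z P h1

/-- A nilpotent subgroup whose index is prime to the primes `q ∣ M` with `Zs G m q`. -/
theorem exists_nilpotent [Finite G] {m M : ℕ} (hsz : ∀ y : G, m ∣ ci y → ci y = m ∨ ci y = M) :
    ∃ A : Subgroup G, Group.IsNilpotent A ∧ ∀ q : ℕ, q ∣ A.index → q ∣ M → ¬ Zs G m q := by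
  by_cases h2 : ∃ p₁ p₂ : ℕ, Zs G m p₁ ∧ Zs G m p₂ ∧ p₁ ≠ p₂ ∧ p₂ ∣ M
  · obtain ⟨p₁, p₂, ⟨hp₁, P₁, x₁, -, -, ⟨k₁, h₁⟩, hc₁⟩, ⟨hp₂, P₂, x₂, hx₂, hP₂, ⟨k₂, h₂⟩, hc₂⟩, hne, hM⟩ := h2
    refine ⟨cen x₁, isNilpotent_of_two hsz hp₁ hp₂ hne hM h₁ h₂ hc₁ hc₂ P₂ hx₂ hP₂, ?_⟩
    intro q hq _ hz
    apply hz.not_dvd
    rw [← hc₁]
    exact hq
  · by_cases h1 : ∃ p : ℕ, Zs G m p ∧ p ∣ M
    · obtain ⟨p, hz, hp⟩ := h1
      have : Fact p.Prime := ⟨hz.1⟩
      obtain ⟨P⟩ : Nonempty (Sylow p G) := inferInstance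
      refine ⟨P, P.isPGroup'.isNilpotent, ?_⟩
      intro q hq hqM hzq
      apply h2
      refine ⟨p, q, hz, hzq, ?_, hqM⟩
      rintro rfl
      exact P.not_dvd_index hq
    · refine ⟨⊥, inferInstance, ?_⟩
      intro q _ hqM hz
      exact h1 ⟨q, hz, hqM⟩

end Cfsg.Agent.H588.ThreeBase
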