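import Mathlib
import Cfsg.Agent.S0205
import Cfsg.Agent.S2202
import Cfsg.Agent.S4355
import Cfsg.Agent.H363.PslCard
import Cfsg.Agent.H588.ThreeBase

/-!
# Centreless groups whose class sizes form an antichain (helper588, for S4137)
-/

set_option autoImplicit false

namespace Cfsg.Agent.H588.ThreeAnti

open Subgroup Cfsg.Agent.H528.ClassSize Cfsg.Agent.H588.ThreeBase

variable {G : Type*} [Group G] [Finite G]

/-- Groups with cyclic Sylow 2-subgroups are solvable. -/
theorem isSolvable_of_cyclic (h : ∀ P : Sylow 2 G, IsCyclic P) : Group.IsSolvable G := by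
  by_cases hodd : Odd (Nat.card G)
  · exact Cfsg.Agent.S0205.result hodd
  · have heven : 2 ∣ Nat.card G := even_iff_two_dvd.1 (Nat.not_odd_iff_even.1 hodd)
    have hmin : (Nat.card G).minFac = 2 := (Nat.minFac_eq_two_iff _).2 heven
    obtain ⟨P⟩ : Nonempty (Sylow 2 G) := inferInstance
    have hP := h P
    have h1 := IsCyclic.isComplement' hmin hP
    obtain ⟨K, hK⟩ : ∃ K : Subgroup G, K = (MonoidHom.transferSylow P (hP.normalizer_le_centralizer hmin)).ker := ⟨_, rfl⟩
    have hKn : K.Normal := by rw [hK]; infer_instance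
    rw [← hK] at h1
    have hKodd : Odd (Nat.card K) := by
      have h2 : Nat.card K = (P : Subgroup G).index := h1.index_eq_card.symm
      rw [h2, ← Nat.not_even_iff_odd, even_iff_two_dvd]
      exact P.not_dvd_index
    have h3 : Group.IsSolvable K := Cfsg.Agent.S0205.result hKodd
    have h4 : Group.IsSolvable (G ⧸ K) := by
      have h5 : IsPGroup 2 (G ⧸ K) := by
        obtain ⟨j, hj⟩ := P.isPGroup'.exists_card_eq
        exact IsPGroup.of_card (n := j) (by rw [← hj, ← h1.symm.index_eq_card]; rfl)
      have h6 : Group.IsNilpotent (G ⧸ K) := h5.isNilpotent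
      infer_instance
    exact Group.isSolvable_of_ker_le_range K.subtype (QuotientGroup.mk' K) (by simp)

theorem isSolvable_of_normal (P : Sylow 2 G) (h : (P : Subgroup G).Normal) : Group.IsSolvable G := by
  have h1 : Group.IsNilpotent P := P.isPGroup'.isNilpotent
  have h2 : Group.IsSolvable (G ⧸ (P : Subgroup G)) := by
    apply Cfsg.Agent.S0205.result
    rw [← Nat.not_even_iff_odd, even_iff_two_dvd]
    exact P.not_dvd_index
  have h3 : Group.IsSolvable (P : Subgroup G) := inferInstance
  exact Group.isSolvable_of_ker_le_range (P : Subgroup G).subtype (QuotientGroup.mk' (P : Subgroup G)) (by simp)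

/-- The class sizes form an antichain. -/
def Anti (G : Type*) [Group G] : Prop := ∀ x y : G, x ≠ 1 → y ≠ 1 → ci x ∣ ci y → ci y = ci x

omit [Finite G] in
theorem Anti.mx (h : Anti G) {x : G} (hx : x ≠ 1) : Mx x := by
  intro y hy
  by_cases hy1 : y = 1
  · have h1 : ci y = 1 := by
      rw [hy1, ci_eq_one_iff]
      exact one_mem _
    rw [h1, Nat.dvd_one] at hy
    rw [h1, hy]
  · exact h x y hx hy1 hy

/-- The classes of the 2-elements have odd sizes. -/
theorem Anti.odd (h : Anti G) (x : G) (hx : ∃ k : ℕ, orderOf x = 2 ^ k) : ¬ 2 ∣ ci x := by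
  by_cases hx1 : x = 1
  · have h1 : ci x = 1 := by
      rw [hx1, ci_eq_one_iff]
      exact one_mem _
    rw [h1]
    decide
  obtain ⟨k, hk⟩ := hx
  have hp : IsPGroup 2 (zpowers x) := IsPGroup.of_card (n := k) (by rw [Nat.card_zpowers, hk])
  obtain ⟨P, hP⟩ := hp.exists_le_sylow
  have hxP : x ∈ (P : Subgroup G) := hP (mem_zpowers x)
  have heven : 2 ∣ Nat.card G := by
    refine dvd_trans ?_ (orderOf_dvd_natCard x)
    rw [hk]
    refine dvd_pow_self 2 ?_
    rintro rfl
    rw [pow_zero, orderOf_eq_one_iff] at hk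
    exact hx1 hk
  obtain ⟨z, hz, hz1, hPz, -⟩ := exists_central heven P
  have hxz : z ∈ cen x := mem_cen_comm.1 (hPz hxP)
  have key : ci z ∣ ci x := by
    by_cases ht : ∃ t : ℕ, t.Prime ∧ t ≠ 2 ∧ t ∣ Nat.card (cen x)
    · obtain ⟨t, ht, ht2, htd⟩ := ht
      have hab := abelian_of_dvd Nat.prime_two hk (h.mx hx1)
        (fun u hu hd => (h u x hu hx1 hd).symm) ht ht2 htd
      exact index_dvd_of_le (hab z hxz)
    · have h2 : IsPGroup 2 (cen x) := by
        apply IsPGroup.of_card (n := (Nat.card (cen x)).primeFactorsList.length)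
        apply Nat.eq_prime_pow_of_unique_prime_dvd Nat.card_pos.ne'
        intro d hd hdd
        by_contra hne
        exact ht ⟨d, hd, hne, hdd⟩
      obtain ⟨j, hj⟩ := IsPGroup.iff_card.1 h2
      have h3 : Nat.card (cen x) ∣ Nat.card (cen z) := by
        have h4 : Nat.card (cen x) ∣ Nat.card P := by
          have h5 : Nat.card (cen x) ∣ Nat.card G := card_subgroup_dvd_card _
          rw [← Subgroup.card_mul_index (P : Subgroup G)] at h5
          refine Nat.Coprime.dvd_of_dvd_mul_right ?_ h5
          rw [hj]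
          exact Nat.Coprime.pow_left _ ((Nat.Prime.coprime_iff_not_dvd Nat.prime_two).2 P.not_dvd_index)
        exact h4.trans (Subgroup.card_dvd_of_le hPz)
      obtain ⟨c, hc⟩ := h3
      have h5 := card_cen_mul x
      rw [← card_cen_mul z, hc, mul_assoc] at h5
      exact ⟨c, by rw [Nat.eq_of_mul_eq_mul_left Nat.card_pos h5, mul_comm]⟩
  rw [h z x hz1 hx1 key]
  exact not_dvd_ci z P hPz

/-- **The antichain case.** -/
theorem Anti.main (h : Anti G) (hZ : center G = ⊥) (hns : ¬ Group.IsSolvable G) :
    ∃ a : ℕ, 0 < a ∧ Nonempty (G ≃* Matrix.ProjectiveSpecialLinearGroup (Fin 2) (GaloisField 2 a)) := by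
  have hab := Cfsg.Agent.S4355.result (G := G) (fun x hx => h.odd x hx)
  have heven : Even (Nat.card G) := by
    rw [← Nat.not_odd_iff_even]
    intro h1
    exact hns (Cfsg.Agent.S0205.result h1)
  have hinv : ∀ t : G, orderOf t = 2 → IsMulCommutative ↥(centralizer ({t} : Set G)) := by
    intro t ht
    have ht1 : t ≠ 1 := by
      rintro rfl
      rw [orderOf_one] at ht
      omega
    have key : ∀ a ∈ cen t, ∀ b ∈ cen t, a * b = b * a := by
      by_cases hr : ∃ r : ℕ, r.Prime ∧ r ≠ 2 ∧ r ∣ Nat.card (cen t)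
      · obtain ⟨r, hr, hr2, hrd⟩ := hr
        have h1 := abelian_of_dvd (k := 1) Nat.prime_two (by rw [pow_one, ht]) (h.mx ht1)
          (fun u hu hd => (h u t hu ht1 hd).symm) hr hr2 hrd
        intro a ha b hb
        exact mem_cen.1 (h1 b hb ha)
      · have h2 : IsPGroup 2 (cen t) := by
          apply IsPGroup.of_card (n := (Nat.card (cen t)).primeFactorsList.length)
          apply Nat.eq_prime_pow_of_unique_prime_dvd Nat.card_pos.ne'
          intro d hd hdd
          by_contra hne
          exact hr ⟨d, hd, hne, hdd⟩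
        obtain ⟨P, hP⟩ := h2.exists_le_sylow
        have h3 := hab P
        intro a ha b hb
        exact congrArg Subtype.val (h3.is_comm.comm ⟨a, hP ha⟩ ⟨b, hP hb⟩)
    exact ⟨⟨fun a b => Subtype.ext (key a a.2 b b.2)⟩⟩
  rcases Cfsg.Agent.S2202.result heven hinv with h1 | h1 | ⟨F, hF1, hF2, A, hA1, hA2, hchar, -, ⟨e⟩⟩
  · exact absurd (isSolvable_of_cyclic h1) hns
  · obtain ⟨P⟩ : Nonempty (Sylow 2 G) := inferInstance
    exact absurd (isSolvable_of_normal P (h1 P)) hns
  · -- the centre of `SL₂(F) × A` is trivial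
    have hc : ∀ z : Matrix.SpecialLinearGroup (Fin 2) F × A, (∀ g, g * z = z * g) → z = 1 := by
      intro z hz
      have h2 : e.symm z ∈ center G := by
        rw [mem_center_iff]
        intro g
        apply e.injective
        rw [map_mul, map_mul, e.apply_symm_apply]
        exact hz (e g)
      rw [hZ, mem_bot] at h2
      rw [← e.apply_symm_apply z, h2, map_one]
    have hA : ∀ a : A, a = 1 := by
      intro a
      have h2 := hc (1, a) (fun g => by
        ext1
        · simp
        · exact mul_comm _ _)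
      exact congrArg Prod.snd h2
    have hZS : center (Matrix.SpecialLinearGroup (Fin 2) F) = ⊥ := by
      rw [eq_bot_iff]
      intro z hz
      rw [mem_center_iff] at hz
      have h2 := hc (z, 1) (fun g => by
        ext1
        · exact hz _
        · simp)
      exact congrArg Prod.fst h2
    have hfst : Function.Bijective (MonoidHom.fst (Matrix.SpecialLinearGroup (Fin 2) F) A) := by
      constructor
      · rintro ⟨a, b⟩ ⟨c, d⟩ hcd
        have h2 : a = c := hcd
        rw [h2, hA b, hA d]
      · intro a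
        exact ⟨(a, 1), rfl⟩
    obtain ⟨n, hp, hcard⟩ := FiniteField.card F 2
    refine ⟨(n : ℕ), n.pos, ?_⟩
    have : Fintype (GaloisField 2 (n : ℕ)) := Fintype.ofFinite _
    obtain ⟨e2⟩ := H363.PslCard.psl_of_card (n := Fin 2) (F := F) (F' := GaloisField 2 (n : ℕ))
      (by rw [hcard, ← Nat.card_eq_fintype_card, GaloisField.card 2 (n : ℕ) n.ne_zero])
    exact ⟨(e.trans (MulEquiv.ofBijective _ hfst)).trans
      (((QuotientGroup.quotientMulEquivOfEq hZS).trans QuotientGroup.quotientBot).symm.trans e2)⟩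

end Cfsg.Agent.H588.ThreeAnti
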