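import Mathlib
import Cfsg.Agent.S4160
import Cfsg.Agent.H588.ThreeBase

/-!
# Centreless groups with class sizes `m`, `M`, `n`, `m ∣ M`, are solvable (helper588, for S4137)
-/

set_option autoImplicit false

namespace Cfsg.Agent.H588.ThreeCase

open Subgroup Cfsg.Agent.H528.ClassSize Cfsg.Agent.H588.ThreeBase

section Perfect

/-- A finite nonsolvable group has a nontrivial perfect normal subgroup. -/
theorem exists_perfect {G : Type*} [Group G] [Finite G] (hns : ¬ Group.IsSolvable G) :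
    ∃ N : Subgroup G, N.Normal ∧ commutator N = ⊤ ∧ Nontrivial N := by
  obtain ⟨n, hn⟩ : ∃ n : ℕ, ∀ j : ℕ, Nat.card (derivedSeries G n) ≤ Nat.card (derivedSeries G j) := by
    have hne : (Set.range fun j : ℕ => Nat.card (derivedSeries G j)).Nonempty := ⟨_, 0, rfl⟩
    obtain ⟨n, hn⟩ := Nat.sInf_mem hne
    refine ⟨n, fun j => ?_⟩
    have h1 : sInf (Set.range fun j : ℕ => Nat.card (derivedSeries G j)) ≤ Nat.card (derivedSeries G j) :=
      Nat.sInf_le ⟨j, rfl⟩
    rw [← hn] at h1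
    exact h1
  have h1 : ⁅derivedSeries G n, derivedSeries G n⁆ = derivedSeries G n := by
    rw [← derivedSeries_succ]
    exact Subgroup.eq_of_le_of_card_ge (derivedSeries_antitone G (Nat.le_succ n)) (hn (n + 1))
  refine ⟨derivedSeries G n, inferInstance, ?_, ?_⟩
  · apply Subgroup.map_injective (derivedSeries G n).subtype_injective
    rw [_root_.commutator_def, Subgroup.map_commutator, ← MonoidHom.range_eq_map, Subgroup.range_subtype, h1]
  · rw [Subgroup.nontrivial_iff_ne_bot]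
    intro h2
    exact hns ⟨⟨n, h2⟩⟩

variable {X : Type*} [Group X] [Finite X]

omit [Finite X] in
theorem eq_top_of_perfect (hX : commutator X = ⊤) (N : Subgroup X) [N.Normal] (h : Group.IsSolvable (X ⧸ N)) :
    N = ⊤ := by
  by_contra hne
  have h1 : Nontrivial (X ⧸ N) := by
    rw [QuotientGroup.nontrivial_iff]
    exact hne
  have h2 := Group.IsSolvable.commutator_lt_top_of_nontrivial (X ⧸ N)
  have h3 : commutator (X ⧸ N) = ⊤ := by
    have h4 := congrArg (Subgroup.map (QuotientGroup.mk' N)) hX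
    rw [_root_.commutator_def, Subgroup.map_commutator,
      Subgroup.map_top_of_surjective _ (QuotientGroup.mk'_surjective N)] at h4
    exact h4
  exact h2.ne h3

theorem not_hnc (hX : commutator X = ⊤) {r : ℕ} (hr : r.Prime) (hd : r ∣ Nat.card X) :
    ¬ HasNormalPComplement r X := by
  intro h
  have : Fact r.Prime := ⟨hr⟩
  obtain ⟨N, hN, h1, k, h2⟩ := OddOrderLocal.NilpotentQuotient.exists_of_hasNormalPComplement h
  have h3 : IsPGroup r (X ⧸ N) := IsPGroup.of_card (n := k) (by rw [← h2]; rfl)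
  have h4 : Group.IsNilpotent (X ⧸ N) := h3.isNilpotent
  have h5 := eq_top_of_perfect hX N inferInstance
  rw [h5, Subgroup.card_top] at h1
  exact h1 hd

theorem exists_dvd_ci_of_perfect (hX : commutator X = ⊤) {r : ℕ} (hr : r.Prime) (hd : r ∣ Nat.card X) :
    ∃ x : X, r ∣ ci x := by
  by_contra hne
  push Not at hne
  have : Fact r.Prime := ⟨hr⟩
  obtain ⟨P⟩ : Nonempty (Sylow r X) := inferInstance
  obtain ⟨-, N, hN, hc, -⟩ := H524.ClassSize.normal_and_complement P
    (H524.ClassSize.sylow_sup_centralizer (fun y _ => hne y) P)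
  exact not_hnc hX hr hd ⟨P, N, hN, hc⟩

end Perfect

variable {G : Type*} [Group G] [Finite G]

theorem exists_dvd_ci (hZ : center G = ⊥) {r : ℕ} (hr : r.Prime) (hd : r ∣ Nat.card G) : ∃ x : G, r ∣ ci x := by
  by_contra hne
  push Not at hne
  have : Fact r.Prime := ⟨hr⟩
  obtain ⟨P⟩ : Nonempty (Sylow r G) := inferInstance
  have h1 := H524.ClassSize.sylow_sup_centralizer (fun y _ => hne y) P
  obtain ⟨z, hz, hz1, hPz, -⟩ := exists_central hd P
  have h2 : cen z = ⊤ := by
    rw [eq_top_iff, ← h1]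
    refine sup_le hPz ?_
    exact centralizer_le (Set.singleton_subset_iff.2 hz)
  apply hz1
  rw [← mem_bot, ← hZ, ← ci_eq_one_iff, ci_def, index_eq_one]
  exact h2

/-- The class sizes different from `1` are among `m`, `M`, `n`; `m` and `n` are coprime and `m ∣ M`. -/
structure Sz (G : Type*) [Group G] (m M n : ℕ) : Prop where
  hZ : center G = ⊥
  sz : ∀ x : G, x ≠ 1 → ci x = m ∨ ci x = M ∨ ci x = n
  hm : 1 < m
  hn : 1 < n
  hmM : m ∣ M
  cop : m.Coprime n
  exm : ∃ x : G, x ≠ 1 ∧ ci x = m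
  exn : ∃ x : G, x ≠ 1 ∧ ci x = n

variable {m M n : ℕ}

theorem ci_one {G : Type*} [Group G] : ci (1 : G) = 1 := by
  rw [ci_eq_one_iff]
  exact one_mem _

theorem not_dvd {a b : ℕ} (ha : 1 < a) (h : a.Coprime b) : ¬ a ∣ b := fun hd =>
  ha.ne' (Nat.eq_one_of_dvd_coprimes h dvd_rfl hd)

omit [Finite G] in
theorem Sz.mul (h : Sz G m M n) (y : G) (hy : m ∣ ci y) : ci y = m ∨ ci y = M := by
  by_cases h1 : y = 1
  · exfalso
    rw [h1, ci_one, Nat.dvd_one] at hy
    exact h.hm.ne' hy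
  · rcases h.sz y h1 with h2 | h2 | h2
    · exact Or.inl h2
    · exact Or.inr h2
    · rw [h2] at hy
      exact absurd hy (not_dvd h.hm h.cop)

/-- The case `n ∣ M`. -/
theorem Sz.isSolvable_of_dvd (h : Sz G m M n) (hnM : n ∣ M) : Group.IsSolvable G := by
  have h' : Sz G n M m :=
    { hZ := h.hZ
      sz := fun x hx => by
        rcases h.sz x hx with h1 | h1 | h1
        · exact Or.inr (Or.inr h1)
        · exact Or.inr (Or.inl h1)
        · exact Or.inl h1
      hm := h.hn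
      hn := h.hm
      hmM := hnM
      cop := h.cop.symm
      exm := h.exn
      exn := h.exm }
  have hM : ∀ q : ℕ, q.Prime → q ∣ Nat.card G → q ∣ M := by
    intro q hq hd
    obtain ⟨x, hx⟩ := exists_dvd_ci h.hZ hq hd
    have hx1 : x ≠ 1 := by
      rintro rfl
      rw [ci_one, Nat.dvd_one] at hx
      exact hq.one_lt.ne' hx
    rcases h.sz x hx1 with h1 | h1 | h1
    · exact (h1 ▸ hx).trans h.hmM
    · exact h1 ▸ hx
    · exact (h1 ▸ hx).trans hnM
  have hZs : ∀ q : ℕ, q.Prime → q ∣ Nat.card G → Zs G m q ∨ Zs G n q := by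
    intro q hq hd
    have : Fact q.Prime := ⟨hq⟩
    obtain ⟨P⟩ : Nonempty (Sylow q G) := inferInstance
    obtain ⟨z, hz, hz1, hPz, hk⟩ := exists_central hd P
    rcases h.sz z hz1 with h1 | h1 | h1
    · exact Or.inl ⟨hq, P, z, hz, hPz, hk, h1⟩
    · exact absurd (h1 ▸ hM q hq hd) (not_dvd_ci z P hPz)
    · exact Or.inr ⟨hq, P, z, hz, hPz, hk, h1⟩
  obtain ⟨A, hA, hA'⟩ := exists_nilpotent h.mul
  obtain ⟨B, hB, hB'⟩ := exists_nilpotent h'.mul
  refine isSolvable_of_coprime hA hB ?_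
  apply Nat.coprime_of_dvd
  intro q hq h1 h2
  have hd : q ∣ Nat.card G := h1.trans (index_dvd_card _)
  rcases hZs q hq hd with h3 | h3
  · exact hA' q h1 (hM q hq hd) h3
  · exact hB' q h2 (hM q hq hd) h3

/-- The case `n ∤ M`. -/
theorem Sz.isSolvable_of_not_dvd (h : Sz G m M n) (hnM : ¬ n ∣ M) : Group.IsSolvable G := by
  by_contra hns
  have hmn : ¬ m ∣ n := not_dvd h.hm h.cop
  have hmin : ∀ z : G, z ≠ 1 → ci z ∣ n → ci z = n := by
    intro z hz hd
    rcases h.sz z hz with h1 | h1 | h1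
    · exact absurd (h1 ▸ hd) hmn
    · exact absurd (h.hmM.trans (h1 ▸ hd)) hmn
    · exact h1
  have hmx : ∀ z : G, ci z = n → Mx z := by
    intro z hz y hy
    rw [hz] at hy ⊢
    by_cases hy1 : y = 1
    · rw [hy1, ci_one, Nat.dvd_one] at hy
      exact absurd hy h.hn.ne'
    · rcases h.sz y hy1 with h1 | h1 | h1
      · exact absurd (h1 ▸ hy) (not_dvd h.hn h.cop.symm)
      · exact absurd (h1 ▸ hy) hnM
      · exact h1
  obtain ⟨x₀, hx₀, hcx₀⟩ := h.exn
  obtain ⟨w, hw, hcw⟩ := h.exm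
  obtain ⟨z, hzx, hz1, q, hq, hoz⟩ := exists_primary hx₀
  have hcz : ci z = n := hmin z hz1 (hcx₀ ▸ ci_dvd_of_zpow hzx)
  have hnil : Group.IsNilpotent (cen z) := isNilpotent_of_mx (k := 1) (hmx z hcz) hq (by rw [pow_one, hoz])
  have hZs : ∀ p : ℕ, p.Prime → p ∣ n → p ∣ M → Zs G m p := by
    intro p hp h1 h2
    have : Fact p.Prime := ⟨hp⟩
    have hd : p ∣ Nat.card G := h1.trans (hcx₀ ▸ index_dvd_card _)
    obtain ⟨P⟩ : Nonempty (Sylow p G) := inferInstance
    obtain ⟨y, hy, hy1, hPy, hk⟩ := exists_central hd P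
    have h3 := not_dvd_ci y P hPy
    rcases h.sz y hy1 with h4 | h4 | h4
    · exact ⟨hp, P, y, hy, hPy, hk, h4⟩
    · exact absurd (h4 ▸ h2) h3
    · exact absurd (h4 ▸ h1) h3
  have hD : ∀ p₁ p₂ : ℕ, p₁.Prime → p₂.Prime → p₁ ∣ n → p₂ ∣ n → p₁ ∣ M → p₂ ∣ M → p₁ = p₂ := by
    intro p₁ p₂ hp₁ hp₂ h1 h2 h3 h4
    by_contra hne
    obtain ⟨-, P₁, x₁, -, -, ⟨k₁, ho₁⟩, hc₁⟩ := hZs p₁ hp₁ h1 h3
    obtain ⟨-, P₂, x₂, hx₂, hP₂, ⟨k₂, ho₂⟩, hc₂⟩ := hZs p₂ hp₂ h2 h4
    have hK := isNilpotent_of_two h.mul hp₁ hp₂ hne h4 ho₁ ho₂ hc₁ hc₂ P₂ hx₂ hP₂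
    apply hns
    refine isSolvable_of_coprime hK hnil ?_
    have h5 : (cen x₁).index = m := hc₁
    have h6 : (cen z).index = n := hcz
    rw [h5, h6]
    exact h.cop
  obtain ⟨N, hN, hper, hnt⟩ := exists_perfect hns
  by_cases hI : ∃ r : ℕ, r.Prime ∧ r ∣ n ∧ ¬ r ∣ M ∧ r ∣ Nat.card N
  · obtain ⟨r, hr, hrn, hrM, hrN⟩ := hI
    have hrm : ¬ r ∣ m := fun h1 => hrM (h1.trans h.hmM)
    have h1 : ∀ t : ℕ, t.Prime → t ∣ Nat.card N → t ∣ n := by
      intro t ht htN
      by_contra htn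
      have hne : r ≠ t := by
        rintro rfl
        exact htn hrn
      have hnon : ∀ x : N, ¬ r * t ∣ (centralizer ({x} : Set N)).index := by
        intro x hx
        have h2 : r * t ∣ ci (x : G) := hx.trans (ci_subgroup_dvd N x)
        by_cases hx1 : (x : G) = 1
        · rw [hx1, ci_one, Nat.dvd_one] at h2
          exact hr.one_lt.ne' (Nat.eq_one_of_mul_eq_one_right h2)
        · rcases h.sz x hx1 with h3 | h3 | h3
          · exact hrm ((dvd_mul_right r t).trans (h3 ▸ h2))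
          · exact hrM ((dvd_mul_right r t).trans (h3 ▸ h2))
          · exact htn ((dvd_mul_left t r).trans (h3 ▸ h2))
      rcases Cfsg.Agent.S4160.result r t hr ht hne (exists_dvd_ci_of_perfect hper hr hrN)
        (exists_dvd_ci_of_perfect hper ht htN) hnon with h2 | h2
      · exact not_hnc hper hr hrN h2
      · exact not_hnc hper ht htN h2
    obtain ⟨x, hx⟩ := exists_dvd_ci_of_perfect hper hr hrN
    have hx' : r ∣ ci (x : G) := hx.trans (ci_subgroup_dvd N x)
    have hx1 : (x : G) ≠ 1 := by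
      intro h2
      rw [h2, ci_one, Nat.dvd_one] at hx'
      exact hr.one_lt.ne' hx'
    have hcx : ci (x : G) = n := by
      rcases h.sz x hx1 with h3 | h3 | h3
      · exact absurd (h3 ▸ hx') hrm
      · exact absurd (h3 ▸ hx') hrM
      · exact h3
    obtain ⟨y, hyx, hy1, p, hp, hoy⟩ := exists_primary hx1
    have hcy : ci y = n := hmin y hy1 (hcx ▸ ci_dvd_of_zpow hyx)
    have h2 : p ∣ ci w := by
      refine dvd_of_mx (k := 1) h.hZ hp (by rw [pow_one, hoy]) hy1 (hmx y hcy) ?_ hw ?_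
      · intro u hu hd
        rw [hcy] at hd ⊢
        exact hmin u hu hd
      · rw [hcw, hcy]
        exact h.cop
    have hyN : y ∈ N := by
      have h3 : zpowers (x : G) ≤ N := by
        rw [zpowers_le]
        exact x.2
      exact h3 hyx
    have h3 : p ∣ Nat.card N := by
      have := orderOf_dvd_natCard (⟨y, hyN⟩ : N)
      rwa [← Subgroup.orderOf_coe, hoy] at this
    rw [hcw] at h2
    have h4 := Nat.dvd_gcd h2 (h1 p hp h3)
    rw [h.cop] at h4
    exact hp.one_lt.ne' (Nat.dvd_one.1 h4)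
  · have hA : Group.IsNilpotent ((cen z).subgroupOf N) := by
      let f : (cen z).subgroupOf N →* cen z :=
        { toFun := fun y => ⟨((y : N) : G), y.2⟩
          map_one' := rfl
          map_mul' := fun _ _ => rfl }
      refine Subgroup.isNilpotent_of_ker_le_center f ?_
      intro y hy
      have h1 : ((y : N) : G) = 1 := congrArg Subtype.val (MonoidHom.mem_ker.1 hy)
      have h2 : y = 1 := Subtype.ext (Subtype.ext h1)
      rw [h2]
      exact one_mem _
    have hsol : Group.IsSolvable N := by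
      refine isSolvable_of_primes hA ?_
      intro p₁ p₂ hp₁ hp₂ h1 h2
      have h3 : ((cen z).subgroupOf N).index ∣ n := by
        rw [← hcz]
        exact relIndex_dvd_index (cen z) N
      have h4 : ((cen z).subgroupOf N).index ∣ Nat.card N := index_dvd_card _
      have h5 : ∀ p : ℕ, p.Prime → p ∣ ((cen z).subgroupOf N).index → p ∣ M := by
        intro p hp hd
        by_contra hne
        exact hI ⟨p, hp, hd.trans h3, hne, hd.trans h4⟩
      exact hD p₁ p₂ hp₁ hp₂ (h1.trans h3) (h2.trans h3) (h5 p₁ hp₁ h1) (h5 p₂ hp₂ h2)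
    exact (Group.IsSolvable.commutator_lt_top_of_nontrivial N).ne hper

theorem Sz.isSolvable (h : Sz G m M n) : Group.IsSolvable G := by
  by_cases hnM : n ∣ M
  · exact h.isSolvable_of_dvd hnM
  · exact h.isSolvable_of_not_dvd hnM

end Cfsg.Agent.H588.ThreeCase
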