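import Mathlib
import Cfsg.Agent.H588.ThreeCase
import Cfsg.Agent.H588.ThreeAnti

/-!
# Centreless groups with at most three class sizes other than 1 (helper588, for S4137)
-/

set_option autoImplicit false

namespace Cfsg.Agent.H588.ThreeMain

open Subgroup Cfsg.Agent.H528.ClassSize Cfsg.Agent.H588.ThreeBase

variable {G : Type*} [Group G] [Finite G]

/-- If the class sizes do not form an antichain there are exactly three, `m`, `M`, `n`. -/
theorem exists_sz (hZ : center G = ⊥) (h : Nat.card {n : ℕ | 1 < n ∧ ∃ x : G, ci x = n} ≤ 3)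
    (hna : ¬ ThreeAnti.Anti G) : ∃ m M n : ℕ, ThreeCase.Sz G m M n := by
  unfold ThreeAnti.Anti at hna
  push Not at hna
  obtain ⟨x, y, hx, hy, hd, hne⟩ := hna
  have hfin : {n : ℕ | 1 < n ∧ ∃ x : G, ci x = n}.Finite := by
    apply (Set.finite_range (fun x : G => ci x)).subset
    rintro n ⟨-, z, hz⟩
    exact ⟨z, hz⟩
  have hmem : ∀ z : G, z ≠ 1 → ci z ∈ {n : ℕ | 1 < n ∧ ∃ x : G, ci x = n} := fun z hz =>
    ⟨one_lt_ci hZ hz, z, rfl⟩
  -- central elements of Sylow subgroups for the prime divisors of `ci x`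
  have hcen : ∀ p : ℕ, p.Prime → p ∣ ci x → ∃ z : G, z ≠ 1 ∧ ¬ p ∣ ci z := by
    intro p hp hpd
    have : Fact p.Prime := ⟨hp⟩
    obtain ⟨P⟩ : Nonempty (Sylow p G) := inferInstance
    obtain ⟨z, -, hz1, hPz, -⟩ := exists_central (hpd.trans (index_dvd_card _)) P
    exact ⟨z, hz1, not_dvd_ci z P hPz⟩
  obtain ⟨p, hp, hpd⟩ := Nat.exists_prime_and_dvd (ci_ne_one hZ hx)
  obtain ⟨z, hz1, hpz⟩ := hcen p hp hpd
  have hzx : ci z ≠ ci x := fun h1 => hpz (h1 ▸ hpd)
  have hzy : ci z ≠ ci y := fun h1 => hpz (h1 ▸ hpd.trans hd)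
  have hsz : ∀ u : G, u ≠ 1 → ci u = ci x ∨ ci u = ci y ∨ ci u = ci z := by
    intro u hu
    by_contra hcon
    push Not at hcon
    obtain ⟨h1, h2, h3⟩ := hcon
    have hsub : (({ci u, ci x, ci y, ci z} : Finset ℕ) : Set ℕ) ⊆ {n : ℕ | 1 < n ∧ ∃ x : G, ci x = n} := by
      intro v hv
      simp only [Finset.coe_insert, Finset.coe_singleton, Set.mem_insert_iff, Set.mem_singleton_iff] at hv
      rcases hv with rfl | rfl | rfl | rfl
      · exact hmem u hu
      · exact hmem x hx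
      · exact hmem y hy
      · exact hmem z hz1
    have h4 := Set.ncard_le_ncard hsub hfin
    rw [Set.ncard_coe_finset] at h4
    have h5 : ({ci u, ci x, ci y, ci z} : Finset ℕ).card = 4 := by
      rw [Finset.card_insert_of_notMem, Finset.card_insert_of_notMem, Finset.card_insert_of_notMem,
        Finset.card_singleton]
      · simpa using hzy.symm
      · simp only [Finset.mem_insert, Finset.mem_singleton, not_or]
        exact ⟨hne.symm, hzx.symm⟩
      · simp only [Finset.mem_insert, Finset.mem_singleton, not_or]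
        exact ⟨h1, h2, h3⟩
    rw [h5] at h4
    have h6 : {n : ℕ | 1 < n ∧ ∃ x : G, ci x = n}.ncard ≤ 3 := h
    omega
  refine ⟨ci x, ci y, ci z, ?_⟩
  refine
    { hZ := hZ
      sz := hsz
      hm := one_lt_ci hZ hx
      hn := one_lt_ci hZ hz1
      hmM := hd
      cop := ?_
      exm := ⟨x, hx, rfl⟩
      exn := ⟨z, hz1, rfl⟩ }
  apply Nat.coprime_of_dvd
  intro q hq h1 h2
  obtain ⟨u, hu1, hu⟩ := hcen q hq h1
  rcases hsz u hu1 with h3 | h3 | h3
  · exact hu (h3 ▸ h1)
  · exact hu (h3 ▸ h1.trans hd)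
  · exact hu (h3 ▸ h2)

/-- **The theorem.** -/
theorem main (hZ : center G = ⊥) (h : Nat.card {n : ℕ | 1 < n ∧ ∃ x : G, ci x = n} ≤ 3) :
    Group.IsSolvable G ∨
      ∃ a : ℕ, 0 < a ∧ Nonempty (G ≃* Matrix.ProjectiveSpecialLinearGroup (Fin 2) (GaloisField 2 a)) := by
  by_cases hs : Group.IsSolvable G
  · exact Or.inl hs
  · by_cases ha : ThreeAnti.Anti G
    · exact Or.inr (ha.main hZ hs)
    · obtain ⟨m, M, n, hS⟩ := exists_sz hZ h ha
      exact absurd hS.isSolvable hs

end Cfsg.Agent.H588.ThreeMain
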